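import Mathlib
import Cfsg.Agent.S0713

/-!
# Transitive groups of degree less than `2p` containing an element of order `p`
-/

set_option autoImplicit false

namespace Cfsg.Agent.Lead.FixBound

open MulAction
open scoped Pointwise

variable {α : Type*} [Fintype α] [DecidableEq α] {p : ℕ} [Fact p.Prime]

theorem sign_eq_one_of_odd {g : Equiv.Perm α} (h : ¬ 2 ∣ orderOf g) : Equiv.Perm.sign g = 1 := by
  rcases Int.units_eq_one_or (Equiv.Perm.sign g) with h1 | h1
  · exact h1
  · exfalso
    have h2 := orderOf_map_dvd Equiv.Perm.sign g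
    have h3 : orderOf (Equiv.Perm.sign g) = 2 := by
      rw [h1]
      exact orderOf_eq_prime (by decide) (by decide)
    exact h (h3 ▸ h2)

/-- Such a group is primitive. -/
theorem preprimitive_of_small (H : Subgroup (Equiv.Perm α)) [IsPretransitive H α]
    (hv : Fintype.card α < 2 * p) {g : Equiv.Perm α} (hg : g ∈ H) (hgo : orderOf g = p) :
    IsPreprimitive H α := by
  refine ⟨fun {B} hB => ?_⟩
  by_contra hnt
  simp only [IsTrivialBlock, not_or] at hnt
  obtain ⟨hsub, huniv⟩ := hnt
  have hp := (Fact.out : p.Prime).two_le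
  have hne : B.Nonempty := Set.nonempty_iff_ne_empty.2 fun e => hsub (e ▸ Set.subsingleton_empty)
  have hm2 : 2 ≤ B.ncard :=
    (Set.one_lt_ncard (Set.toFinite _)).2 (Set.not_subsingleton_iff.1 hsub)
  have hcard := hB.ncard_block_mul_ncard_orbit_eq hne
  rw [Nat.card_eq_fintype_card] at hcard
  set 𝔅 := orbit H B with h𝔅
  have hr : 𝔅.ncard < p := by
    by_contra h
    have : 2 * p ≤ B.ncard * 𝔅.ncard := Nat.mul_le_mul hm2 (by omega)
    omega
  -- the element fixes every block
  have hfix : ∀ S ∈ 𝔅, (⟨g, hg⟩ : H) • S = S := by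
    intro S hS
    have hz : IsPGroup p (Subgroup.zpowers (⟨g, hg⟩ : H)) := by
      refine IsPGroup.of_card (n := 1) ?_
      rw [Nat.card_zpowers, Subgroup.orderOf_mk, hgo, pow_one]
    obtain ⟨k, hk⟩ := hz.card_orbit S
    have hsubo : orbit (Subgroup.zpowers (⟨g, hg⟩ : H)) S ⊆ 𝔅 := by
      rintro _ ⟨z, rfl⟩
      obtain ⟨t, ht⟩ := hS
      exact ⟨(z : H) * t, by rw [← ht]; exact mul_smul (z : H) t B⟩
    have h1 : (orbit (Subgroup.zpowers (⟨g, hg⟩ : H)) S).ncard < p :=
      (Set.ncard_le_ncard hsubo (Set.toFinite _)).trans_lt hr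
    rw [← Nat.card_coe_set_eq, hk] at h1
    have hk0 : k = 0 := by
      by_contra h
      exact absurd h1 (not_lt.2 (Nat.le_self_pow h p))
    rw [hk0, pow_zero, Nat.card_coe_set_eq] at hk
    exact (Set.ncard_le_one (Set.toFinite _)).1 hk.le _
      ⟨⟨_, Subgroup.mem_zpowers _⟩, rfl⟩ _ (mem_orbit_self S)
  obtain ⟨c, hc⟩ : ∃ c, g c ≠ c := by
    by_contra h
    push Not at h
    rw [show g = 1 from Equiv.ext h, orderOf_one] at hgo
    omega
  obtain ⟨b, hb⟩ := hne
  obtain ⟨t, ht⟩ := MulAction.exists_smul_eq H b c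
  have hcS : c ∈ t • B := ht ▸ Set.smul_mem_smul_set hb
  have hSfix := hfix _ ⟨t, rfl⟩
  have hz : IsPGroup p (Subgroup.zpowers g) := by
    refine IsPGroup.of_card (n := 1) ?_
    rw [Nat.card_zpowers, hgo, pow_one]
  obtain ⟨k, hk⟩ := hz.card_orbit c
  have hsub' : orbit (Subgroup.zpowers g) c ⊆ t • B := by
    rintro _ ⟨⟨_, i, rfl⟩, rfl⟩
    show (g ^ i) • c ∈ t • B
    have h1 : ((⟨g, hg⟩ : H) ^ i) • (t • B) = t • B :=
      smul_eq_self_of_mem_zpowers (zpow_mem (Subgroup.mem_zpowers _) i) hSfix
    rw [← h1]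
    exact ⟨c, hcS, by simp [Subgroup.smul_def]⟩
  have hkpos : 0 < k := by
    by_contra h
    rw [show k = 0 by omega, pow_zero, Nat.card_coe_set_eq] at hk
    exact hc ((Set.ncard_le_one (Set.toFinite _)).1 hk.le _
      ⟨⟨g, Subgroup.mem_zpowers g⟩, rfl⟩ _ (mem_orbit_self c))
  have h2 : p ≤ B.ncard := by
    calc p ≤ p ^ k := Nat.le_self_pow hkpos.ne' p
      _ = (orbit (Subgroup.zpowers g) c).ncard := by rw [← Nat.card_coe_set_eq, hk]
      _ ≤ (t • B).ncard := Set.ncard_le_ncard hsub' (Set.toFinite _)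
      _ = B.ncard := Set.ncard_smul_set t B
  have h3 : 2 ≤ 𝔅.ncard := by
    by_contra h
    have hpos : 0 < 𝔅.ncard := (Set.ncard_pos (Set.toFinite _)).2 ⟨B, mem_orbit_self B⟩
    rw [show 𝔅.ncard = 1 by omega, mul_one] at hcard
    exact huniv (Set.eq_of_subset_of_ncard_le (Set.subset_univ _) (by
      rw [Set.ncard_univ, Nat.card_eq_fintype_card, ← hcard]))
  have : p * 2 ≤ B.ncard * 𝔅.ncard := Nat.mul_le_mul h2 h3
  omega

/-- Such a group of even permutations is alternating, given three fixed points or degree five. -/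
theorem eq_alt (H : Subgroup (Equiv.Perm α)) [IsPretransitive H α] (hH : H ≤ alternatingGroup α)
    (hv : Fintype.card α < 2 * p) {g : Equiv.Perm α} (hg : g ∈ H) (hgo : orderOf g = p)
    (hcase : p + 3 ≤ Fintype.card α ∨ (p = 3 ∧ Fintype.card α = 5)) :
    H = alternatingGroup α := by
  refine le_antisymm hH ?_
  rcases hcase with h3 | ⟨rfl, h5⟩
  · haveI := preprimitive_of_small H hv hg hgo
    have hcyc : g.IsCycle := Equiv.Perm.isCycle_of_prime_order (hgo.symm ▸ Fact.out)
      (lt_of_le_of_lt (Finset.card_le_univ _) (by rw [hgo]; omega))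
    have hp := (Fact.out : p.Prime).two_le
    exact Cfsg.Agent.S0713.result H inferInstance Fact.out (by omega) h3 hcyc
      (hcyc.orderOf.symm.trans hgo) hg
  · haveI : Nontrivial α := Fintype.one_lt_card_iff_nontrivial.1 (by omega)
    set A := alternatingGroup α
    have hA : Nat.card A = 60 := by
      have h := two_mul_card_alternatingGroup (α := α)
      rw [Fintype.card_perm, h5, ← Nat.card_eq_fintype_card] at h
      have : Nat.factorial 5 = 120 := by norm_num [Nat.factorial]
      show Nat.card (alternatingGroup α) = 60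
      omega
    have d3 : 3 ∣ Nat.card H := by
      rw [← hgo, ← Subgroup.orderOf_mk g hg]
      exact orderOf_dvd_natCard _
    have d5 : 5 ∣ Nat.card H := by
      obtain ⟨c⟩ : Nonempty α := inferInstance
      rw [← h5, ← Nat.card_eq_fintype_card, ← index_stabilizer_of_transitive H c]
      exact Subgroup.index_dvd_card _
    set K := H.subgroupOf A
    have hKH : Nat.card K = Nat.card H := Nat.card_congr (Subgroup.subgroupOfEquivOfLe hH).toEquiv
    have hidx := K.card_mul_index
    rw [hA, hKH] at hidx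
    have hle : K.index ≤ 4 := by
      obtain ⟨u, hu⟩ : 15 ∣ Nat.card H := Nat.Coprime.mul_dvd_of_dvd_of_dvd (by norm_num) d3 d5
      have hu0 : 0 < u := by
        by_contra h
        rw [show u = 0 by omega, mul_zero] at hu
        exact Nat.card_pos.ne' hu
      have : 15 * K.index ≤ Nat.card H * K.index :=
        Nat.mul_le_mul_right _ (by rw [hu]; omega)
      omega
    haveI : IsSimpleGroup A := alternatingGroup.isSimpleGroup (by rw [Nat.card_eq_fintype_card]; omega)
    rcases (inferInstance : K.normalCore.Normal).eq_bot_or_eq_top with h | h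
    · exfalso
      have h1 : K.normalCore.index ∣ K.index.factorial := by
        rw [Subgroup.normalCore_eq_ker, Subgroup.index_ker]
        refine (Subgroup.card_subgroup_dvd_card _).trans ?_
        rw [Nat.card_perm, Subgroup.index_eq_card]
      rw [h, Subgroup.index_bot, hA] at h1
      have h2 : K.index.factorial ≤ 24 := (Nat.factorial_le hle).trans (by norm_num [Nat.factorial])
      have := Nat.le_of_dvd (Nat.factorial_pos _) h1
      omega
    · have : K = ⊤ := top_le_iff.1 (h ▸ Subgroup.normalCore_le K)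
      exact Subgroup.subgroupOf_eq_top.1 this

end Cfsg.Agent.Lead.FixBound
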