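import Mathlib

/-!
# Fixed points of a Sylow subgroup of a transitive group: basic notions

`G` is generated by its elements of `p`-power order and acts transitively on `Ω`; `P` is a Sylow
`p`-subgroup with fixed point set `F`.  The target is `f ≤ (p - 1) q`, where `f = |F|` and
`|Ω| = f + p q`, together with the structure of the extreme cases.
-/

set_option autoImplicit false

namespace Cfsg.Agent.Lead.FixBound

open MulAction
open scoped Pointwise

universe u v

variable {p : ℕ} {G : Type u} [Group G] {Ω : Type v} [MulAction G Ω]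

/-- An element of `p`-power order. -/
def IsPEl (p : ℕ) (g : G) : Prop := ∃ k : ℕ, orderOf g = p ^ k

/-- The subgroup generated by the elements of `p`-power order of `H`. -/
def pcl (p : ℕ) (H : Subgroup G) : Subgroup G := Subgroup.closure {g | g ∈ H ∧ IsPEl p g}

theorem isPEl_iff_mem [Fact p.Prime] {g : G} :
    IsPEl p g ↔ IsPGroup p (Subgroup.zpowers g) := by
  rw [IsPEl, IsPGroup]
  constructor
  · rintro ⟨k, hk⟩ ⟨x, hx⟩
    obtain ⟨i, rfl⟩ := hx
    refine ⟨k, Subtype.ext ?_⟩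
    show (g ^ i) ^ p ^ k = 1
    rw [← hk, ← zpow_natCast (g ^ i), ← zpow_mul, mul_comm, zpow_mul, zpow_natCast,
      pow_orderOf_eq_one, one_zpow]
  · intro h
    obtain ⟨k, hk⟩ := h ⟨g, Subgroup.mem_zpowers g⟩
    have := orderOf_dvd_of_pow_eq_one (congrArg Subtype.val hk : g ^ p ^ k = 1)
    obtain ⟨j, -, hj⟩ := (Nat.dvd_prime_pow Fact.out).1 this
    exact ⟨j, hj⟩

theorem IsPEl.conj {g : G} (h : IsPEl p g) (x : G) : IsPEl p (x * g * x⁻¹) := by
  obtain ⟨k, hk⟩ := h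
  exact ⟨k, by rw [← hk]; exact (MulEquiv.orderOf_eq (MulAut.conj x) g)⟩

theorem isPEl_of_mem [Fact p.Prime] {P : Subgroup G} (hP : IsPGroup p P) {g : G} (hg : g ∈ P) :
    IsPEl p g :=
  isPEl_iff_mem.2 (hP.to_le (Subgroup.zpowers_le.2 hg))

theorem pcl_le (H : Subgroup G) : pcl p H ≤ H :=
  (Subgroup.closure_le H).2 fun _ h => h.1

theorem mem_pcl {H : Subgroup G} {g : G} (hg : g ∈ H) (hp : IsPEl p g) : g ∈ pcl p H :=
  Subgroup.subset_closure ⟨hg, hp⟩

theorem pcl_mono {H K : Subgroup G} (h : H ≤ K) : pcl p H ≤ pcl p K :=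
  Subgroup.closure_mono fun _ hx => ⟨h hx.1, hx.2⟩

theorem le_pcl [Fact p.Prime] {P H : Subgroup G} (hP : IsPGroup p P) (h : P ≤ H) :
    P ≤ pcl p H :=
  fun _ hx => mem_pcl (h hx) (isPEl_of_mem hP hx)

theorem pcl_idem (H : Subgroup G) : pcl p (pcl p H) = pcl p H :=
  le_antisymm (pcl_le _) ((Subgroup.closure_le _).2 fun _ hx =>
    mem_pcl (mem_pcl hx.1 hx.2) hx.2)

theorem conj_mem_pcl {H : Subgroup G} {x : G} (hx : ∀ h ∈ H, x * h * x⁻¹ ∈ H) {g : G}
    (hg : g ∈ pcl p H) : x * g * x⁻¹ ∈ pcl p H := by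
  induction hg using Subgroup.closure_induction with
  | mem y hy => exact mem_pcl (hx y hy.1) (hy.2.conj x)
  | one => simp [one_mem]
  | mul a b _ _ ha hb =>
    rw [show x * (a * b) * x⁻¹ = x * a * x⁻¹ * (x * b * x⁻¹) by group]; exact mul_mem ha hb
  | inv a _ ha =>
    rw [show x * a⁻¹ * x⁻¹ = (x * a * x⁻¹)⁻¹ by group]; exact inv_mem ha

theorem pgen_pcl (H : Subgroup G) :
    Subgroup.closure {g : pcl p H | ∃ k : ℕ, orderOf g = p ^ k} = ⊤ := by
  refine eq_top_iff.2 ?_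
  rintro ⟨x, hx⟩ -
  induction hx using Subgroup.closure_induction with
  | mem y hy =>
    refine Subgroup.subset_closure ?_
    obtain ⟨k, hk⟩ := hy.2
    exact ⟨k, (Subgroup.orderOf_mk y _).trans hk⟩
  | one => exact one_mem _
  | mul a b _ _ ha hb => exact mul_mem ha hb
  | inv a _ ha => exact inv_mem ha

/-- The class function whose fibres are the finest candidate classes. -/
def key (H : Subgroup G) (F : Set Ω) (c : Ω) : Set G := {g | g ∈ H ∧ g • c ∈ F}

/-- `O` splits into fewer than `2p` classes saturated for `F`. -/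
def GoodOn (p : ℕ) (H : Subgroup G) (F O : Set Ω) : Prop := ((key H F) '' O).ncard < 2 * p

/-- The bound on one orbit `O` of `H`. -/
def Bnd (p : ℕ) (H : Subgroup G) (F O : Set Ω) : Prop :=
  (F ∩ O).ncard ≤ (p - 1) * ((O.ncard - (F ∩ O).ncard) / p) ∧
    (0 < (F ∩ O).ncard →
      (∀ i, i < (p - 1) * ((O.ncard - (F ∩ O).ncard) / p) - (F ∩ O).ncard →
        ¬ p ∣ (O.ncard - (F ∩ O).ncard) / p + i) →
      GoodOn p H F O)

/-- The induction hypothesis: the bound for all degrees below `n`. -/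
def Below (p : ℕ) (n : ℕ) : Prop :=
  ∀ (G' : Type u) (Ω' : Type v) [Group G'] [MulAction G' Ω'] [Finite G'] [Finite Ω']
    (P : Sylow p G'), MulAction.IsPretransitive G' Ω' →
    Subgroup.closure {g : G' | ∃ k : ℕ, orderOf g = p ^ k} = ⊤ →
    2 ≤ Nat.card Ω' → Nat.card Ω' < n →
    Bnd p (⊤ : Subgroup G') (fixedPoints (P : Subgroup G') Ω') Set.univ

/-- Fixed points of a subgroup, as a set of points of `Ω`. -/
abbrev fx (P : Subgroup G) (Ω : Type v) [MulAction G Ω] : Set Ω := fixedPoints P Ω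

theorem mem_fx {P : Subgroup G} {c : Ω} : c ∈ fx P Ω ↔ ∀ x ∈ P, x • c = c :=
  ⟨fun h x hx => h ⟨x, hx⟩, fun h x => h x x.2⟩

theorem fx_anti {P Q : Subgroup G} (h : P ≤ Q) : fx Q Ω ⊆ fx P Ω :=
  fun _ hc => mem_fx.2 fun x hx => mem_fx.1 hc x (h hx)

variable [Finite Ω]

/-- An invariant set is, modulo `p`, as large as its fixed part. -/
theorem ncard_modEq [Fact p.Prime] {P : Subgroup G} (hP : IsPGroup p P) {O : Set Ω}
    (hO : ∀ x ∈ P, ∀ c ∈ O, x • c ∈ O) :
    O.ncard ≡ (fx P Ω ∩ O).ncard [MOD p] := by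
  let S : SubMulAction P Ω := ⟨O, fun x {c} hc => hO x x.2 c hc⟩
  have h := hP.card_modEq_card_fixedPoints S
  have e1 : Nat.card S = O.ncard := Nat.card_coe_set_eq O
  have e2 : Nat.card (fixedPoints P S) = (fx P Ω ∩ O).ncard := by
    rw [← Nat.card_coe_set_eq]
    refine Nat.card_congr
      { toFun := fun x => ⟨(x.1 : Ω), fun y => congrArg Subtype.val (x.2 y), x.1.2⟩
        invFun := fun x => ⟨⟨x.1, x.2.2⟩, fun y => Subtype.ext (x.2.1 y)⟩
        left_inv := fun x => rfl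
        right_inv := fun x => rfl }
  rwa [e1, e2] at h

/-- The number of `p`-blocks of moved points. -/
theorem ncard_eq_fixed_add [Fact p.Prime] {P : Subgroup G} (hP : IsPGroup p P) {O : Set Ω}
    (hO : ∀ x ∈ P, ∀ c ∈ O, x • c ∈ O) :
    O.ncard = (fx P Ω ∩ O).ncard + p * ((O.ncard - (fx P Ω ∩ O).ncard) / p) := by
  have hle : (fx P Ω ∩ O).ncard ≤ O.ncard := Set.ncard_le_ncard Set.inter_subset_right
  have hd : p ∣ O.ncard - (fx P Ω ∩ O).ncard :=
    (Nat.modEq_iff_dvd' hle).1 (ncard_modEq hP hO).symm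
  rw [Nat.mul_div_cancel' hd]
  omega

variable [Finite G]

omit [Finite G] [Finite Ω] in
theorem orbit_smul_mem {L : Subgroup G} {b c : Ω} {x : G} (hx : x ∈ L) (hc : c ∈ orbit L b) :
    x • c ∈ orbit L b := by
  obtain ⟨y, rfl⟩ := hc
  exact ⟨⟨x, hx⟩ * y, mul_smul x (y : G) b⟩

/-- A point fixed by a Sylow subgroup lies in an orbit of length prime to `p`. -/
theorem not_dvd_of_fixed [Fact p.Prime] (P : Sylow p G) {L : Subgroup G}
    (hPL : (P : Subgroup G) ≤ L) {b c : Ω} (hc : c ∈ fx (P : Subgroup G) Ω ∩ orbit L b) :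
    ¬ p ∣ (orbit L b).ncard := by
  have e : (orbit L b).ncard = (stabilizer L c).index := by
    rw [index_stabilizer, orbit_eq_iff.2 hc.2]
  rw [e]
  intro h
  have hle : (P.subtype hPL : Subgroup L) ≤ stabilizer L c := fun x hx =>
    mem_fx.1 hc.1 (x : G) (by simpa [Subgroup.mem_subgroupOf] using hx)
  exact (P.subtype hPL).not_dvd_index (h.trans (Subgroup.index_dvd_of_le hle))

/-- The induction hypothesis on one orbit of a subgroup containing `P`. -/
theorem bnd_orbit [Fact p.Prime] {n : ℕ} (IH : Below.{u, v} p n) (P : Sylow p G) (H : Subgroup G)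
    (hPH : (P : Subgroup G) ≤ pcl p H) (b : Ω) (h2 : 2 ≤ (orbit (pcl p H) b).ncard)
    (hn : (orbit (pcl p H) b).ncard < n) :
    Bnd p (pcl p H) (fx (P : Subgroup G) Ω) (orbit (pcl p H) b) := by
  set L := pcl p H with hL
  set O := orbit L b with hO
  have h := IH L O (P.subtype hPH) inferInstance (pgen_pcl H)
    (by rwa [Nat.card_coe_set_eq]) (by rwa [Nat.card_coe_set_eq])
  set F := fx (P : Subgroup G) Ω with hF
  set F' := fixedPoints (P.subtype hPH : Subgroup L) O with hF'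
  have hmem : ∀ c : O, c ∈ F' ↔ (c : Ω) ∈ F := by
    intro c
    constructor
    · intro hc
      exact mem_fx.2 fun x hx => congrArg Subtype.val
        (hc ⟨⟨x, hPH hx⟩, by simpa [Subgroup.mem_subgroupOf] using hx⟩)
    · intro hc x
      exact Subtype.ext (mem_fx.1 hc ((x : L) : G) (by
        have := x.2
        simpa [Subgroup.mem_subgroupOf] using this))
  have ef : (F' ∩ Set.univ).ncard = (F ∩ O).ncard := by
    rw [Set.inter_univ, ← Set.ncard_image_of_injective F' Subtype.val_injective]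
    congr 1
    ext c
    simp only [Set.mem_image, Set.mem_inter_iff]
    exact ⟨fun ⟨d, hd, e⟩ => e ▸ ⟨(hmem d).1 hd, d.2⟩,
      fun ⟨hc, hcO⟩ => ⟨⟨c, hcO⟩, (hmem _).2 hc, rfl⟩⟩
  have eO : (Set.univ : Set O).ncard = O.ncard := by
    rw [Set.ncard_univ, Nat.card_coe_set_eq]
  obtain ⟨h1, h3⟩ := h
  rw [ef, eO] at h1 h3
  refine ⟨h1, fun hf hres => ?_⟩
  have hg := h3 hf hres
  unfold GoodOn at hg ⊢
  refine lt_of_le_of_lt ?_ hg
  have hkey : ∀ c : O, key L F (c : Ω) =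
      (fun x : L => (x : G)) '' key (⊤ : Subgroup L) F' c := by
    intro c
    ext g
    constructor
    · rintro ⟨hg, hgc⟩
      exact ⟨⟨g, hg⟩, ⟨Subgroup.mem_top _, (hmem _).2 hgc⟩, rfl⟩
    · rintro ⟨x, ⟨-, hx⟩, rfl⟩
      exact ⟨x.2, (hmem _).1 hx⟩
  have : key L F '' O =
      (fun S : Set L => (fun x : L => (x : G)) '' S) '' (key (⊤ : Subgroup L) F' '' Set.univ) := by
    ext S
    simp only [Set.mem_image, Set.mem_univ, true_and]
    constructor
    · rintro ⟨c, hc, rfl⟩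
      exact ⟨_, ⟨⟨c, hc⟩, rfl⟩, (hkey ⟨c, hc⟩).symm⟩
    · rintro ⟨S', ⟨c, rfl⟩, rfl⟩
      exact ⟨c, c.2, hkey c⟩
  rw [this]
  exact Set.ncard_image_le

/-- A group generated by `p`-elements cannot act non-trivially with all its Sylow subgroups trivial. -/
theorem trivial_of_sylow_trivial [Fact p.Prime]
    (hgen : Subgroup.closure {g : G | ∃ k : ℕ, orderOf g = p ^ k} = ⊤) (P : Sylow p G)
    (h : ∀ (g : G) (c : Ω), g • c ∈ fx (P : Subgroup G) Ω) (g : G) (c : Ω) : g • c = c := by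
  have hg : g ∈ Subgroup.closure {g : G | ∃ k : ℕ, orderOf g = p ^ k} := hgen ▸ Subgroup.mem_top g
  revert c
  induction hg using Subgroup.closure_induction with
  | mem y hy =>
    intro c
    obtain ⟨Q, hQ⟩ := (isPEl_iff_mem.1 (hy : IsPEl p y)).exists_le_sylow
    obtain ⟨x, hx⟩ := MulAction.exists_smul_eq G P Q
    have hy' : x⁻¹ * y * x ∈ (P : Subgroup G) := by
      have h1 : y ∈ (Q : Subgroup G) := hQ (Subgroup.mem_zpowers y)
      rw [← hx, Sylow.coe_subgroup_smul, Subgroup.mem_pointwise_smul_iff_inv_smul_mem] at h1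
      simpa [MulAut.smul_def] using h1
    have e := mem_fx.1 (h x⁻¹ c) _ hy'
    rw [← mul_smul, mul_inv_cancel_right, mul_smul] at e
    exact MulAction.injective _ e
  | one => exact fun c => one_smul G c
  | mul a b _ _ ha hb => exact fun c => by rw [mul_smul, hb, ha]
  | inv a _ ha => exact fun c => by rw [inv_smul_eq_iff, ha]

/-- Saturation: a block system with `F` not a union of blocks costs `2p - 1`. -/
theorem block_count [Fact p.Prime] {n : ℕ} (IH : Below.{u, v} p n)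
    (hgen : Subgroup.closure {g : G | ∃ k : ℕ, orderOf g = p ^ k} = ⊤)
    [IsPretransitive G Ω] (P : Sylow p G) {B : Set Ω} (hB : IsBlock G B) {a : Ω} (ha : a ∈ B)
    (haF : a ∈ fx (P : Subgroup G) Ω) (hb : 2 ≤ B.ncard) (hBn : B.ncard < Nat.card Ω)
    (hn : Nat.card Ω ≤ n) :
    let F := fx (P : Subgroup G) Ω
    let q := (Nat.card Ω - F.ncard) / p
    ∃ fm qm l : ℕ, F.ncard + p * l = B.ncard * fm ∧ q = B.ncard * qm + l ∧ fm ≤ (p - 1) * qm ∧
      (l = 0 → (∀ g : G, (∀ x ∈ (P : Subgroup G), x • (g • B) = g • B) → g • B ⊆ F) ∧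
        ((∀ i, i < (p - 1) * qm - fm → ¬ p ∣ qm + i) →
          GoodOn p (⊤ : Subgroup G) F Set.univ)) := by
  classical
  intro F q
  set 𝔅 := orbit G B with h𝔅
  have hBne : B.Nonempty := ⟨a, ha⟩
  have hcard : B.ncard * 𝔅.ncard = Nat.card Ω := hB.ncard_block_mul_ncard_orbit_eq hBne
  have hm2 : 2 ≤ 𝔅.ncard := by
    by_contra h
    have hpos : 0 < 𝔅.ncard := (Set.ncard_pos).2 ⟨B, mem_orbit_self B⟩
    have : 𝔅.ncard = 1 := by omega
    rw [this, mul_one] at hcard
    omega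
  have hmn : 𝔅.ncard < n := by
    have : 2 * 𝔅.ncard ≤ B.ncard * 𝔅.ncard := Nat.mul_le_mul_right _ hb
    omega
  have h := IH G 𝔅 P inferInstance hgen (by rwa [Nat.card_coe_set_eq])
    (by rwa [Nat.card_coe_set_eq])
  set F' := fixedPoints (P : Subgroup G) 𝔅 with hF'
  have hmemF' : ∀ C : 𝔅, C ∈ F' ↔ ∀ x ∈ (P : Subgroup G), x • (C : Set Ω) = C := fun C =>
    ⟨fun hc x hx => congrArg Subtype.val (hc ⟨x, hx⟩),
      fun hc x => Subtype.ext (hc x x.2)⟩
  -- the block of a point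
  have hblk : ∀ c : Ω, ∃ C : 𝔅, c ∈ (C : Set Ω) := fun c => by
    obtain ⟨g, rfl⟩ := MulAction.exists_smul_eq G a c
    exact ⟨⟨g • B, mem_orbit B g⟩, Set.smul_mem_smul_set ha⟩
  choose π hπ using hblk
  have huniq : ∀ (C : 𝔅) (c : Ω), c ∈ (C : Set Ω) → C = π c := by
    intro C c hc
    obtain ⟨g₁, hg₁⟩ := C.2
    obtain ⟨g₂, hg₂⟩ := (π c).2
    refine Subtype.ext ?_
    rw [← hg₁, ← hg₂]
    refine (MulAction.isBlock_iff_smul_eq_smul_or_disjoint.1 hB g₁ g₂).resolve_right fun hd => ?_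
    have h1 : c ∈ g₁ • B := (Set.ext_iff.1 hg₁ c).2 hc
    have h2 : c ∈ g₂ • B := (Set.ext_iff.1 hg₂ c).2 (hπ c)
    exact Set.disjoint_left.1 hd h1 h2
  have hπeq : ∀ (g : G) (c : Ω), g • π c = π (g • c) := fun g c =>
    huniq _ _ (Set.smul_mem_smul_set (hπ c))
  have hFF : ∀ c ∈ F, π c ∈ F' := fun c hc x => by
    show (x : G) • π c = π c
    rw [hπeq, mem_fx.1 hc x x.2]
  set D : Set Ω := π ⁻¹' F' with hD
  have hsize : ∀ C : 𝔅, (π ⁻¹' {C}).ncard = B.ncard := by
    intro C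
    obtain ⟨g, hg⟩ := C.2
    have : π ⁻¹' {C} = (C : Set Ω) := Set.ext fun c =>
      ⟨fun hc => (Set.mem_singleton_iff.1 hc) ▸ hπ c, fun hc => (huniq C c hc).symm⟩
    rw [this, ← hg]
    exact Set.ncard_smul_set g B
  have hDcard : D.ncard = B.ncard * F'.ncard := by
    haveI : Fintype 𝔅 := Fintype.ofFinite _
    haveI : Fintype Ω := Fintype.ofFinite _
    rw [Set.ncard_eq_toFinset_card' D, Set.ncard_eq_toFinset_card' F',
      Finset.card_eq_sum_card_fiberwise (f := π) (t := F'.toFinset) fun c hc => by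
        simpa [hD] using hc, mul_comm, Finset.sum_const_nat fun C hC => ?_]
    rw [← hsize C, Set.ncard_eq_toFinset_card']
    congr 1
    ext c
    simp only [Finset.mem_filter, Set.mem_toFinset, Set.mem_preimage, hD, Set.mem_singleton_iff]
    exact ⟨fun hc => hc.2, fun hc => ⟨hc ▸ Set.mem_toFinset.1 hC, hc⟩⟩
  have hFD : F ⊆ D := fun c hc => hFF c hc
  have hPD : ∀ x ∈ (P : Subgroup G), ∀ c ∈ D, x • c ∈ D := fun x hx c hc => by
    show π (x • c) ∈ F'
    rw [← hπeq, show x • π c = π c from hc ⟨x, hx⟩]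
    exact hc
  have e1 := ncard_eq_fixed_add P.isPGroup' hPD
  rw [Set.inter_eq_left.2 hFD, hDcard] at e1
  set l := (B.ncard * F'.ncard - F.ncard) / p with hl
  have e2 := ncard_eq_fixed_add (Ω := 𝔅) P.isPGroup' (O := Set.univ) fun _ _ _ _ => trivial
  rw [Set.inter_univ, Set.ncard_univ, Nat.card_coe_set_eq] at e2
  set qm := (𝔅.ncard - F'.ncard) / p with hqm
  obtain ⟨h1, h3⟩ := h
  simp only [Set.inter_univ, Set.ncard_univ, Nat.card_coe_set_eq] at h1 h3
  change F'.ncard ≤ (p - 1) * qm at h1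
  refine ⟨F'.ncard, qm, l, e1.symm, ?_, h1, fun hl0 => ?_⟩
  · have hp : 0 < p := (Fact.out : p.Prime).pos
    have e3 : Nat.card Ω = F.ncard + p * (B.ncard * qm + l) := by
      have e1' : B.ncard * F'.ncard = F.ncard + p * l := e1
      calc Nat.card Ω = B.ncard * 𝔅.ncard := hcard.symm
        _ = B.ncard * F'.ncard + p * (B.ncard * qm) := by
          conv_lhs => rw [show 𝔅.ncard = F'.ncard + p * qm from e2]
          ring
        _ = _ := by rw [e1']; ring
    show (Nat.card Ω - F.ncard) / p = _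
    rw [e3, Nat.add_sub_cancel_left, Nat.mul_div_cancel_left _ hp]
  rw [hl0, mul_zero, add_zero] at e1
  have hDF : F = D := Set.eq_of_subset_of_ncard_le hFD (by rw [hDcard]; exact e1.le)
  have hFiff : ∀ c, c ∈ F ↔ π c ∈ F' := fun c => by
    conv_lhs => rw [hDF]
    rfl
  refine ⟨fun g hg d hd => ?_, fun hres => ?_⟩
  · rw [hFiff, ← huniq ⟨g • B, mem_orbit B g⟩ d hd]
    exact (hmemF' _).2 hg
  · have hf0 : 0 < F'.ncard := (Set.ncard_pos).2 ⟨_, hFF a haF⟩
    have hg := h3 hf0 hres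
    unfold GoodOn at hg ⊢
    refine lt_of_le_of_lt (le_of_eq ?_) hg
    have hkey : ∀ c, key (⊤ : Subgroup G) F c = key (⊤ : Subgroup G) F' (π c) := fun c => by
      ext g
      simp only [key, Set.mem_setOf_eq, hπeq, hFiff]
    rw [show key (⊤ : Subgroup G) F = key (⊤ : Subgroup G) F' ∘ π from funext hkey,
      Set.image_comp]
    congr 1
    rw [Set.image_univ]
    congr 1
    exact Set.eq_univ_of_forall fun C => by
      obtain ⟨g, hg⟩ := C.2
      exact ⟨g • a, (huniq C _ (hg ▸ Set.smul_mem_smul_set ha)).symm⟩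

end Cfsg.Agent.Lead.FixBound
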