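import Mathlib
import Cfsg.Agent.Lib.Solv.Coprime

/-!
# Coprime action: the number of fixed points divides the degree
-/

set_option autoImplicit false

namespace Cfsg.Agent.Lead.FixBound

open MulAction
open Cfsg.Agent.Solv
open scoped Pointwise

variable {G : Type*} [Group G] [Finite G]

theorem syl_fixed {p : ℕ} [Fact p.Prime] {A K R : Subgroup G} (hA : IsPGroup p A)
    (hAK : A ≤ Subgroup.normalizer (K : Set G)) (hco : (Nat.card A).Coprime (Nat.card K))
    {r : ℕ} [Fact r.Prime] (hR : IsSylIn r R K) (hRA : A ≤ Subgroup.normalizer (R : Set G)) :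
    IsSylIn r (R ⊓ Subgroup.centralizer (A : Set G)) (K ⊓ Subgroup.centralizer (A : Set G)) := by
  haveI : Group.IsNilpotent A := hA.isNilpotent
  have hsol : Group.IsSolvable A ∨ Group.IsSolvable K := Or.inl inferInstance
  set C := K ⊓ Subgroup.centralizer (A : Set G) with hC
  set S := R ⊓ Subgroup.centralizer (A : Set G) with hS
  have hSC : S ≤ C := inf_le_inf_right _ hR.1
  obtain ⟨U, hU⟩ := exists_isSylIn r C
  have hUA : A ≤ Subgroup.normalizer (U : Set G) := fun x hx => by
    rw [Subgroup.mem_normalizer_iff]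
    intro u
    constructor
    · intro hu
      have h := Subgroup.mem_centralizer_iff.1 (hU.1 hu).2 x hx
      rw [show x * u * x⁻¹ = u by rw [h]; group]
      exact hu
    · intro hu
      have h := Subgroup.mem_centralizer_iff.1 (hU.1 hu).2 x hx
      have e : x * u * x⁻¹ = u := mul_left_cancel (h.trans (by group : x * u * x⁻¹ * x = x * u))
      rwa [e] at hu
  obtain ⟨Q, hQ, hUQ, hQA⟩ := exists_invariant_sylow_ge hAK hco hsol U (hU.1.trans inf_le_left)
    hU.isPGroup hUA
  obtain ⟨c, hc, hcQ⟩ := invariant_sylow_conj hAK hco hsol hQ hR hQA hRA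
  have hsub : MulAut.conj c • U ≤ S := by
    refine le_inf ((Subgroup.pointwise_smul_le_pointwise_smul_iff.2 hUQ).trans hcQ.le) ?_
    intro x hx
    have : x ∈ MulAut.conj c • C := Subgroup.pointwise_smul_le_pointwise_smul_iff.2 hU.1 hx
    rw [Subgroup.conj_smul_eq_self_of_mem hc] at this
    exact this.2
  refine ⟨hSC, Nat.le_antisymm ?_ ?_⟩
  · obtain ⟨k, hk⟩ := IsPGroup.iff_card.1 (hR.isPGroup.to_le (inf_le_left : S ≤ R))
    rw [hk]
    exact Nat.pow_le_pow_right (Fact.out : r.Prime).pos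
      ((Nat.Prime.pow_dvd_iff_le_factorization Fact.out Nat.card_pos.ne').1
        (hk ▸ Subgroup.card_dvd_of_le hSC))
  · rw [← hU.2, ← card_conj_smul c U]
    exact Subgroup.card_le_of_le hsub

/-- The fixed index divides the index. -/
theorem fixed_card_dvd {p : ℕ} [Fact p.Prime] {A K K0 : Subgroup G} (hA : IsPGroup p A)
    (hK0 : K0 ≤ K) (hAK : A ≤ Subgroup.normalizer (K : Set G))
    (hAK0 : A ≤ Subgroup.normalizer (K0 : Set G)) (hco : (Nat.card A).Coprime (Nat.card K)) :
    Nat.card (K ⊓ Subgroup.centralizer (A : Set G) : Subgroup G) * Nat.card K0 ∣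
      Nat.card K * Nat.card (K0 ⊓ Subgroup.centralizer (A : Set G) : Subgroup G) := by
  rw [Nat.dvd_iff_prime_pow_dvd_dvd]
  intro r k hr hdvd
  haveI := Fact.mk hr
  haveI : Group.IsNilpotent A := hA.isNilpotent
  have hsol : Group.IsSolvable A ∨ Group.IsSolvable K := Or.inl inferInstance
  have hco0 := hco.coprime_dvd_right (Subgroup.card_dvd_of_le hK0)
  obtain ⟨R0, hR0, hR0A⟩ := exists_invariant_sylow hAK0 hco0 (Or.inl inferInstance) r
  obtain ⟨R, hR, hR0R, hRA⟩ := exists_invariant_sylow_ge hAK hco hsol R0 (hR0.1.trans hK0)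
    hR0.isPGroup hR0A
  have hS := syl_fixed hA hAK hco hR hRA
  have hS0 := syl_fixed hA hAK0 hco0 hR0 hR0A
  set Z := Subgroup.centralizer (A : Set G) with hZ
  set S := R ⊓ Z with hSdef
  set S0 := R0 ⊓ Z with hS0def
  have e1 : S0.relIndex S = R0.relIndex S := by
    have : S0 = R0 ⊓ S := by
      rw [hS0def, hSdef, ← inf_assoc, inf_eq_left.2 hR0R]
    rw [this, Subgroup.inf_relIndex_right]
  have e2 : R0.relIndex S ≤ R0.relIndex R := Subgroup.relIndex_le_of_le_right inf_le_left (by
    rw [Subgroup.relIndex]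
    exact Subgroup.index_ne_zero_of_finite)
  have cS : Nat.card S = Nat.card S0 * S0.relIndex S := by
    rw [Subgroup.relIndex, ← card_subgroupOf (inf_le_inf_right Z hR0R : S0 ≤ S)]
    exact (Subgroup.card_mul_index _).symm
  have cR : Nat.card R = Nat.card R0 * R0.relIndex R := by
    rw [Subgroup.relIndex, ← card_subgroupOf hR0R]
    exact (Subgroup.card_mul_index _).symm
  have hle : Nat.card S * Nat.card R0 ≤ Nat.card R * Nat.card S0 := by
    rw [cS, cR, e1]
    calc Nat.card S0 * R0.relIndex S * Nat.card R0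
        = Nat.card R0 * R0.relIndex S * Nat.card S0 := by ring
      _ ≤ Nat.card R0 * R0.relIndex R * Nat.card S0 :=
          Nat.mul_le_mul_right _ (Nat.mul_le_mul_left _ e2)
  rw [hS.2, hR0.2, hR.2, hS0.2, ← pow_add, ← pow_add,
    Nat.pow_le_pow_iff_right hr.one_lt] at hle
  rw [Nat.Prime.pow_dvd_iff_le_factorization hr
    (Nat.mul_ne_zero Nat.card_pos.ne' Nat.card_pos.ne'), Nat.factorization_mul Nat.card_pos.ne'
    Nat.card_pos.ne', Finsupp.add_apply] at hdvd ⊢
  omega

/-- A coprime `p`-group fixing a point of a transitive set fixes a divisor of its size. -/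
theorem fixed_dvd {p : ℕ} [Fact p.Prime] {Ω : Type*} [MulAction G Ω] {A K : Subgroup G}
    (hA : IsPGroup p A) (hAK : A ≤ Subgroup.normalizer (K : Set G))
    (hco : (Nat.card A).Coprime (Nat.card K)) {c : Ω} (hc : ∀ x ∈ A, x • c = c) :
    ({d | ∀ x ∈ A, x • d = d} ∩ orbit K c).ncard ∣ (orbit K c).ncard := by
  set Z := Subgroup.centralizer (A : Set G) with hZ
  set K0 := K ⊓ stabilizer G c with hK0
  have hAK0 : A ≤ Subgroup.normalizer (K0 : Set G) := fun a ha => by
    refine mem_normalizer_of_conj_smul ?_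
    rw [hK0, Subgroup.smul_inf, conj_smul_of_mem_normalizer (hAK ha),
      Subgroup.conj_smul_eq_self_of_mem (mem_stabilizer_iff.2 (hc a ha) : a ∈ stabilizer G c)]
  have hfix : {d | ∀ x ∈ A, x • d = d} ∩ orbit K c = orbit (K ⊓ Z : Subgroup G) c := by
    ext d
    constructor
    · rintro ⟨hd, ⟨⟨k, hk⟩, rfl⟩⟩
      haveI : Group.IsNilpotent A := hA.isNilpotent
      obtain ⟨e, he, hek⟩ := exists_fixed_in_coset' A K K0 hAK hco (Or.inl inferInstance)
        inf_le_left hAK0 hk (fun a ha => Subgroup.mem_inf.2 ⟨K.mul_mem (K.inv_mem hk)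
          ((Subgroup.mem_normalizer_iff.1 (hAK ha) k).1 hk), mem_stabilizer_iff.2 (by
          have h1 : a⁻¹ • c = c := inv_smul_eq_iff.2 (hc a ha).symm
          rw [mul_smul, mul_smul, mul_smul, h1, show a • k • c = k • c from
            hd a ha, inv_smul_smul])⟩)
      refine ⟨⟨e, he⟩, ?_⟩
      have := mem_stabilizer_iff.1 hek.2
      rw [mul_smul, inv_smul_eq_iff] at this
      exact this
    · rintro ⟨⟨e, he⟩, rfl⟩
      refine ⟨fun x hx => ?_, ⟨⟨e, he.1⟩, rfl⟩⟩
      show x • e • c = e • c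
      rw [smul_smul, Subgroup.mem_centralizer_iff.1 he.2 x hx, mul_smul, hc x hx]
  have horb : ∀ H : Subgroup G, (orbit H c).ncard * Nat.card (H ⊓ stabilizer G c : Subgroup G) =
      Nat.card H := by
    intro H
    have e : (stabilizer H c) = (stabilizer G c).subgroupOf H := rfl
    rw [← index_stabilizer, mul_comm, e, ← Subgroup.inf_subgroupOf_left,
      ← card_subgroupOf (inf_le_left : H ⊓ stabilizer G c ≤ H)]
    exact Subgroup.card_mul_index _
  rw [hfix]
  set C := K ⊓ Z
  have h1 := horb K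
  have h2 := horb C
  have h3 := fixed_card_dvd hA (inf_le_left : K0 ≤ K) hAK hAK0 hco
  have e0 : C ⊓ stabilizer G c = K0 ⊓ Z := by
    rw [hK0, inf_right_comm]
  rw [e0] at h2
  rw [show Nat.card (K ⊓ Z : Subgroup G) = _ from h2.symm, ← h1] at h3
  rw [show (orbit C c).ncard * Nat.card (K0 ⊓ Z : Subgroup G) * Nat.card K0 =
      (orbit C c).ncard * (Nat.card K0 * Nat.card (K0 ⊓ Z : Subgroup G)) by ring,
    show (orbit K c).ncard * Nat.card (K ⊓ stabilizer G c : Subgroup G) *
        Nat.card (K0 ⊓ Z : Subgroup G) =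
      (orbit K c).ncard * (Nat.card K0 * Nat.card (K0 ⊓ Z : Subgroup G)) by rw [hK0]; ring] at h3
  exact Nat.dvd_of_mul_dvd_mul_right (Nat.mul_pos Nat.card_pos Nat.card_pos) h3

end Cfsg.Agent.Lead.FixBound
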