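import Cfsg.Agent.Lib.Lead.FixBound.Classes
import Cfsg.Agent.Lib.Lead.FixBound.Coprime

/-!
# Big good parts: at least two fixed classes
-/

set_option autoImplicit false

namespace Cfsg.Agent.Lead.FixBound

open MulAction
open scoped Pointwise commutatorElement

universe u v

variable {p : ℕ} {G : Type u} [Group G] {Ω : Type v} [MulAction G Ω]

/-- A good part with at least two fixed classes. -/
def BigP (p : ℕ) (P : Subgroup G) (a : Ω) (O : Set Ω) : Prop :=
  GoodAt p P a O ∧ qO p P O < fO P O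

/-- The pointwise stabiliser of a part in the group at `a`. -/
def ker (p : ℕ) (a : Ω) (O : Set Ω) : Subgroup G := st p G a ⊓ fixingSubgroup G O

theorem mem_ker {a : Ω} {O : Set Ω} {g : G} : g ∈ ker p a O ↔ g ∈ st p G a ∧ Triv O g := by
  rw [ker, Subgroup.mem_inf, mem_fixingSubgroup_iff]
  rfl

theorem ker_normal {a b : Ω} {g : G} (hg : g ∈ st p G a) {x : G}
    (hx : x ∈ ker p a (orbit (st p G a) b)) : g * x * g⁻¹ ∈ ker p a (orbit (st p G a) b) := by
  rw [mem_ker] at hx ⊢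
  refine ⟨(st p G a).mul_mem ((st p G a).mul_mem hg hx.1) ((st p G a).inv_mem hg), fun c hc => ?_⟩
  rw [mul_smul, mul_smul, hx.2 _ (orbit_smul_mem ((st p G a).inv_mem hg) hc), smul_inv_smul]

/-- `Z` moves some class of the part. -/
def MovesCls (p : ℕ) (P : Subgroup G) (a b : Ω) (Z : Subgroup G) : Prop :=
  ∃ z : st p G a, (z : G) ∈ Z ∧ ∃ δ : Dl p P a b, z • δ ≠ δ

variable [Finite G] [Finite Ω] [Fact p.Prime] {P : Sylow p G}

section

variable (C : Crit p Ω P) {a b : Ω} (ha : a ∈ fx (P : Subgroup G) Ω) (hba : b ≠ a)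

include C ha hba

/-- An element of `P` fixing all classes is trivial; one moving a class is not. -/
theorem cls_moved_iff (hg : GoodAt p (P : Subgroup G) a (orbit (st p G a) b)) {x : G}
    (hx : x ∈ (P : Subgroup G)) :
    Triv (orbit (st p G a) b) x ↔
      ∀ δ : Dl p (P : Subgroup G) a b, (⟨x, le_st ha hx⟩ : st p G a) • δ = δ := by
  constructor
  · rintro h ⟨_, c, hc, rfl⟩
    refine Subtype.ext ?_
    show x • cls _ _ _ c = cls _ _ _ c
    rw [smul_cls (fun g hg d hd => orbit_smul_mem hg hd) (le_st ha hx), h c hc]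
  · intro h
    by_contra hne
    simp only [Triv, not_forall] at hne
    obtain ⟨d, hd, hxd⟩ := hne
    have hdF : d ∉ fx (P : Subgroup G) Ω := fun e => hxd (mem_fx.1 e x hx)
    exact hxd (good_semireg_cls C ha hba hg hx hd hdF
      (congrArg Subtype.val (h ⟨_, d, hd, rfl⟩)) d hd)

/-- The fixed classes of `P`, counted. -/
theorem fixed_cls_card (hg : GoodAt p (P : Subgroup G) a (orbit (st p G a) b)) :
    {δ : Dl p (P : Subgroup G) a b | ∀ x : st p G a, (x : G) ∈ (P : Subgroup G) → x • δ = δ}.ncard *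
      qO p (P : Subgroup G) (orbit (st p G a) b) = fO (P : Subgroup G) (orbit (st p G a) b) := by
  set O := orbit (st p G a) b with hOdef
  set F := fx (P : Subgroup G) Ω with hF
  set L := st p G a with hL
  obtain ⟨β, fm, hβ1, hfm1, -, hf, hq, hsize, hv, hfix⟩ := good_struct C ha hba hg
  have h1 : (F ∩ O).ncard = (cls L F O '' (F ∩ O)).ncard * β := ncard_eq_mul β
    (fun c hc e he => ⟨cls_subset_fixed hc.1 he, he.1⟩) Set.inter_subset_right
    fun c hc => hsize c hc.2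
  have h2 : Subtype.val '' {δ : Dl p (P : Subgroup G) a b |
      ∀ x : L, (x : G) ∈ (P : Subgroup G) → x • δ = δ} = cls L F O '' (F ∩ O) := by
    ext S
    constructor
    · rintro ⟨⟨_, c, hc, rfl⟩, hδ, rfl⟩
      refine ⟨c, ⟨hfix c hc fun x hx => ?_, hc⟩, rfl⟩
      exact congrArg Subtype.val (hδ ⟨x, le_st ha hx⟩ hx)
    · rintro ⟨c, ⟨hcF, hcO⟩, rfl⟩
      refine ⟨⟨_, c, hcO, rfl⟩, fun x hx => Subtype.ext ?_, rfl⟩
      show (x : G) • cls L F O c = cls L F O c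
      rw [smul_cls (fun g hg d hd => orbit_smul_mem hg hd) x.2, mem_fx.1 hcF x hx]
  rw [fO, hq, h1, ← h2, Set.ncard_image_of_injective _ Subtype.val_injective]

/-- A normal subgroup moving a class of a big part meets `P` non-trivially there. -/
theorem exists_moving (hg : BigP p (P : Subgroup G) a (orbit (st p G a) b)) {Z : Subgroup G}
    (hZ : Z ≤ st p G a) (hn : ∀ g ∈ st p G a, ∀ z ∈ Z, g * z * g⁻¹ ∈ Z)
    (hmv : MovesCls p (P : Subgroup G) a b Z) :
    ∃ x ∈ (P : Subgroup G), x ∈ Z ∧ ¬ Triv (orbit (st p G a) b) x := by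
  classical
  haveI := preprimitive_Dl C ha hba hg.1
  haveI : Fintype (Dl p (P : Subgroup G) a b) := Fintype.ofFinite _
  obtain ⟨β, fm, hβ1, hfm1, hfp, hf, hq, hv⟩ := card_Dl C ha hba hg.1
  have hfm2 : 2 ≤ fm := by
    have h := hg.2
    rw [hf, hq] at h
    by_contra hh
    have : fm = 1 := by omega
    rw [this, mul_one] at h
    omega
  set L := st p G a with hL
  set φ := MulAction.toPermHom L (Dl p (P : Subgroup G) a b) with hφ
  set Z' := Z.subgroupOf L with hZ'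
  haveI hZn : Z'.Normal := ⟨fun x hx y => hn y y.2 x hx⟩
  obtain ⟨z0, hz0, δ1, hδ1⟩ := hmv
  haveI : IsPretransitive Z' (Dl p (P : Subgroup G) a b) :=
    IsQuasiPreprimitive.isPretransitive_of_normal fun h =>
      hδ1 ((h.symm ▸ Set.mem_univ δ1 : δ1 ∈ fixedPoints Z' _) ⟨z0, hz0⟩)
  by_contra hno
  push Not at hno
  set Kb := Z'.map φ with hKb
  set Ab := (P.subtype (le_st ha) : Subgroup L).map φ with hAb
  have hAp : IsPGroup p Ab := (P.subtype (le_st ha)).isPGroup'.map φ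
  -- the image of `Z` has order prime to `p`
  have hKp : ¬ p ∣ Nat.card Kb := by
    intro hd
    obtain ⟨⟨_, z, hz, rfl⟩, hzo⟩ := exists_prime_orderOf_dvd_card' p hd
    have hzo' : orderOf (φ z) = p := (Subgroup.orderOf_mk _ _).symm.trans hzo
    obtain ⟨k, m, hm, hkm⟩ := Nat.exists_eq_pow_mul_and_not_dvd (orderOf_pos z).ne' p
      (Fact.out : p.Prime).ne_one
    have hzm : IsPEl p ((z : G) ^ m) := by
      refine ⟨k, ?_⟩
      rw [← Subgroup.coe_pow, Subgroup.orderOf_coe, orderOf_pow, hkm,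
        Nat.gcd_mul_left_left, Nat.mul_div_cancel _ (Nat.pos_of_ne_zero (by
          rintro rfl
          exact hm (dvd_zero p)))]
    obtain ⟨t, htZ, ht⟩ := exists_conj_mem P (le_st ha) hZ hn (pow_mem hz m) hzm
    have htriv := hno _ ht (Z.mul_mem (Z.mul_mem htZ (Z.pow_mem hz m)) (Z.inv_mem htZ))
    have h1 : φ (⟨t, hZ htZ⟩ * z ^ m * (⟨t, hZ htZ⟩ : L)⁻¹) = 1 := Equiv.ext fun δ => by
      have := (cls_moved_iff C ha hba hg.1 ht).1 htriv δ
      exact this
    rw [map_mul, map_mul, map_pow, map_inv, mul_inv_eq_one, mul_eq_left] at h1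
    exact hm (hzo' ▸ orderOf_dvd_of_pow_eq_one h1)
  have hnorm : Ab ≤ Subgroup.normalizer (Kb : Set _) := by
    rintro _ ⟨y, -, rfl⟩
    rw [Subgroup.mem_normalizer_iff]
    intro z
    constructor
    · rintro ⟨w, hw, rfl⟩
      exact ⟨y * w * y⁻¹, hZn.conj_mem w hw y, by simp⟩
    · rintro ⟨w, hw, e⟩
      exact ⟨y⁻¹ * w * y⁻¹⁻¹, hZn.conj_mem w hw y⁻¹, by simp [e]; group⟩
  have hco : (Nat.card Ab).Coprime (Nat.card Kb) := by
    obtain ⟨k, hk⟩ := IsPGroup.iff_card.1 hAp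
    rw [hk]
    exact ((Fact.out : p.Prime).coprime_iff_not_dvd.2 hKp).pow_left k
  obtain ⟨c0, hc0F, hc0O⟩ := (Set.ncard_pos (Set.toFinite _)).1 hg.1.1
  let δ0 : Dl p (P : Subgroup G) a b := ⟨_, c0, hc0O, rfl⟩
  have hδ0 : ∀ x ∈ Ab, x • δ0 = δ0 := by
    rintro _ ⟨y, hy, rfl⟩
    refine Subtype.ext ?_
    show (y : G) • cls _ _ _ c0 = cls _ _ _ c0
    rw [smul_cls (fun g hg d hd => orbit_smul_mem hg hd) y.2, mem_fx.1 hc0F (y : G) hy]
  have hdvd := fixed_dvd hAp hnorm hco hδ0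
  have horb : orbit Kb δ0 = Set.univ := Set.eq_univ_of_forall fun δ => by
    obtain ⟨z, hz⟩ := MulAction.exists_smul_eq Z' δ0 δ
    exact ⟨⟨_, Subgroup.mem_map_of_mem φ z.2⟩, hz⟩
  have hfixset : {δ | ∀ x ∈ Ab, x • δ = δ} =
      {δ : Dl p (P : Subgroup G) a b | ∀ x : L, (x : G) ∈ (P : Subgroup G) → x • δ = δ} := by
    ext δ
    exact ⟨fun h x hx => h _ ⟨x, hx, rfl⟩, fun h => by
      rintro _ ⟨x, hx, rfl⟩
      exact h x hx⟩
  have hcard := fixed_cls_card C ha hba hg.1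
  rw [horb, Set.inter_univ, hfixset, Set.ncard_univ, hv] at hdvd
  rw [hq, hf, mul_comm β fm] at hcard
  rw [Nat.eq_of_mul_eq_mul_right hβ1 hcard] at hdvd
  have h2 : fm ∣ p := (Nat.dvd_add_right (dvd_refl fm)).1 hdvd
  rcases (Nat.dvd_prime Fact.out).1 h2 with h | h <;> omega

/-- Commutators of normal subgroups moving a class still move a class. -/
theorem commutator_moves (hg : BigP p (P : Subgroup G) a (orbit (st p G a) b))
    {Z₁ Z₂ : Subgroup G} (h₁ : Z₁ ≤ st p G a) (h₂ : Z₂ ≤ st p G a)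
    (hn₂ : ∀ g ∈ st p G a, ∀ z ∈ Z₂, g * z * g⁻¹ ∈ Z₂)
    (hn₁ : ∀ g ∈ st p G a, ∀ z ∈ Z₁, g * z * g⁻¹ ∈ Z₁)
    (hm₁ : MovesCls p (P : Subgroup G) a b Z₁) (hm₂ : MovesCls p (P : Subgroup G) a b Z₂) :
    MovesCls p (P : Subgroup G) a b ⁅Z₁, Z₂⁆ := by
  classical
  haveI := preprimitive_Dl C ha hba hg.1
  obtain ⟨x, hxP, hx2, hxn⟩ := exists_moving C ha hba hg h₂ hn₂ hm₂
  obtain ⟨z0, hz0, δ1, hδ1⟩ := hm₁
  haveI : (Z₁.subgroupOf (st p G a)).Normal := ⟨fun u hu y => hn₁ y y.2 u hu⟩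
  haveI : IsPretransitive (Z₁.subgroupOf (st p G a)) (Dl p (P : Subgroup G) a b) :=
    IsQuasiPreprimitive.isPretransitive_of_normal fun h =>
      hδ1 ((h.symm ▸ Set.mem_univ δ1 : δ1 ∈ fixedPoints (Z₁.subgroupOf (st p G a)) _) ⟨z0, hz0⟩)
  by_contra hno
  obtain ⟨c0, hc0F, hc0O⟩ := (Set.ncard_pos (Set.toFinite _)).1 hg.1.1
  let δ0 : Dl p (P : Subgroup G) a b := ⟨_, c0, hc0O, rfl⟩
  refine hxn ((cls_moved_iff C ha hba hg.1 hxP).2 fun δ => ?_)
  obtain ⟨z, rfl⟩ := MulAction.exists_smul_eq (Z₁.subgroupOf (st p G a)) δ0 δ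
  set X : st p G a := ⟨x, le_st ha hxP⟩
  have hX0 : X • δ0 = δ0 := Subtype.ext (by
    show x • cls _ _ _ c0 = cls _ _ _ c0
    rw [smul_cls (fun g hg d hd => orbit_smul_mem hg hd) (le_st ha hxP), mem_fx.1 hc0F x hxP])
  set Zz : st p G a := (z : st p G a)
  have hw : (((Zz * X * Zz⁻¹ * X⁻¹ : st p G a) : G)) ∈ ⁅Z₁, Z₂⁆ :=
    Subgroup.commutator_mem_commutator z.2 hx2
  have hfix : (Zz * X * Zz⁻¹ * X⁻¹) • (X • Zz • δ0) = X • Zz • δ0 := by
    by_contra h
    exact hno ⟨_, hw, _, h⟩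
  show X • Zz • δ0 = Zz • δ0
  calc X • Zz • δ0 = (Zz * X * Zz⁻¹ * X⁻¹) • (X • Zz • δ0) := hfix.symm
    _ = Zz • X • δ0 := by rw [smul_smul, smul_smul, smul_smul]; congr 1; group
    _ = Zz • δ0 := by rw [hX0]

end

/-- An element of `P` moving a big part and fixing every part separable from it. -/
theorem exists_separated (C : Crit p Ω P) {a b : Ω} (ha : a ∈ fx (P : Subgroup G) Ω)
    (hba : b ≠ a) (hg : BigP p (P : Subgroup G) a (orbit (st p G a) b)) (J : Finset (Set Ω))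
    (hJ : ∀ O ∈ J, (∃ c, orbit (st p G a) c = O) ∧
      ∃ y ∈ (P : Subgroup G), Triv O y ∧ ¬ Triv (orbit (st p G a) b) y) :
    ∃ x ∈ (P : Subgroup G), ¬ Triv (orbit (st p G a) b) x ∧ ∀ O ∈ J, Triv O x := by
  classical
  suffices h : ∃ Z : Subgroup G, Z ≤ st p G a ∧ (∀ g ∈ st p G a, ∀ z ∈ Z, g * z * g⁻¹ ∈ Z) ∧
      MovesCls p (P : Subgroup G) a b Z ∧ ∀ O ∈ J, ∀ z ∈ Z, Triv O z by
    obtain ⟨Z, h1, h2, h3, h4⟩ := h
    obtain ⟨x, hx, hxZ, hxn⟩ := exists_moving C ha hba hg h1 h2 h3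
    exact ⟨x, hx, hxn, fun O hO => h4 O hO x hxZ⟩
  induction J using Finset.induction with
  | empty =>
    refine ⟨st p G a, le_rfl, fun g hg' z hz =>
      (st p G a).mul_mem ((st p G a).mul_mem hg' hz) ((st p G a).inv_mem hg'), ?_, by simp⟩
    by_contra hno
    have : ∀ x ∈ (P : Subgroup G), Triv (orbit (st p G a) b) x := fun x hx =>
      (cls_moved_iff C ha hba hg.1 hx).2 fun δ => by
        by_contra h
        exact hno ⟨⟨x, le_st ha hx⟩, le_st ha hx, δ, h⟩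
    have h1 : orbit (st p G a) b ⊆ fx (P : Subgroup G) Ω :=
      fun c hc => mem_fx.2 fun x hx => this x hx c hc
    have h2 := part_card P (b := b) ha
    have h3 : fO (P : Subgroup G) (orbit (st p G a) b) = (orbit (st p G a) b).ncard := by
      rw [fO, Set.inter_eq_right.2 h1]
    have h4 : 0 < p * qO p (P : Subgroup G) (orbit (st p G a) b) :=
      Nat.mul_pos (Fact.out : p.Prime).pos (qO_pos C.toBase P ha hba)
    omega
  | insert O s hOs ih =>
    obtain ⟨Z, h1, h2, h3, h4⟩ := ih fun O' hO' => hJ O' (Finset.mem_insert_of_mem hO')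
    obtain ⟨⟨c, rfl⟩, y, hy, hyO, hyn⟩ := hJ O (Finset.mem_insert_self O s)
    set K : Subgroup G := ker p a (orbit (st p G a) c) with hK
    have hKle : K ≤ st p G a := inf_le_left
    have hKn : ∀ g ∈ st p G a, ∀ z ∈ K, g * z * g⁻¹ ∈ K := fun g hg' z hz => ker_normal hg' hz
    have hKm : MovesCls p (P : Subgroup G) a b K := by
      by_contra hno
      refine hyn ((cls_moved_iff C ha hba hg.1 hy).2 fun δ => ?_)
      by_contra h
      exact hno ⟨⟨y, le_st ha hy⟩, mem_ker.2 ⟨le_st ha hy, hyO⟩, δ, h⟩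
    have hcomm := commutator_moves C ha hba hg h1 hKle hKn h2 h3 hKm
    have hle1 : ⁅Z, K⁆ ≤ Z := Subgroup.commutator_le.2 fun u hu w hw => by
      rw [commutatorElement_def, show u * w * u⁻¹ * w⁻¹ = u * (w * u⁻¹ * w⁻¹) by group]
      exact Z.mul_mem hu (h2 w (hKle hw) _ (Z.inv_mem hu))
    have hle2 : ⁅Z, K⁆ ≤ K := Subgroup.commutator_le.2 fun u hu w hw => by
      rw [commutatorElement_def]
      exact K.mul_mem (hKn u (h1 hu) w hw) (K.inv_mem hw)
    refine ⟨⁅Z, K⁆, hle1.trans h1, ?_, hcomm, fun O' hO' z hz => ?_⟩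
    · intro g hg' z hz
      have : ⁅Z, K⁆.map (MulAut.conj g).toMonoidHom ≤ ⁅Z, K⁆ := by
        rw [Subgroup.map_commutator]
        refine Subgroup.commutator_mono ?_ ?_
        · rintro _ ⟨u, hu, rfl⟩; exact h2 g hg' u hu
        · rintro _ ⟨u, hu, rfl⟩; exact hKn g hg' u hu
      exact this ⟨z, hz, rfl⟩
    · rcases Finset.mem_insert.1 hO' with rfl | h
      · exact (mem_ker.1 (hle2 hz)).2
      · exact h4 O' h z (hle1 hz)

end Cfsg.Agent.Lead.FixBound
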