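import Cfsg.Agent.Lib.Lead.FixBound.Unlinked
import Cfsg.Agent.S0713

/-!
# The action on the classes of a good part
-/

set_option autoImplicit false

namespace Cfsg.Agent.Lead.FixBound

open MulAction
open scoped Pointwise

universe u v

variable {p : ℕ} {G : Type u} [Group G] {Ω : Type v} [MulAction G Ω]

/-- The classes of a part, with the action of the group at `a`. -/
def Dl (p : ℕ) (P : Subgroup G) (a b : Ω) : SubMulAction (st p G a) (Set Ω) where
  carrier := cls (st p G a) (fx P Ω) (orbit (st p G a) b) '' orbit (st p G a) b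
  smul_mem' := fun h => by
    rintro _ ⟨c, hc, rfl⟩
    exact ⟨(h : G) • c, orbit_smul_mem h.2 hc,
      (smul_cls (fun g hg d hd => orbit_smul_mem hg hd) h.2).symm⟩

/-- `g` acts trivially on `O`. -/
def Triv (O : Set Ω) (g : G) : Prop := ∀ c ∈ O, g • c = c

theorem Triv.mul {O : Set Ω} {g h : G} (hg : Triv O g) (hh : Triv O h) : Triv O (g * h) :=
  fun c hc => by rw [mul_smul, hh c hc, hg c hc]

theorem Triv.inv {O : Set Ω} {g : G} (hg : Triv O g) : Triv O g⁻¹ :=
  fun c hc => by rw [inv_smul_eq_iff, hg c hc]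

theorem Triv.one (O : Set Ω) : Triv O (1 : G) := fun c _ => one_smul G c

variable [Finite G] [Finite Ω] [Fact p.Prime] {P : Sylow p G}

section

variable (C : Crit p Ω P) {a b : Ω} (ha : a ∈ fx (P : Subgroup G) Ω) (hba : b ≠ a)
  (hg : GoodAt p (P : Subgroup G) a (orbit (st p G a) b))

include C ha hba hg

/-- `P` induces at most a group of order `p` on a good part. -/
theorem good_cyclic {x y : G} (hx : x ∈ (P : Subgroup G)) (hy : y ∈ (P : Subgroup G))
    (hxn : ¬ Triv (orbit (st p G a) b) x) :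
    ∃ i : ℕ, i < p ∧ Triv (orbit (st p G a) b) ((x ^ i)⁻¹ * y) := by
  classical
  set O := orbit (st p G a) b with hOdef
  set F := fx (P : Subgroup G) Ω with hF
  set L := st p G a with hL
  have hp := (Fact.out : p.Prime).two_le
  have hO : ∀ h ∈ L, ∀ e ∈ O, h • e ∈ O := fun h hh e he => orbit_smul_mem hh he
  obtain ⟨β, fm, hβ1, hfm1, -, hf, hq, hsize, hv, -⟩ := good_struct C ha hba hg
  obtain ⟨d, hd, hxd⟩ : ∃ d ∈ O, x • d ≠ d := by
    simp only [Triv, not_forall] at hxn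
    obtain ⟨d, hd, h⟩ := hxn
    exact ⟨d, hd, h⟩
  have hdF : d ∉ F := fun h => hxd (mem_fx.1 h x hx)
  -- the moved classes
  set M := cls L F O '' (O \ F) with hM
  have hMcard : M.ncard ≤ p := by
    have h1 : (O \ F).ncard = M.ncard * β := ncard_eq_mul β
      (fun c hc e he => ⟨he.1, fun heF => hc.2 (cls_subset_fixed heF ⟨hc.1, he.2.symm⟩)⟩)
      (fun e he => he.1) fun c hc => hsize c hc.1
    have h2 : (O \ F).ncard + fO (P : Subgroup G) O = O.ncard := by
      rw [fO, Set.inter_comm, add_comm, Set.ncard_inter_add_ncard_sdiff_eq_ncard O F (Set.toFinite _)]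
    have h3 : O.ncard = fO (P : Subgroup G) O + p * qO p (P : Subgroup G) O := part_card P ha
    have h4 : M.ncard * β = p * β := by
      rw [← h1]
      have e : p * qO p (P : Subgroup G) O = p * β := by rw [hq]
      omega
    exact (Nat.eq_of_mul_eq_mul_right hβ1 h4).le
  set D := cls L F O d with hD
  have hDM : ∀ g ∈ (P : Subgroup G), g • D ∈ M := fun g hg' =>
    ⟨g • d, ⟨hO _ (le_st ha hg') _ hd, fun h => hdF (by
      have := mem_fx.1 h g hg'
      exact (MulAction.injective g this) ▸ h)⟩, (smul_cls hO (le_st ha hg')).symm⟩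
  -- the powers of `x` reach every moved class
  have hinj : Set.InjOn (fun i : ℕ => x ^ i • D) {i | i < p} := by
    intro i hi j hj e
    have aux : ∀ k l : ℕ, l < p → k ≤ l → x ^ k • D = x ^ l • D → k = l := by
      intro k l hl hkl e
      by_contra hne
      have h1 : x ^ (l - k) • D = D := by
        apply MulAction.injective (x ^ k)
        show x ^ k • x ^ (l - k) • D = x ^ k • D
        rw [smul_smul, ← pow_add, Nat.add_sub_cancel' hkl]
        exact e.symm
      have h2 := good_semireg_cls C ha hba hg (pow_mem hx _) hd hdF h1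
      obtain ⟨k', hk'⟩ := isPEl_of_mem P.isPGroup' hx
      have hco : Nat.Coprime (l - k) (orderOf x) := by
        rw [hk']
        refine Nat.Coprime.pow_right _ (((Fact.out : p.Prime).coprime_iff_not_dvd.2 ?_).symm)
        intro hd'
        have := Nat.le_of_dvd (by omega) hd'
        omega
      obtain ⟨m, hm⟩ := exists_pow_eq_self_of_coprime hco
      refine hxd ?_
      rw [← hm]
      have hpow : ∀ m : ℕ, Triv O ((x ^ (l - k)) ^ m) := fun m => by
        induction m with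
        | zero => rw [pow_zero]; exact Triv.one O
        | succ m ih => rw [pow_succ]; exact ih.mul h2
      exact hpow m d hd
    rcases le_total i j with h | h
    · exact aux i j hj h e
    · exact (aux j i hi h e.symm).symm
  have himg : (fun i : ℕ => x ^ i • D) '' {i | i < p} = M := by
    refine Set.eq_of_subset_of_ncard_le ?_ ?_ (Set.toFinite _)
    · rintro _ ⟨i, -, rfl⟩
      exact hDM _ (pow_mem hx i)
    · rw [Set.InjOn.ncard_image hinj, show {i : ℕ | i < p} = Set.Iio p from rfl,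
        Set.ncard_Iio_nat]
      exact hMcard
  obtain ⟨i, hi, hie⟩ := himg.symm ▸ hDM y hy
  refine ⟨i, hi, good_semireg_cls C ha hba hg (mul_mem (inv_mem (pow_mem hx i)) hy) hd hdF ?_⟩
  rw [mul_smul, inv_smul_eq_iff]
  exact hie.symm

theorem good_pow_p {x : G} (hx : x ∈ (P : Subgroup G)) :
    Triv (orbit (st p G a) b) (x ^ p) := by
  by_cases hxn : Triv (orbit (st p G a) b) x
  · intro c hc
    exact smul_eq_self_of_mem_zpowers (pow_mem (Subgroup.mem_zpowers x) p) (hxn c hc)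
  by_contra hp
  obtain ⟨i, hi, h⟩ := good_cyclic C ha hba hg (pow_mem hx p) hx hp
  refine hxn ?_
  obtain ⟨k, hk⟩ := isPEl_of_mem P.isPGroup' hx
  rw [← zpow_natCast, ← zpow_natCast, ← zpow_mul, ← zpow_neg, ← zpow_add_one] at h
  set e : ℤ := -((p : ℤ) * (i : ℤ)) + 1
  have hco : IsCoprime e (orderOf x : ℤ) := by
    rw [hk, Nat.cast_pow]
    exact IsCoprime.pow_right ⟨1, i, by simp only [e]; ring⟩
  obtain ⟨u, w, huw⟩ := hco
  have hxe : x = (x ^ e) ^ u := by
    rw [← zpow_mul, mul_comm]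
    conv_lhs => rw [← zpow_one x, ← huw, zpow_add, mul_comm w, zpow_mul x (orderOf x : ℤ),
      zpow_natCast, pow_orderOf_eq_one, one_zpow, mul_one]
  intro c hc
  rw [hxe]
  exact smul_eq_self_of_mem_zpowers (zpow_mem (Subgroup.mem_zpowers (x ^ e)) u) (h c hc)

theorem good_comm {x y : G} (hx : x ∈ (P : Subgroup G)) (hy : y ∈ (P : Subgroup G)) :
    Triv (orbit (st p G a) b) (x * y * x⁻¹ * y⁻¹) := by
  set O := orbit (st p G a) b with hO
  have hmemO : ∀ g ∈ (P : Subgroup G), ∀ c ∈ O, g • c ∈ O :=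
    fun g hg' c hc => part_smul_mem P ha hg' hc
  by_cases hxn : Triv O x
  · intro c hc
    rw [mul_smul, mul_smul, mul_smul]
    have h1 : x⁻¹ • y⁻¹ • c = y⁻¹ • c := hxn.inv _ (hmemO _ (inv_mem hy) c hc)
    rw [h1, smul_inv_smul, hxn c hc]
  · obtain ⟨i, -, hz⟩ := good_cyclic C ha hba hg hx hy hxn
    intro c hc
    set z := (x ^ i)⁻¹ * y with hzdef
    have hy' : y = x ^ i * z := by simp [hzdef]
    have e : x * y * x⁻¹ * y⁻¹ = x ^ i * (x * z * x⁻¹ * z⁻¹) * (x ^ i)⁻¹ := by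
      rw [hy']
      group
    have hzP : z ∈ (P : Subgroup G) := mul_mem (inv_mem (pow_mem hx i)) hy
    have hc1 : (x ^ i)⁻¹ • c ∈ O := hmemO _ (inv_mem (pow_mem hx i)) c hc
    have h2 : x⁻¹ • z⁻¹ • (x ^ i)⁻¹ • c = x⁻¹ • (x ^ i)⁻¹ • c := by rw [hz.inv _ hc1]
    rw [e, mul_smul, mul_smul, mul_smul, mul_smul, mul_smul, h2,
      hz _ (hmemO _ (inv_mem hx) _ hc1), smul_inv_smul, smul_inv_smul]

omit [Finite G] [Finite Ω] [Fact p.Prime] C ha hba hg in
theorem smul_Dl {g : st p G a} {S : Dl p (P : Subgroup G) a b} :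
    ((g • S : Dl p (P : Subgroup G) a b) : Set Ω) = (g : G) • (S : Set Ω) := rfl

omit [Finite G] [Fact p.Prime] C ha hba hg in
theorem pretransitive_Dl : IsPretransitive (st p G a) (Dl p (P : Subgroup G) a b) := by
  constructor
  rintro ⟨_, c, hc, rfl⟩ ⟨_, d, hd, rfl⟩
  obtain ⟨g, hg⟩ := (orbit_eq_iff.2 hc ▸ hd : d ∈ orbit (st p G a) c)
  refine ⟨g, Subtype.ext ?_⟩
  rw [smul_Dl]
  show (g : G) • cls _ _ _ c = cls _ _ _ d
  rw [smul_cls (fun h hh e he => orbit_smul_mem hh he) g.2]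
  exact congrArg _ hg

theorem card_Dl : ∃ β fm : ℕ, 1 ≤ β ∧ 1 ≤ fm ∧ fm + 1 ≤ p ∧
    fO (P : Subgroup G) (orbit (st p G a) b) = β * fm ∧
    qO p (P : Subgroup G) (orbit (st p G a) b) = β ∧
    Nat.card (Dl p (P : Subgroup G) a b) = fm + p := by
  obtain ⟨β, fm, h1, h2, h3, h4, h5, -, h7, -⟩ := good_struct C ha hba hg
  refine ⟨β, fm, h1, h2, h3, h4, h5, ?_⟩
  rw [← h7, ← Nat.card_coe_set_eq]
  rfl

/-- The action on classes is primitive. -/
theorem preprimitive_Dl : IsPreprimitive (st p G a) (Dl p (P : Subgroup G) a b) := by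
  haveI := pretransitive_Dl (P := P) (p := p) (a := a) (b := b)
  set O := orbit (st p G a) b with hOdef
  set F := fx (P : Subgroup G) Ω with hF
  set L := st p G a with hL
  have hO : ∀ h ∈ L, ∀ e ∈ O, h • e ∈ O := fun h hh e he => orbit_smul_mem hh he
  obtain ⟨β, fm, hβ1, hfm1, -, hf, hq, hsize, hv, -⟩ := good_struct C ha hba hg
  obtain ⟨c0, hc0F, hc0O⟩ := (Set.ncard_pos (Set.toFinite _)).1 hg.1
  let δ0 : Dl p (P : Subgroup G) a b := ⟨_, c0, hc0O, rfl⟩
  refine IsPreprimitive.of_isTrivialBlock_base δ0 fun {S} hS0 hS => ?_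
  by_contra hnt
  simp only [IsTrivialBlock, not_or] at hnt
  obtain ⟨hsub, huniv⟩ := hnt
  -- the union of the classes in the block
  set D : Set Ω := {c | ∃ δ ∈ S, c ∈ (δ : Set Ω)} with hD
  have hsubO : ∀ δ : Dl p (P : Subgroup G) a b, ∀ c ∈ (δ : Set Ω), c ∈ O := by
    rintro ⟨_, d, hd, rfl⟩ c hc
    exact hc.1
  have hDO : D ⊆ O := fun c ⟨δ, _, hc⟩ => hsubO δ c hc
  have huniq : ∀ (δ δ' : Dl p (P : Subgroup G) a b) (c : Ω),
      c ∈ (δ : Set Ω) → c ∈ (δ' : Set Ω) → δ = δ' := by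
    rintro ⟨_, d, hd, rfl⟩ ⟨_, d', hd', rfl⟩ c h1 h2
    exact Subtype.ext (cls_eq (h1.2.symm.trans h2.2))
  have hblk : ∀ h ∈ L, h • D = D ∨ Disjoint (h • D) D := by
    intro h hh
    rcases isBlock_iff_smul_eq_or_disjoint.1 hS ⟨h, hh⟩ with e | e
    · left
      have hsmul : h • D = {c | ∃ δ ∈ (⟨h, hh⟩ : L) • S, c ∈ (δ : Set Ω)} := by
        ext c
        constructor
        · rintro ⟨d, ⟨δ, hδ, hd⟩, rfl⟩
          exact ⟨_, Set.smul_mem_smul_set hδ, Set.smul_mem_smul_set hd⟩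
        · rintro ⟨_, ⟨δ, hδ, rfl⟩, hc⟩
          obtain ⟨d, hd, rfl⟩ := hc
          exact ⟨d, ⟨δ, hδ, hd⟩, rfl⟩
      rw [hsmul, e]
    · refine Or.inr (Set.disjoint_left.2 ?_)
      rintro _ ⟨d, ⟨δ, hδ, hd⟩, rfl⟩ ⟨δ', hδ', hd'⟩
      have he := huniq ((⟨h, hh⟩ : L) • δ) δ' (h • d) (Set.smul_mem_smul_set hd) hd'
      exact Set.disjoint_left.1 e (Set.smul_mem_smul_set hδ) (he ▸ hδ')
  obtain ⟨δ1, hδ1, δ2, hδ2, hne⟩ : ∃ δ1 ∈ S, ∃ δ2 ∈ S, δ1 ≠ δ2 := by
    simp only [Set.Subsingleton, not_forall] at hsub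
    obtain ⟨x, hx, y, hy, h⟩ := hsub
    exact ⟨x, hx, y, hy, h⟩
  have hcardD : 2 * β ≤ D.ncard := by
    obtain ⟨_, d1, hd1, rfl⟩ := δ1
    obtain ⟨_, d2, hd2, rfl⟩ := δ2
    have hdis : Disjoint (cls L F O d1) (cls L F O d2) := Set.disjoint_left.2 fun c h1 h2 =>
      hne (huniq _ _ c h1 h2)
    calc 2 * β = (cls L F O d1 ∪ cls L F O d2).ncard := by
          rw [Set.ncard_union_eq hdis (Set.toFinite _) (Set.toFinite _), hsize d1 hd1,
            hsize d2 hd2, two_mul]
      _ ≤ D.ncard := Set.ncard_le_ncard (Set.union_subset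
            (fun c hc => ⟨_, hδ1, hc⟩) (fun c hc => ⟨_, hδ2, hc⟩)) (Set.toFinite _)
  have hDne : D ≠ O := by
    intro e
    refine huniv (Set.eq_univ_of_forall ?_)
    rintro ⟨_, d, hd, rfl⟩
    obtain ⟨δ, hδ, hdδ⟩ := (Set.ext_iff.1 e d).2 hd
    rw [huniq δ ⟨_, d, hd, rfl⟩ d hdδ ⟨hd, rfl⟩] at hδ
    exact hδ
  obtain ⟨-, fm', qm', -, e2, e3, -⟩ := part_sat C ha hba hDO
    (show c0 ∈ D from ⟨δ0, hS0, hc0O, rfl⟩) hc0F hblk (by omega) hDne
  rw [hq] at e2
  rcases Nat.eq_zero_or_pos qm' with h | h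
  · rw [h, mul_zero] at e2; omega
  · have : D.ncard * 1 ≤ D.ncard * qm' := Nat.mul_le_mul_left _ h
    omega

/-- With three or more fixed classes the image is alternating or symmetric. -/
theorem alt_le_range (h3 : p + 3 ≤ Nat.card (Dl p (P : Subgroup G) a b))
    [Fintype (Dl p (P : Subgroup G) a b)] [DecidableEq (Dl p (P : Subgroup G) a b)] :
    alternatingGroup (Dl p (P : Subgroup G) a b) ≤
      (MulAction.toPermHom (st p G a) (Dl p (P : Subgroup G) a b)).range := by
  classical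
  haveI := preprimitive_Dl C ha hba hg
  set O := orbit (st p G a) b with hOdef
  set F := fx (P : Subgroup G) Ω with hF
  set L := st p G a with hL
  have hp := (Fact.out : p.Prime).two_le
  have hO : ∀ h ∈ L, ∀ e ∈ O, h • e ∈ O := fun h hh e he => orbit_smul_mem hh he
  obtain ⟨β, fm, hβ1, hfm1, hfp, hf, hq, hv⟩ := card_Dl C ha hba hg
  set φ := MulAction.toPermHom L (Dl p (P : Subgroup G) a b) with hφ
  -- an element of `P` moving the part
  obtain ⟨x, hx, d, hd, hxd⟩ : ∃ x ∈ (P : Subgroup G), ∃ d ∈ O, x • d ≠ d := by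
    by_contra h
    push Not at h
    have h1 : O ⊆ F := fun d hd => mem_fx.2 fun x hx => h x hx d hd
    have h2 : O.ncard = fO (P : Subgroup G) O + p * qO p (P : Subgroup G) O := part_card P ha
    have h3 : fO (P : Subgroup G) O = O.ncard := by rw [fO, Set.inter_eq_right.2 h1]
    have h4 : 0 < p * qO p (P : Subgroup G) O :=
      Nat.mul_pos (by omega) (qO_pos C.toBase P ha hba)
    omega
  have hdF : d ∉ F := fun h => hxd (mem_fx.1 h x hx)
  set g := φ ⟨x, le_st ha hx⟩ with hgdef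
  have hg1 : g ≠ 1 := by
    intro e
    refine hxd (good_semireg_cls C ha hba hg hx hd hdF ?_ d hd)
    exact congrArg Subtype.val (Equiv.ext_iff.1 e ⟨_, d, hd, rfl⟩)
  have hgp : g ^ p = 1 := by
    refine Equiv.ext fun δ => Subtype.ext ?_
    rw [hgdef, ← map_pow]
    show ((x : G) ^ p) • (δ : Set Ω) = (δ : Set Ω)
    obtain ⟨_, c, hc, rfl⟩ := δ
    show x ^ p • cls L F O c = cls L F O c
    rw [smul_cls hO (pow_mem (le_st ha hx) p), good_pow_p C ha hba hg hx c hc]
  have hord : orderOf g = p := orderOf_eq_prime hgp hg1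
  have hsupp : g.support.card < 2 * orderOf g := by
    rw [hord]
    calc g.support.card ≤ Fintype.card (Dl p (P : Subgroup G) a b) := Finset.card_le_univ _
      _ < 2 * p := by rw [← Nat.card_eq_fintype_card, hv]; omega
  have hcyc : g.IsCycle := Equiv.Perm.isCycle_of_prime_order (hord.symm ▸ Fact.out) hsupp
  haveI : IsPreprimitive φ.range (Dl p (P : Subgroup G) a b) :=
    IsPreprimitive.of_surjective
      (f := ({ toFun := id, map_smul' := fun _ _ => rfl } :
        Dl p (P : Subgroup G) a b →ₑ[φ.rangeRestrict] Dl p (P : Subgroup G) a b))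
      Function.surjective_id
  exact Cfsg.Agent.S0713.result φ.range inferInstance Fact.out
    (by rw [← Nat.card_eq_fintype_card]; omega)
    (by rw [← Nat.card_eq_fintype_card]; omega) hcyc (hcyc.orderOf.symm.trans hord)
    ⟨_, rfl⟩

end

end Cfsg.Agent.Lead.FixBound
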