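import Cfsg.Agent.Lib.Lead.FixBound.Unlinked

/-!
# An element moving few points gives a proper invariant set
-/

set_option autoImplicit false

namespace Cfsg.Agent.Lead.FixBound

open MulAction
open scoped Pointwise

universe u v

variable {p : ℕ} {G : Type u} [Group G] {Ω : Type v} [MulAction G Ω]

/-- On every part the Sylow subgroup is semiregular on the moved points. -/
def Semi (p : ℕ) (G : Type u) [Group G] (Ω : Type v) [MulAction G Ω] : Prop :=
  ∀ (Q : Sylow p G) (a b : Ω), a ∈ fx (Q : Subgroup G) Ω → b ≠ a → ∀ x ∈ (Q : Subgroup G),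
    ∀ d ∈ orbit (st p G a) b, d ∉ fx (Q : Subgroup G) Ω → x • d = d →
      ∀ c ∈ orbit (st p G a) b, x • c = c

/-- The union of the parts at `c` moved by `x`. -/
def US (p : ℕ) {G : Type u} [Group G] [MulAction G Ω] (x : G) (c : Ω) : Set Ω :=
  {d | d ≠ c ∧ ∃ e ∈ orbit (st p G c) d, x • e ≠ e}

theorem smul_fix_of_notMem {x : G} {c d : Ω} (hc : x • c = c) (hd : d ∉ US p x c) : x • d = d := by
  by_cases h : d = c
  · rw [h, hc]
  · by_contra hne
    exact hd ⟨h, d, mem_orbit_self d, hne⟩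

variable [Finite G] [Finite Ω] [Fact p.Prime] {P : Sylow p G}

omit [Finite G] [Finite Ω] [Fact p.Prime] in
theorem US_smul_mem {x : G} {c d : Ω} {g : G} (hg : g ∈ st p G c) (hd : d ∈ US p x c) :
    g • d ∈ US p x c := by
  obtain ⟨hne, e, he, hxe⟩ := hd
  refine ⟨fun h => hne (MulAction.injective g (h.trans (mem_st_iff_stab hg).symm)), e, ?_, hxe⟩
  rwa [orbit_eq_iff.2 (⟨⟨g, hg⟩, rfl⟩ : g • d ∈ orbit (st p G c) d)]

/-- A point fixed by a `p`-element is fixed by a Sylow subgroup containing it. -/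
theorem exists_sylow_fix (C : Crit p Ω P) {a : Ω} (ha : a ∈ fx (P : Subgroup G) Ω) {x : G}
    (hx : IsPEl p x) {c : Ω} (hc : x • c = c) :
    ∃ Q : Sylow p G, c ∈ fx (Q : Subgroup G) Ω ∧ x ∈ (Q : Subgroup G) := by
  haveI := C.prim
  obtain ⟨g, rfl⟩ := MulAction.exists_smul_eq G a c
  have hP' : ((g • P : Sylow p G) : Subgroup G) ≤ stabilizer G (g • a) := by
    intro y hy
    refine mem_stabilizer_iff.2 (mem_fx.1 ?_ y hy)
    rw [fx_smul]
    exact Set.smul_mem_smul_set ha
  set S := stabilizer G (g • a) with hS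
  have hz : IsPGroup p ((Subgroup.zpowers x).subgroupOf S) :=
    (isPEl_iff_mem.1 hx).comap_subtype
  obtain ⟨R, hR⟩ := hz.exists_le_sylow
  obtain ⟨t, ht⟩ := MulAction.exists_smul_eq S ((g • P : Sylow p G).subtype hP') R
  rw [Sylow.smul_subtype] at ht
  refine ⟨(t : G) • (g • P : Sylow p G), ?_, ?_⟩
  · rw [fx_smul, fx_smul]
    exact ⟨g • a, Set.smul_mem_smul_set ha, t.2⟩
  · have h1 : (⟨x, hc⟩ : S) ∈ (R : Subgroup S) := hR (Subgroup.mem_zpowers x)
    rw [← ht] at h1
    exact h1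

theorem Crit.smul (C : Crit p Ω P) (g : G) : Crit p Ω (g • P : Sylow p G) := by
  have h : (fx ((g • P : Sylow p G) : Subgroup G) Ω).ncard = (fx (P : Subgroup G) Ω).ncard := by
    rw [fx_smul, Set.ncard_smul_set]
  exact ⟨C.toBase, h ▸ C.q2, h ▸ C.tau, h ▸ C.res⟩

theorem Crit.of_sylow (C : Crit p Ω P) (Q : Sylow p G) : Crit p Ω Q := by
  obtain ⟨g, rfl⟩ := MulAction.exists_smul_eq G P Q
  exact C.smul g

/-- The union of moved parts grows towards the points outside it. -/
theorem US_mono (C : Crit p Ω P) {a : Ω} (ha : a ∈ fx (P : Subgroup G) Ω) {x : G}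
    (hx : IsPEl p x) {c d : Ω} (hc : x • c = c) (hd : d ∉ US p x c) :
    US p x c ⊆ US p x d := by
  by_cases hdc : d = c
  · rw [hdc]
  obtain ⟨Q, hQc, hxQ⟩ := exists_sylow_fix C ha hx hc
  have CQ := C.of_sylow Q
  set M : Subgroup G := Subgroup.closure {y | ∃ g ∈ st p G c, y = g * x * g⁻¹} with hM
  have hxc : x ∈ st p G c := le_st hQc hxQ
  have hMc : M ≤ st p G c := (Subgroup.closure_le _).2 fun y ⟨g, hg, e⟩ =>
    e ▸ (st p G c).mul_mem ((st p G c).mul_mem hg hxc) ((st p G c).inv_mem hg)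
  have hMn : ∀ g ∈ st p G c, ∀ y ∈ M, g * y * g⁻¹ ∈ M := by
    intro g hg y hy
    induction hy using Subgroup.closure_induction with
    | mem z hz =>
      obtain ⟨h, hh, rfl⟩ := hz
      exact Subgroup.subset_closure ⟨g * h, (st p G c).mul_mem hg hh, by group⟩
    | one => simp [one_mem]
    | mul u w _ _ hu hw =>
      rw [show g * (u * w) * g⁻¹ = g * u * g⁻¹ * (g * w * g⁻¹) by group]; exact mul_mem hu hw
    | inv u _ hu =>
      rw [show g * u⁻¹ * g⁻¹ = (g * u * g⁻¹)⁻¹ by group]; exact inv_mem hu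
  have hMp : pcl p M = M := le_antisymm (pcl_le M) ((Subgroup.closure_le _).2 fun y hy =>
    mem_pcl (Subgroup.subset_closure hy) (by
      obtain ⟨g, -, e⟩ := hy
      exact e ▸ hx.conj g))
  have hMd : M ≤ st p G d := by
    refine (Subgroup.closure_le _).2 ?_
    rintro y ⟨g, hg, rfl⟩
    refine mem_pcl (mem_stabilizer_iff.2 ?_) (hx.conj g)
    rw [mul_smul, mul_smul, smul_fix_of_notMem (p := p) hc (d := g⁻¹ • d) ?_, smul_inv_smul]
    intro h
    have := US_smul_mem hg h
    rw [smul_inv_smul] at this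
    exact hd this
  rintro z ⟨hzc, e, he, hxe⟩
  have hz_eq : orbit (st p G c) e = orbit (st p G c) z := orbit_eq_iff.2 he
  have htr := (trivial_or_transitive CQ hQc hzc hMc hMn hMp).resolve_left fun h =>
    hxe (h x (Subgroup.subset_closure ⟨1, one_mem _, by group⟩) e he)
  obtain ⟨m, hm⟩ := (htr e he).symm ▸ mem_orbit_self (M := st p G c) z
  refine ⟨fun h => hd (h ▸ ⟨hzc, e, he, hxe⟩), e, ?_, hxe⟩
  have h1 : z ∈ orbit (st p G d) e := ⟨⟨m, hMd m.2⟩, hm⟩
  rw [orbit_eq_iff.2 h1]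
  exact mem_orbit_self e

/-- Each part moved by `x` is almost filled by its moved points. -/
theorem US_card (C : Crit p Ω P) (hS : Semi p G Ω) {a : Ω} (ha : a ∈ fx (P : Subgroup G) Ω)
    {x : G} (hx : IsPEl p x) {c : Ω} (hc : x • c = c) :
    p * (US p x c).ncard ≤ (2 * p - 1) * {d : Ω | x • d ≠ d}.ncard := by
  classical
  obtain ⟨Q, hQc, hxQ⟩ := exists_sylow_fix C ha hx hc
  have CQ := C.of_sylow Q
  have h1 := sum_inter (G := G) p (a := c) (US p x c)
  have h2 := sum_inter (G := G) p (a := c) {d : Ω | x • d ≠ d}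
  rw [Set.sdiff_singleton_eq_self (fun h => h.1 rfl)] at h1
  rw [Set.sdiff_singleton_eq_self (by simp [hc] : c ∉ {d : Ω | x • d ≠ d})] at h2
  rw [← h1, ← h2, Finset.mul_sum, Finset.mul_sum]
  refine Finset.sum_le_sum fun O hO => ?_
  obtain ⟨b, hb, rfl⟩ := mem_parts.1 hO
  by_cases hmv : ∃ e ∈ orbit (st p G c) b, x • e ≠ e
  · obtain ⟨e, he, hxe⟩ := hmv
    set O := orbit (st p G c) b with hOdef
    have hsupp : {d : Ω | x • d ≠ d} ∩ O = O \ fx (Q : Subgroup G) Ω := by
      ext d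
      constructor
      · rintro ⟨hd, hdO⟩
        exact ⟨hdO, fun h => hd (mem_fx.1 h x hxQ)⟩
      · rintro ⟨hdO, hdF⟩
        exact ⟨fun h => hxe (hS Q c b hQc hb x hxQ d hdO hdF h e he), hdO⟩
    have h3 : (O \ fx (Q : Subgroup G) Ω).ncard + fO (Q : Subgroup G) O = O.ncard := by
      rw [fO, Set.inter_comm, add_comm,
        Set.ncard_inter_add_ncard_sdiff_eq_ncard O _ (Set.toFinite _)]
    have h4 : O.ncard = fO (Q : Subgroup G) O + p * qO p (Q : Subgroup G) O := part_card Q hQc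
    have h5 : fO (Q : Subgroup G) O ≤ (p - 1) * qO p (Q : Subgroup G) O :=
      part_bnd CQ.toBase Q hQc hb
    rw [hsupp, show (O \ fx (Q : Subgroup G) Ω).ncard = p * qO p (Q : Subgroup G) O by omega]
    refine le_trans (Nat.mul_le_mul_left p (Set.ncard_le_ncard Set.inter_subset_right)) ?_
    rw [h4]
    have hp := (Fact.out : p.Prime).two_le
    have e2 : (2 * p - 1) * (p * qO p (Q : Subgroup G) O) =
        p * ((p - 1) * qO p (Q : Subgroup G) O) + p * (p * qO p (Q : Subgroup G) O) := by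
      rw [show 2 * p - 1 = (p - 1) + p by omega]; ring
    rw [e2, mul_add]
    exact Nat.add_le_add_right (Nat.mul_le_mul_left p h5) _
  · have : US p x c ∩ orbit (st p G c) b = ∅ := Set.eq_empty_iff_forall_notMem.2 fun d hd => by
      obtain ⟨⟨-, e, he, hxe⟩, hdb⟩ := hd
      exact hmv ⟨e, orbit_eq_iff.2 hdb ▸ he, hxe⟩
    rw [this, Set.ncard_empty, mul_zero]
    exact Nat.zero_le _

/-- No non-trivial `p`-element moves less than `p n / (3p - 1)` points. -/
theorem displace (C : Crit p Ω P) (hS : Semi p G Ω) {a : Ω} (ha : a ∈ fx (P : Subgroup G) Ω)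
    {x : G} (hxP : x ∈ (P : Subgroup G)) (hx1 : x ≠ 1)
    (hsmall : (3 * p - 1) * {d : Ω | x • d ≠ d}.ncard < p * Nat.card Ω) : False := by
  classical
  haveI := C.prim
  haveI := C.faith
  have hp := (Fact.out : p.Prime).two_le
  have hx : IsPEl p x := isPEl_of_mem P.isPGroup' hxP
  obtain ⟨c, hc, hmax⟩ := Set.exists_max_image {c : Ω | x • c = c} (fun c => (US p x c).ncard)
    (Set.toFinite _) ⟨a, mem_fx.1 ha x hxP⟩
  set U := US p x c with hU
  set S := {d : Ω | x • d ≠ d} with hSdef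
  have hcard : U.ncard + S.ncard < Nat.card Ω := by
    have h := US_card C hS ha hx hc
    refine Nat.lt_of_mul_lt_mul_left (a := p) ?_
    calc p * (U.ncard + S.ncard) = p * U.ncard + p * S.ncard := mul_add _ _ _
      _ ≤ (2 * p - 1) * S.ncard + p * S.ncard := Nat.add_le_add_right h _
      _ = (3 * p - 1) * S.ncard := by
        rw [← add_mul, show 2 * p - 1 + p = 3 * p - 1 by omega]
      _ < p * Nat.card Ω := hsmall
  -- every conjugate of `x` leaves `U` invariant
  have hinv : ∀ g : G, (g * x * g⁻¹) • U = U := by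
    intro g
    obtain ⟨d, hd⟩ : ∃ d, d ∉ U ∪ g • S := by
      by_contra h
      push Not at h
      have h1 : (Set.univ : Set Ω).ncard ≤ (U ∪ g • S).ncard :=
        Set.ncard_le_ncard (fun z _ => h z)
      have h2 := Set.ncard_union_le U (g • S)
      rw [Set.ncard_univ] at h1
      rw [Set.ncard_smul_set] at h2
      omega
    simp only [Set.mem_union, not_or] at hd
    have hxd : x • d = d := smul_fix_of_notMem hc hd.1
    have heq : U = US p x d :=
      Set.eq_of_subset_of_ncard_le (US_mono C ha hx hc hd.1) (hmax d hxd)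
    have hy : (g * x * g⁻¹) ∈ st p G d := by
      refine mem_pcl (mem_stabilizer_iff.2 ?_) (hx.conj g)
      have : x • g⁻¹ • d = g⁻¹ • d := by
        by_contra h
        exact hd.2 (Set.mem_smul_set_iff_inv_smul_mem.2 h)
      rw [mul_smul, mul_smul, this, smul_inv_smul]
    rw [heq]
    refine Set.eq_of_subset_of_ncard_le ?_ (Set.ncard_smul_set _ _).ge
    rintro _ ⟨z, hz, rfl⟩
    exact US_smul_mem hy hz
  -- the normal closure is transitive
  set N := Subgroup.normalClosure {x} with hN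
  have hNU : N ≤ stabilizer G U := Subgroup.closure_le _ |>.2 fun y hy => by
    obtain ⟨z, hz, hzy⟩ := Group.mem_conjugatesOfSet_iff.1 hy
    rw [Set.mem_singleton_iff] at hz
    subst hz
    obtain ⟨g, rfl⟩ := isConj_iff.1 hzy
    exact hinv g
  have hNne : fixedPoints N Ω ≠ Set.univ := fun h => hx1 <|
    FaithfulSMul.eq_of_smul_eq_smul (α := Ω) fun z => by
      rw [one_smul]
      exact (h.symm ▸ Set.mem_univ z : z ∈ fixedPoints N Ω)
        ⟨x, Subgroup.subset_normalClosure rfl⟩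
  haveI : IsPretransitive N Ω := IsQuasiPreprimitive.isPretransitive_of_normal hNne
  obtain ⟨e, he⟩ : U.Nonempty := by
    by_contra h
    rw [Set.not_nonempty_iff_eq_empty] at h
    exact hx1 (FaithfulSMul.eq_of_smul_eq_smul (α := Ω) fun z => by
      rw [one_smul]
      exact smul_fix_of_notMem hc (show z ∉ U by rw [h]; exact Set.notMem_empty z))
  obtain ⟨m, hm⟩ := MulAction.exists_smul_eq N e c
  have : c ∈ (m : G) • U := hm ▸ Set.smul_mem_smul_set he
  rw [show (m : G) • U = U from hNU m.2] at this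
  exact this.1 rfl

end Cfsg.Agent.Lead.FixBound
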