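import Cfsg.Agent.Lib.Lead.FixBound.Parts

/-!
# Good parts: fewer than `2p` saturated classes
-/

set_option autoImplicit false

namespace Cfsg.Agent.Lead.FixBound

open MulAction
open scoped Pointwise

universe u v

variable {p : ℕ} {G : Type u} [Group G] {Ω : Type v} [MulAction G Ω]

/-- A part with fixed points and fewer than `2p` classes. -/
def GoodAt (p : ℕ) (P : Subgroup G) (a : Ω) (O : Set Ω) : Prop :=
  0 < fO P O ∧ GoodOn p (st p G a) (fx P Ω) O

/-- The class of `c` in `O`. -/
def cls (L : Subgroup G) (F O : Set Ω) (c : Ω) : Set Ω := {d | d ∈ O ∧ key L F d = key L F c}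

theorem mem_key_one {L : Subgroup G} {F : Set Ω} {c : Ω} : (1 : G) ∈ key L F c ↔ c ∈ F := by
  simp [key, one_mem]

theorem key_smul_eq {L : Subgroup G} {F : Set Ω} {c d : Ω} {h : G} (hh : h ∈ L)
    (e : key L F c = key L F d) : key L F (h • c) = key L F (h • d) := by
  ext g
  have := Set.ext_iff.1 e (g * h)
  simp only [key, Set.mem_ofPred_eq, mul_smul, L.mul_mem_cancel_right hh] at this ⊢
  exact this

theorem smul_cls {L : Subgroup G} {F O : Set Ω} (hO : ∀ h ∈ L, ∀ d ∈ O, h • d ∈ O) {c : Ω}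
    {h : G} (hh : h ∈ L) : h • cls L F O c = cls L F O (h • c) := by
  ext d
  rw [Set.mem_smul_set_iff_inv_smul_mem]
  constructor
  · rintro ⟨hdO, e⟩
    refine ⟨?_, ?_⟩
    · simpa using hO h hh _ hdO
    · simpa using key_smul_eq hh e
  · rintro ⟨hdO, e⟩
    refine ⟨hO _ (inv_mem hh) d hdO, ?_⟩
    simpa using key_smul_eq (inv_mem hh) e

theorem cls_eq {L : Subgroup G} {F O : Set Ω} {c d : Ω} (e : key L F d = key L F c) :
    cls L F O d = cls L F O c := by
  simp only [cls, e]

theorem cls_subset_fixed {L : Subgroup G} {F O : Set Ω} {c : Ω} (hc : c ∈ F) :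
    cls L F O c ⊆ F :=
  fun _ hd => mem_key_one.1 (hd.2.symm ▸ mem_key_one.2 hc)

variable [Finite Ω]

theorem ncard_eq_mul {L : Subgroup G} {F O S : Set Ω} (β : ℕ)
    (hS : ∀ c ∈ S, cls L F O c ⊆ S) (hSO : S ⊆ O)
    (hsize : ∀ c ∈ S, (cls L F O c).ncard = β) :
    S.ncard = (cls L F O '' S).ncard * β := by
  classical
  haveI := Fintype.ofFinite Ω
  rw [Set.ncard_eq_toFinset_card' S, Set.ncard_eq_toFinset_card' (cls L F O '' S),
    Finset.card_eq_sum_card_fiberwise (f := cls L F O) (t := (cls L F O '' S).toFinset)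
      (fun c hc => by simp only [Finset.mem_coe, Set.mem_toFinset] at hc ⊢; exact ⟨c, hc, rfl⟩)]
  refine Finset.sum_const_nat fun D hD => ?_
  obtain ⟨c, hc, rfl⟩ := Set.mem_toFinset.1 hD
  rw [← hsize c hc, Set.ncard_eq_toFinset_card' (cls L F O c)]
  congr 1
  ext d
  simp only [Finset.mem_filter, Set.mem_toFinset]
  constructor
  · rintro ⟨hd, e⟩
    exact e ▸ ⟨hSO hd, rfl⟩
  · intro hd
    exact ⟨hS c hc hd, cls_eq hd.2⟩

theorem ncard_cls_image {L : Subgroup G} {F O : Set Ω} :
    (cls L F O '' O).ncard ≤ (key L F '' O).ncard := by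
  classical
  have : cls L F O '' O =
      (fun K : Set G => {d | d ∈ O ∧ key L F d = K}) '' (key L F '' O) := by
    rw [Set.image_image]
    rfl
  rw [this]
  exact Set.ncard_image_le ((Set.toFinite O).image _)

variable [Finite G] [Fact p.Prime] {P : Sylow p G}

section

variable (C : Crit p Ω P) {a b : Ω} (ha : a ∈ fx (P : Subgroup G) Ω) (hba : b ≠ a)
  (hg : GoodAt p (P : Subgroup G) a (orbit (st p G a) b))

include C ha hba hg

/-- The shape of a good part. -/
theorem good_struct :
    let O := orbit (st p G a) b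
    let F := fx (P : Subgroup G) Ω
    ∃ β fm : ℕ, 1 ≤ β ∧ 1 ≤ fm ∧ fm + 1 ≤ p ∧ fO (P : Subgroup G) O = β * fm ∧
      qO p (P : Subgroup G) O = β ∧
      (∀ c ∈ O, (cls (st p G a) F O c).ncard = β) ∧
      (cls (st p G a) F O '' O).ncard = fm + p ∧
      (∀ c ∈ O, (∀ x ∈ (P : Subgroup G),
        x • cls (st p G a) F O c = cls (st p G a) F O c) → c ∈ F) := by
  intro O F
  set L := st p G a with hL
  have hp := (Fact.out : p.Prime).two_le
  have hO : ∀ h ∈ L, ∀ d ∈ O, h • d ∈ O := fun h hh d hd => orbit_smul_mem hh hd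
  obtain ⟨hf, hgood⟩ := hg
  obtain ⟨c0, hc0F, hc0O⟩ := (Set.ncard_pos (Set.toFinite _)).1 hf
  set β := (cls L F O c0).ncard with hβ
  have hsize : ∀ c ∈ O, (cls L F O c).ncard = β := by
    intro c hc
    obtain ⟨g, hg⟩ := (orbit_eq_iff.2 hc0O ▸ hc : c ∈ orbit L c0)
    rw [← show (g : G) • c0 = c from hg, ← smul_cls hO g.2, Set.ncard_smul_set]
  have hβ1 : 1 ≤ β := (Set.ncard_pos (Set.toFinite _)).2 ⟨c0, hc0O, rfl⟩
  set v := (cls L F O '' O).ncard with hv
  have hn : O.ncard = v * β := ncard_eq_mul β (fun c _ d hd => hd.1) le_rfl hsize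
  have hv2 : v < 2 * p := lt_of_le_of_lt ncard_cls_image hgood
  have hcard : O.ncard = fO (P : Subgroup G) O + p * qO p (P : Subgroup G) O := part_card P ha
  have hqpos : 0 < qO p (P : Subgroup G) O := qO_pos C.toBase P ha hba
  obtain ⟨hfixed, fm, qm, e1, e2, e3⟩ :
      (∀ c ∈ O, (∀ x ∈ (P : Subgroup G), x • cls L F O c = cls L F O c) → c ∈ F) ∧
      ∃ fm qm : ℕ, fO (P : Subgroup G) O = β * fm ∧ qO p (P : Subgroup G) O = β * qm ∧
        fm ≤ (p - 1) * qm := by
    by_cases h2 : 2 ≤ β
    · have hne : cls L F O c0 ≠ O := by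
        intro e
        have hsub : O ⊆ F := e ▸ cls_subset_fixed hc0F
        have : fO (P : Subgroup G) O = O.ncard := by
          rw [fO, Set.inter_eq_right.2 hsub]
        have : p * qO p (P : Subgroup G) O = 0 := by omega
        simp only [mul_eq_zero] at this
        omega
      have hblk : ∀ h ∈ L, h • cls L F O c0 = cls L F O c0 ∨
          Disjoint (h • cls L F O c0) (cls L F O c0) := by
        intro h hh
        rw [smul_cls hO hh]
        by_cases e : key L F (h • c0) = key L F c0
        · exact Or.inl (cls_eq e)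
        · exact Or.inr (Set.disjoint_left.2 fun d hd hd' => e (hd.2.symm.trans hd'.2))
      obtain ⟨hsat, fm, qm, e1, e2, e3, -⟩ := part_sat C ha hba (D := cls L F O c0)
        (fun d hd => hd.1) (show c0 ∈ cls L F O c0 from ⟨hc0O, rfl⟩) hc0F hblk h2 hne
      refine ⟨fun c hc hfix => ?_, fm, qm, e1, e2, e3⟩
      obtain ⟨g, hg⟩ := (orbit_eq_iff.2 hc0O ▸ hc : c ∈ orbit L c0)
      have e : (g : G) • cls L F O c0 = cls L F O c := by
        rw [smul_cls hO g.2]; exact congrArg (cls L F O) hg
      have h := hsat g g.2 (by rw [e]; exact hfix)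
      rw [e] at h
      exact h ⟨hc, rfl⟩
    · have hb1 : β = 1 := by omega
      refine ⟨fun c hc hfix => mem_fx.2 fun x hx => ?_,
        fO (P : Subgroup G) O, qO p (P : Subgroup G) O, by rw [hb1, one_mul], by rw [hb1, one_mul],
        part_bnd C.toBase P ha hba⟩
      have h1 : x • c ∈ cls L F O c := hfix x hx ▸ Set.smul_mem_smul_set ⟨hc, rfl⟩
      exact (Set.ncard_le_one (Set.toFinite _)).1 (by rw [hsize c hc, hb1]) _ h1 _ ⟨hc, rfl⟩
  have hvv : v = fm + p * qm := by
    have : v * β = (fm + p * qm) * β := by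
      rw [← hn, hcard, e1, e2]; ring
    exact Nat.eq_of_mul_eq_mul_right hβ1 this
  have hqm : qm = 1 := by
    rcases Nat.lt_or_ge qm 2 with h | h
    · rcases Nat.eq_zero_or_pos qm with h' | h'
      · rw [h', mul_zero] at e2; omega
      · omega
    · have : p * 2 ≤ p * qm := Nat.mul_le_mul_left _ h
      omega
  subst hqm
  have hfm1 : 1 ≤ fm := by
    rcases Nat.eq_zero_or_pos fm with h' | h'
    · rw [h', mul_zero] at e1
      have hf' : 0 < fO (P : Subgroup G) O := hf
      omega
    · omega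
  refine ⟨β, fm, hβ1, hfm1, by omega, e1, by rw [e2, mul_one], hsize, (show v = fm + p by rw [hvv, mul_one]),
    hfixed⟩

/-- An element of `P` fixing a moved class of a good part fixes the whole part. -/
theorem good_semireg_cls {x : G} (hx : x ∈ (P : Subgroup G)) {d : Ω}
    (hd : d ∈ orbit (st p G a) b) (hdF : d ∉ fx (P : Subgroup G) Ω)
    (hxd : x • cls (st p G a) (fx (P : Subgroup G) Ω) (orbit (st p G a) b) d =
      cls (st p G a) (fx (P : Subgroup G) Ω) (orbit (st p G a) b) d) :
    ∀ c ∈ orbit (st p G a) b, x • c = c := by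
  set O := orbit (st p G a) b with hOdef
  set F := fx (P : Subgroup G) Ω with hF
  set L := st p G a with hL
  have hp := (Fact.out : p.Prime).two_le
  have hO : ∀ h ∈ L, ∀ e ∈ O, h • e ∈ O := fun h hh e he => orbit_smul_mem hh he
  obtain ⟨β, fm, hβ1, hfm1, -, hf, hq, hsize, hv, hfixed⟩ := good_struct C ha hba hg
  have hxL : x ∈ L := le_st ha hx
  -- the moved classes
  set M := cls L F O '' (O \ F) with hM
  have hMcard : M.ncard = p := by
    have h1 : (O \ F).ncard = M.ncard * β := ncard_eq_mul β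
      (fun c hc e he => ⟨he.1, fun heF => hc.2 (cls_subset_fixed heF ⟨hc.1, he.2.symm⟩)⟩)
      (fun e he => he.1) fun c hc => hsize c hc.1
    have h2 : (O \ F).ncard + fO (P : Subgroup G) O = O.ncard := by
      rw [fO, Set.inter_comm, add_comm, Set.ncard_inter_add_ncard_sdiff_eq_ncard O F (Set.toFinite _)]
    have h3 := part_card P (b := b) ha
    have h4 : M.ncard * β = p * β := by
      rw [← h1]
      have e : p * qO p (P : Subgroup G) O = p * β := by rw [hq]
      change O.ncard = fO (P : Subgroup G) O + p * qO p (P : Subgroup G) O at h3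
      omega
    exact Nat.eq_of_mul_eq_mul_right hβ1 h4
  -- the action of `x` on classes
  have hall : ∀ e ∈ O, x • cls L F O e = cls L F O e := by
    intro e he
    by_cases heF : e ∈ F
    · rw [smul_cls hO hxL, mem_fx.1 heF x hx]
    have hz : IsPGroup p (Subgroup.zpowers x) := P.isPGroup'.to_le (Subgroup.zpowers_le.2 hx)
    set D := cls L F O e with hD
    obtain ⟨k, hk⟩ := hz.card_orbit D
    by_cases hDd : D = cls L F O d
    · rw [hDd, hxd]
    have hsub : orbit (Subgroup.zpowers x) D ⊆ M \ {cls L F O d} := by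
      rintro _ ⟨⟨y, i, rfl⟩, rfl⟩
      show (x ^ i) • D ∈ M \ {cls L F O d}
      have hyP : x ^ i ∈ (P : Subgroup G) := zpow_mem hx i
      refine ⟨⟨(x ^ i) • e, ⟨hO _ (le_st ha hyP) _ he, fun h => heF ?_⟩,
        (smul_cls hO (le_st ha hyP)).symm⟩, ?_⟩
      · have := mem_fx.1 h _ hyP
        exact (MulAction.injective _ this) ▸ h
      · intro hmem
        rw [Set.mem_singleton_iff] at hmem
        have hxd' : x • cls L F O d = cls L F O d := hxd
        have hfixd : (x ^ i) • cls L F O d = cls L F O d := by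
          have : x ∈ stabilizer G (cls L F O d) := hxd'
          exact zpow_mem this i
        have : D = cls L F O d := MulAction.injective _ (hmem.trans hfixd.symm)
        exact hDd this
    have h2 : (M \ {cls L F O d}).ncard < p := by
      have := Set.ncard_sdiff_singleton_add_one (a := cls L F O d) (s := M) ⟨d, ⟨hd, hdF⟩, rfl⟩
      omega
    have h3 : (orbit (Subgroup.zpowers x) D).ncard < p :=
      (Set.ncard_le_ncard hsub (Set.toFinite _)).trans_lt h2
    rw [← Nat.card_coe_set_eq, hk] at h3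
    have hk0 : k = 0 := by
      by_contra hk0
      exact absurd h3 (not_lt.2 (Nat.le_self_pow hk0 p))
    rw [hk0, pow_zero, Nat.card_coe_set_eq] at hk
    exact (Set.ncard_le_one (Set.toFinite _)).1 hk.le _ ⟨⟨x, Subgroup.mem_zpowers x⟩, rfl⟩ _
      (mem_orbit_self D)
  -- so it lies in the kernel on classes, whose `p`-part is trivial
  let K : Subgroup G :=
    { carrier := {g | g ∈ L ∧ ∀ e ∈ O, g • cls L F O e = cls L F O e}
      one_mem' := ⟨one_mem _, fun e _ => one_smul _ _⟩
      mul_mem' := fun {g h} hg hh => ⟨mul_mem hg.1 hh.1, fun e he => by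
        rw [mul_smul, hh.2 e he, hg.2 e he]⟩
      inv_mem' := fun {g} hg => ⟨inv_mem hg.1, fun e he => by
        rw [inv_smul_eq_iff, hg.2 e he]⟩ }
  have hKn : ∀ g ∈ L, ∀ k ∈ K, g * k * g⁻¹ ∈ K := fun g hg k hk =>
    ⟨mul_mem (mul_mem hg hk.1) (inv_mem hg), fun e he => by
      rw [mul_smul, mul_smul, smul_cls hO (inv_mem hg), hk.2 _ (hO _ (inv_mem hg) _ he),
        smul_cls hO hg, smul_inv_smul]⟩
  rcases trivial_or_transitive C ha hba (N := pcl p K) ((pcl_le K).trans fun g hg => hg.1)
    (fun g hg y hy => conj_mem_pcl (fun k hk => hKn g hg k hk) hy) (pcl_idem K) with h | h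
  · exact fun c hc => h x (mem_pcl ⟨hxL, hall⟩ (isPEl_of_mem P.isPGroup' hx)) c hc
  · exfalso
    obtain ⟨c0, hc0F, hc0O⟩ := (Set.ncard_pos (Set.toFinite _)).1 hg.1
    obtain ⟨g, hgd⟩ := (Set.ext_iff.1 (h c0 hc0O) d).2 hd
    have hK : (g : G) ∈ K := pcl_le K g.2
    have h1 : d ∈ cls L F O c0 := by
      rw [← hK.2 c0 hc0O, ← show (g : G) • c0 = d from hgd]
      exact Set.smul_mem_smul_set ⟨hc0O, rfl⟩
    exact hdF (cls_subset_fixed hc0F h1)

/-- An element of `P` fixing a moved point of a good part fixes the whole part. -/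
theorem good_semireg {x : G} (hx : x ∈ (P : Subgroup G)) {d : Ω}
    (hd : d ∈ orbit (st p G a) b) (hdF : d ∉ fx (P : Subgroup G) Ω) (hxd : x • d = d) :
    ∀ c ∈ orbit (st p G a) b, x • c = c :=
  good_semireg_cls C ha hba hg hx hd hdF (by
    rw [smul_cls (fun h hh e he => orbit_smul_mem hh he) (le_st ha hx), hxd])

/-- An element of `P` moving a good part moves all its non-fixed points. -/
theorem good_moves_all {x : G} (hx : x ∈ (P : Subgroup G)) {c : Ω}
    (hc : c ∈ orbit (st p G a) b) (hxc : x • c ≠ c) {d : Ω} (hd : d ∈ orbit (st p G a) b)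
    (hdF : d ∉ fx (P : Subgroup G) Ω) : x • d ≠ d :=
  fun h => hxc (good_semireg C ha hba hg hx hd hdF h c hc)

end

/-- There is a good part. -/
theorem exists_good (C : Crit p Ω P) {a : Ω} (ha : a ∈ fx (P : Subgroup G) Ω) :
    ∃ b, b ≠ a ∧ GoodAt p (P : Subgroup G) a (orbit (st p G a) b) := by
  classical
  by_contra hno
  push Not at hno
  have hp := (Fact.out : p.Prime).two_le
  have hsum := sum_sO C.toBase P ha
  have hq := sum_qO P ha
  have hq2 := C.q2
  have htau := C.tau
  have hres := C.res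
  set F := fx (P : Subgroup G) Ω with hF
  set q := (Nat.card Ω - F.ncard) / p with hqdef
  by_cases hall : ∀ O ∈ parts p G a, 0 < fO (P : Subgroup G) O
  · have hbad : ∀ O ∈ parts p G a, ∃ i, i < sO p (P : Subgroup G) O ∧
        p ∣ qO p (P : Subgroup G) O + i := by
      intro O hO
      obtain ⟨b, hba, rfl⟩ := mem_parts.1 hO
      by_contra hb
      push Not at hb
      exact hno b hba ⟨hall _ hO, part_good C.toBase P ha hba (hall _ hO) hb⟩
    choose! i hi1 hi2 using hbad
    have hne : (parts p G a).Nonempty := by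
      by_contra he
      rw [Finset.not_nonempty_iff_eq_empty] at he
      rw [he, Finset.sum_empty] at hq
      omega
    have hlt : ∑ O ∈ parts p G a, i O < ∑ O ∈ parts p G a, sO p (P : Subgroup G) O :=
      Finset.sum_lt_sum_of_nonempty hne hi1
    refine hres (∑ O ∈ parts p G a, i O) (by omega) ?_
    rw [← hq, ← Finset.sum_add_distrib]
    exact Finset.dvd_sum hi2
  · push Not at hall
    obtain ⟨O1, hO1, hf1⟩ := hall
    obtain ⟨b1, hb1, rfl⟩ := mem_parts.1 hO1
    have h1 : 0 < qO p (P : Subgroup G) (orbit (st p G a) b1) := qO_pos C.toBase P ha hb1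
    have hs1 : (p - 1) * qO p (P : Subgroup G) (orbit (st p G a) b1) ≤ p - 1 := by
      have := sO_le C ha hb1
      simp only [sO, show fO (P : Subgroup G) (orbit (st p G a) b1) = 0 by omega, Nat.sub_zero]
        at this
      exact this
    have hq1 : qO p (P : Subgroup G) (orbit (st p G a) b1) = 1 := by
      nlinarith [show 1 ≤ p - 1 by omega]
    obtain ⟨O2, hO2, hne⟩ : ∃ O ∈ parts p G a, O ≠ orbit (st p G a) b1 := by
      by_contra h
      push Not at h
      rw [Finset.eq_singleton_iff_unique_mem.2 ⟨hO1, h⟩, Finset.sum_singleton, hq1] at hq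
      omega
    have h2 : sO p (P : Subgroup G) (orbit (st p G a) b1) + sO p (P : Subgroup G) O2 ≤
        ∑ O ∈ parts p G a, sO p (P : Subgroup G) O := by
      rw [← Finset.sum_pair (Ne.symm hne)]
      exact Finset.sum_le_sum_of_subset (by
        intro O hO
        rcases Finset.mem_insert.1 hO with e | e
        · exact e ▸ hO1
        · exact Finset.mem_singleton.1 e ▸ hO2)
    have hs1' : sO p (P : Subgroup G) (orbit (st p G a) b1) = p - 1 := by
      simp only [sO, show fO (P : Subgroup G) (orbit (st p G a) b1) = 0 by omega, Nat.sub_zero, hq1,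
        mul_one]
    obtain ⟨b2, hb2, rfl⟩ := mem_parts.1 hO2
    have hs2 : sO p (P : Subgroup G) (orbit (st p G a) b2) = 0 := by omega
    have h3 : 0 < qO p (P : Subgroup G) (orbit (st p G a) b2) := qO_pos C.toBase P ha hb2
    have hf2 : 0 < fO (P : Subgroup G) (orbit (st p G a) b2) := by
      simp only [sO] at hs2
      have : 0 < (p - 1) * qO p (P : Subgroup G) (orbit (st p G a) b2) :=
        Nat.mul_pos (by omega) h3
      omega
    exact hno b2 hb2 ⟨hf2, part_good C.toBase P ha hb2 hf2 fun j hj => absurd hj (by omega)⟩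

end Cfsg.Agent.Lead.FixBound
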