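import Cfsg.Agent.Lib.Lead.FixBound.BigParts

/-!
# Parts linked to the good parts
-/

set_option autoImplicit false

namespace Cfsg.Agent.Lead.FixBound

open MulAction
open scoped Pointwise commutatorElement

universe u v

variable {p : ℕ} {G : Type u} [Group G] {Ω : Type v} [MulAction G Ω]

/-- A good part with one fixed class. -/
def SmallP (p : ℕ) (P : Subgroup G) (a : Ω) (O : Set Ω) : Prop :=
  GoodAt p P a O ∧ fO P O ≤ qO p P O

theorem big_or_small {P : Subgroup G} {a : Ω} {O : Set Ω} (h : GoodAt p P a O) :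
    BigP p P a O ∨ SmallP p P a O :=
  (Nat.lt_or_ge (qO p P O) (fO P O)).imp (fun e => ⟨h, e⟩) fun e => ⟨h, e⟩

variable [Finite G] [Finite Ω] [Fact p.Prime] {P : Sylow p G}

/-- The kernel on all good parts. -/
def gker (p : ℕ) (G : Type u) [Group G] [MulAction G Ω] (a : Ω) : Subgroup G :=
  st p G a ⊓ fixingSubgroup G (goodPts p G a)

theorem gker_normal {a : Ω} {g : G} (hg : g ∈ st p G a) {x : G} (hx : x ∈ gker p G a) :
    g * x * g⁻¹ ∈ gker p G a := by
  obtain ⟨hx1, hx2⟩ := Subgroup.mem_inf.1 hx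
  refine Subgroup.mem_inf.2 ⟨(st p G a).mul_mem ((st p G a).mul_mem hg hx1)
    ((st p G a).inv_mem hg), (mem_fixingSubgroup_iff G).2 fun c hc => ?_⟩
  have h1 := smul_mem_goodPts g⁻¹ hc
  rw [mem_st_iff_stab ((st p G a).inv_mem hg)] at h1
  rw [mul_smul, mul_smul, (mem_fixingSubgroup_iff G).1 hx2 _ h1, smul_inv_smul]

theorem mem_gker {a : Ω}
    (ha : a ∈ fx (P : Subgroup G) Ω) {g : G} (hg : g ∈ st p G a)
    (h : ∀ O ∈ parts p G a, GoodAt p (P : Subgroup G) a O → Triv O g) : g ∈ gker p G a := by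
  refine Subgroup.mem_inf.2 ⟨hg, (mem_fixingSubgroup_iff G).2 fun c hc => ?_⟩
  obtain ⟨hca, hgc⟩ := (mem_goodPts ha).1 hc
  exact h _ (mem_parts_orbit hca) hgc c (mem_orbit_self c)

theorem triv_of_pow {O : Set Ω} {x : G} (hx : IsPEl p x) {l : ℕ} (hl : ¬ p ∣ l)
    (h : Triv O (x ^ l)) : Triv O x := by
  obtain ⟨k, hk⟩ := hx
  have hco : Nat.Coprime l (orderOf x) :=
    hk ▸ Nat.Coprime.pow_right _ (((Fact.out : p.Prime).coprime_iff_not_dvd.2 hl).symm)
  obtain ⟨m, hm⟩ := exists_pow_eq_self_of_coprime hco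
  rw [← hm]
  intro c hc
  exact smul_eq_self_of_mem_zpowers (pow_mem (Subgroup.mem_zpowers (x ^ l)) m) (h c hc)

theorem Triv.pow {O : Set Ω} {g : G} (hg : Triv O g) (k : ℕ) : Triv O (g ^ k) :=
  fun c hc => smul_eq_self_of_mem_zpowers (pow_mem (Subgroup.mem_zpowers g) k) (hg c hc)

theorem sO_pair (C : Crit p Ω P) {a b c : Ω} (ha : a ∈ fx (P : Subgroup G) Ω) (hb : b ≠ a)
    (hc : c ≠ a) (hne : orbit (st p G a) b ≠ orbit (st p G a) c) :
    sO p (P : Subgroup G) (orbit (st p G a) b) + sO p (P : Subgroup G) (orbit (st p G a) c) ≤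
      p - 1 := by
  classical
  have h1 : sO p (P : Subgroup G) (orbit (st p G a) b) +
      sO p (P : Subgroup G) (orbit (st p G a) c) ≤
      ∑ O ∈ parts p G a, sO p (P : Subgroup G) O := by
    rw [← Finset.sum_pair hne]
    refine Finset.sum_le_sum_of_subset fun O hO => ?_
    rcases Finset.mem_insert.1 hO with e | e
    · exact e ▸ mem_parts_orbit hb
    · exact Finset.mem_singleton.1 e ▸ mem_parts_orbit hc
  have h2 := sum_sO C.toBase P ha
  have h3 := C.tau
  omega

/-- A small part costs at least `p - 2`. -/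
theorem small_slack (C : Crit p Ω P) {a b : Ω} (ha : a ∈ fx (P : Subgroup G) Ω) (hb : b ≠ a)
    (h : SmallP p (P : Subgroup G) a (orbit (st p G a) b)) :
    p - 2 ≤ sO p (P : Subgroup G) (orbit (st p G a) b) := by
  have h1 := qO_pos C.toBase P ha hb
  have h2 := h.2
  simp only [sO]
  set q := qO p (P : Subgroup G) (orbit (st p G a) b)
  have hp := (Fact.out : p.Prime).two_le
  have e : (p - 1) * q = (p - 2) * q + q := by
    rw [show p - 1 = p - 2 + 1 by omega, add_mul, one_mul]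
  have : p - 2 ≤ (p - 2) * q := Nat.le_mul_of_pos_right _ h1
  omega

theorem le_of_factorial_dvd {v p : ℕ} (hv : p + 3 ≤ v) (h : v.factorial ≤ 2 * (p + 1).factorial) :
    False := by
  have h1 : (p + 3).factorial ≤ v.factorial := Nat.factorial_le hv
  have h2 : (p + 3).factorial = (p + 3) * ((p + 2) * (p + 1).factorial) := by
    rw [Nat.factorial_succ, Nat.factorial_succ]
  have h3 := Nat.factorial_pos (p + 1)
  have h4 : 3 * (2 * (p + 1).factorial) ≤ (p + 3) * ((p + 2) * (p + 1).factorial) :=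
    Nat.mul_le_mul (by omega) (Nat.mul_le_mul_right _ (by omega))
  omega

/-- A big part is separated from a small one. -/
theorem exists_sep_small (C : Crit p Ω P) {a b c : Ω} (ha : a ∈ fx (P : Subgroup G) Ω)
    (hb : b ≠ a) (hc : c ≠ a) (hbig : BigP p (P : Subgroup G) a (orbit (st p G a) b))
    (hsmall : SmallP p (P : Subgroup G) a (orbit (st p G a) c)) :
    ∃ y ∈ (P : Subgroup G), Triv (orbit (st p G a) c) y ∧
      ¬ Triv (orbit (st p G a) b) y := by
  classical
  set L := st p G a with hL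
  set φb := MulAction.toPermHom L (Dl p (P : Subgroup G) a b) with hφb
  set φc := MulAction.toPermHom L (Dl p (P : Subgroup G) a c) with hφc
  set K : Subgroup G := φc.ker.map L.subtype with hK
  by_cases hm : MovesCls p (P : Subgroup G) a b K
  · obtain ⟨x, hx, hxK, hxn⟩ := exists_moving C ha hb hbig (Subgroup.map_subtype_le _)
      (fun g hg z hz => by
        obtain ⟨z, hz, rfl⟩ := hz
        exact ⟨⟨g, hg⟩ * z * ⟨g, hg⟩⁻¹, (MonoidHom.normal_ker φc).conj_mem z hz ⟨g, hg⟩, rfl⟩) hm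
    refine ⟨x, hx, (cls_moved_iff C ha hc hsmall.1 hx).2 fun δ => ?_, hxn⟩
    obtain ⟨z, hz, hzx⟩ := hxK
    have : z = (⟨x, le_st ha hx⟩ : L) := Subtype.ext hzx
    subst this
    exact Equiv.ext_iff.1 (MonoidHom.mem_ker.1 hz) δ
  · exfalso
    have hle : φc.ker ≤ φb.ker := fun z hz => MonoidHom.mem_ker.2 (Equiv.ext fun δ => by
      by_contra h
      exact hm ⟨z, Subgroup.mem_map_of_mem _ hz, δ, h⟩)
    have hdvd : Nat.card φb.range ∣ Nat.card φc.range := by
      rw [← Subgroup.index_ker, ← Subgroup.index_ker]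
      exact Subgroup.index_dvd_of_le hle
    obtain ⟨β, fm, hβ, hfm1, hfmp, hfb, hqb, hvb⟩ := card_Dl C ha hb hbig.1
    obtain ⟨β', fm', hβ', hfm1', hfmp', hfc, hqc, hvc⟩ := card_Dl C ha hc hsmall.1
    have hfm2 : 2 ≤ fm := by
      have h := hbig.2
      rw [hfb, hqb] at h
      by_contra hh
      rw [show fm = 1 by omega, mul_one] at h
      omega
    have hfm' : fm' = 1 := by
      have h := hsmall.2
      rw [hfc, hqc] at h
      by_contra hh
      have : β' * 2 ≤ β' * fm' := Nat.mul_le_mul_left _ (by omega)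
      omega
    haveI : Fintype (Dl p (P : Subgroup G) a b) := Fintype.ofFinite _
    haveI : Fintype (Dl p (P : Subgroup G) a c) := Fintype.ofFinite _
    have hcc : Nat.card φc.range ∣ (p + 1).factorial := by
      have := Subgroup.card_subgroup_dvd_card φc.range
      rwa [Nat.card_perm, hvc, hfm', add_comm] at this
    haveI := pretransitive_Dl (P := P) (p := p) (a := a) (b := b)
    obtain ⟨c0, hc0F, hc0O⟩ := (Set.ncard_pos (Set.toFinite _)).1 hbig.1.1
    let δ0 : Dl p (P : Subgroup G) a b := ⟨_, c0, hc0O, rfl⟩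
    have hvdvd : fm + p ∣ Nat.card φb.range := by
      haveI : IsPretransitive φb.range (Dl p (P : Subgroup G) a b) := ⟨fun x y => by
        obtain ⟨g, hg⟩ := MulAction.exists_smul_eq L x y
        exact ⟨⟨φb g, g, rfl⟩, hg⟩⟩
      rw [← hvb, ← index_stabilizer_of_transitive φb.range δ0]
      exact Subgroup.index_dvd_card _
    have hdvd' := hdvd.trans hcc
    have hne : orbit L b ≠ orbit L c := fun e => by
      rw [e] at hbig
      exact absurd hsmall.2 (not_le.2 hbig.2)
    have hbudget := sO_pair C ha hb hc hne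
    have hsb : p - 1 - fm ≤ sO p (P : Subgroup G) (orbit (st p G a) b) := by
      simp only [sO, hfb, hqb]
      rw [mul_comm β fm, ← Nat.sub_mul]
      exact Nat.le_mul_of_pos_right _ hβ
    have hsc := small_slack C ha hc hsmall
    have hp := (Fact.out : p.Prime).two_le
    by_cases hfm3 : 3 ≤ fm
    · have halt := alt_le_range C ha hb hbig.1 (by rw [hvb]; omega)
      haveI : Nontrivial (Dl p (P : Subgroup G) a b) :=
        Finite.one_lt_card_iff_nontrivial.1 (by rw [hvb]; omega)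
      have h1 := two_mul_card_alternatingGroup (α := Dl p (P : Subgroup G) a b)
      rw [Fintype.card_perm, ← Nat.card_eq_fintype_card, ← Nat.card_eq_fintype_card, hvb] at h1
      have h2 : Nat.card (alternatingGroup (Dl p (P : Subgroup G) a b)) ∣ (p + 1).factorial :=
        (Subgroup.card_dvd_of_le halt).trans hdvd'
      have h3 := Nat.le_of_dvd (Nat.factorial_pos _) h2
      exact le_of_factorial_dvd (v := fm + p) (p := p) (by omega) (by omega)
    · -- five classes and `p = 3`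
      have hfm : fm = 2 := by omega
      have hp4 : p ≠ 4 := fun h => by
        have := (Fact.out : p.Prime)
        rw [h] at this
        norm_num at this
      have hp3 : p = 3 := by omega
      have h5 := hvdvd.trans hdvd'
      subst hfm hp3
      norm_num [Nat.factorial] at h5

section

variable (C : Crit p Ω P) {a : Ω} (ha : a ∈ fx (P : Subgroup G) Ω) (hNN : NN p G a = ⊥)

include C ha hNN

/-- An element of `P` fixing all good parts is trivial. -/
theorem eq_one_of_triv {g : G} (hg : g ∈ (P : Subgroup G))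
    (h : ∀ O ∈ parts p G a, GoodAt p (P : Subgroup G) a O → Triv O g) : g = 1 :=
  Subgroup.mem_bot.1 (hNN ▸ (mem_pcl (mem_gker (P := P) ha (le_st ha hg) h)
    (isPEl_of_mem P.isPGroup' hg) : g ∈ NN p G a))

theorem pow_p_eq_one {g : G} (hg : g ∈ (P : Subgroup G)) : g ^ p = 1 := by
  refine eq_one_of_triv C ha hNN (pow_mem hg p) fun O hO hgO => ?_
  obtain ⟨b, hb, rfl⟩ := mem_parts.1 hO
  exact good_pow_p C ha hb hgO hg

/-- The kernel on all good parts has order prime to `p`. -/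
theorem gker_prime_to : ¬ p ∣ Nat.card (gker p G a) := by
  intro hd
  obtain ⟨⟨g, hg⟩, hgo⟩ := exists_prime_orderOf_dvd_card' p hd
  have hgo' : orderOf g = p := (Subgroup.orderOf_mk _ _).symm.trans hgo
  have h1 : g ∈ NN p G a := mem_pcl hg ⟨1, by rw [hgo', pow_one]⟩
  rw [hNN, Subgroup.mem_bot] at h1
  rw [h1, orderOf_one] at hgo'
  exact (Fact.out : p.Prime).one_lt.ne hgo'

omit hNN in
/-- Kernels on two good parts moved by a common element coincide when nested. -/
theorem kernel_symm {b c : Ω} (hb : b ≠ a) (hc : c ≠ a)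
    (hgc : GoodAt p (P : Subgroup G) a (orbit (st p G a) c)) {x : G} (hx : x ∈ (P : Subgroup G))
    (hxb : ¬ Triv (orbit (st p G a) b) x) (hxc : ¬ Triv (orbit (st p G a) c) x)
    (hsub : ∀ y ∈ (P : Subgroup G), Triv (orbit (st p G a) c) y → Triv (orbit (st p G a) b) y)
    {g : G} (hg : g ∈ (P : Subgroup G)) (hgb : Triv (orbit (st p G a) b) g) :
    Triv (orbit (st p G a) c) g := by
  obtain ⟨l, hl, h⟩ := good_cyclic C ha hc hgc hx hg hxc
  have h1 := hsub _ (mul_mem (inv_mem (pow_mem hx l)) hg) h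
  have h2 : Triv (orbit (st p G a) b) (x ^ l) := by
    have := hgb.mul h1.inv
    rwa [mul_inv_rev, inv_inv, mul_inv_cancel_left] at this
  rcases Nat.eq_zero_or_pos l with hl0 | hl0
  · rw [hl0, pow_zero, inv_one, one_mul] at h
    exact h
  · exact absurd (triv_of_pow (isPEl_of_mem P.isPGroup' hx)
      (fun hd => absurd (Nat.le_of_dvd hl0 hd) (by omega)) h2) hxb

end

/-- An element supported on one class of big parts, or on small parts only. -/
def Piece (p : ℕ) (P : Subgroup G) (a : Ω) (x : G) : Prop :=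
  x ∈ P ∧ (((∀ O ∈ parts p G a, SmallP p P a O → Triv O x) ∧
    ∃ Oi ∈ parts p G a, BigP p P a Oi ∧ ¬ Triv Oi x ∧
      ∀ O ∈ parts p G a, GoodAt p P a O → (∃ y ∈ P, Triv O y ∧ ¬ Triv Oi y) → Triv O x) ∨
    ∀ O ∈ parts p G a, BigP p P a O → Triv O x)

section

variable (C : Crit p Ω P) {a : Ω} (ha : a ∈ fx (P : Subgroup G) Ω)

include C ha

theorem mem_closure_pieces {g : G} (hg : g ∈ (P : Subgroup G)) :
    g ∈ Subgroup.closure {x | Piece p (P : Subgroup G) a x} := by
  classical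
  suffices h : ∀ (n : ℕ) (g : G), g ∈ (P : Subgroup G) →
      ((parts p G a).filter fun O => BigP p (P : Subgroup G) a O ∧ ¬ Triv O g).card = n →
      g ∈ Subgroup.closure {x | Piece p (P : Subgroup G) a x} from h _ g hg rfl
  intro n
  induction n using Nat.strong_induction_on with
  | _ n ih =>
    intro g hg hn
    by_cases hall : ∀ O ∈ parts p G a, BigP p (P : Subgroup G) a O → Triv O g
    · exact Subgroup.subset_closure ⟨hg, Or.inr hall⟩
    push Not at hall
    obtain ⟨Oi, hOi, hbig, hgn⟩ := hall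
    obtain ⟨b, hb, rfl⟩ := mem_parts.1 hOi
    set Oi := orbit (st p G a) b with hOidef
    set J := (parts p G a).filter fun O => GoodAt p (P : Subgroup G) a O ∧
      ∃ y ∈ (P : Subgroup G), Triv O y ∧ ¬ Triv Oi y with hJ
    obtain ⟨x, hx, hxn, hxJ⟩ := exists_separated C ha hb hbig J fun O hO => by
      obtain ⟨hO1, -, hO2⟩ := Finset.mem_filter.1 hO
      obtain ⟨c, -, rfl⟩ := mem_parts.1 hO1
      exact ⟨⟨c, rfl⟩, hO2⟩
    have hpiece : Piece p (P : Subgroup G) a x := by
      refine ⟨hx, Or.inl ⟨fun O hO hs => hxJ O (Finset.mem_filter.2 ⟨hO, hs.1, ?_⟩), Oi, hOi,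
        hbig, hxn, fun O hO hgO hy => hxJ O (Finset.mem_filter.2 ⟨hO, hgO, hy⟩)⟩⟩
      obtain ⟨c, hc, rfl⟩ := mem_parts.1 hO
      exact exists_sep_small C ha hb hc hbig hs
    obtain ⟨k, -, hk⟩ := good_cyclic C ha hb hbig.1 hx hg hxn
    set g' := (x ^ k)⁻¹ * g with hg'
    have hg'P : g' ∈ (P : Subgroup G) := mul_mem (inv_mem (pow_mem hx k)) hg
    have hlt : ((parts p G a).filter fun O => BigP p (P : Subgroup G) a O ∧ ¬ Triv O g').card <
        n := by
      rw [← hn]
      refine Finset.card_lt_card ⟨fun O hO => ?_, fun h => ?_⟩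
      · obtain ⟨hO1, hOb, hOn⟩ := Finset.mem_filter.1 hO
        refine Finset.mem_filter.2 ⟨hO1, hOb, fun hgO => hOn ?_⟩
        by_cases hxO : Triv O x
        · exact (hxO.pow k).inv.mul hgO
        · obtain ⟨c, hc, rfl⟩ := mem_parts.1 hO1
          refine kernel_symm C ha hb hc hOb.1 hx hxn hxO (fun y hy hyc => ?_) hg'P hk
          by_contra hyb
          exact hxO (hxJ _ (Finset.mem_filter.2 ⟨hO1, hOb.1, y, hy, hyc, hyb⟩))
      · exact (Finset.mem_filter.1 (h (Finset.mem_filter.2 ⟨hOi, hbig, hgn⟩))).2.2 hk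
    have := ih _ hlt g' hg'P rfl
    have h2 : g = x ^ k * g' := by rw [hg', mul_inv_cancel_left]
    rw [h2]
    have hxK : x ∈ Subgroup.closure {x | Piece p (P : Subgroup G) a x} :=
      Subgroup.subset_closure (show x ∈ {x | Piece p (P : Subgroup G) a x} from hpiece)
    exact Subgroup.mul_mem _ (Subgroup.pow_mem _ hxK k) this

variable (hNN : NN p G a = ⊥)
  (hsu : ∀ O ∈ parts p G a, ∀ O' ∈ parts p G a, SmallP p (P : Subgroup G) a O →
    SmallP p (P : Subgroup G) a O' → O = O')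

include hNN hsu

/-- Two pieces moving a common good part generate one cyclic group. -/
theorem piece_zpowers {x x' : G} (hx : Piece p (P : Subgroup G) a x)
    (hx' : Piece p (P : Subgroup G) a x') {O : Set Ω} (hO : O ∈ parts p G a)
    (hg : GoodAt p (P : Subgroup G) a O) (hxO : ¬ Triv O x) (hx'O : ¬ Triv O x') :
    x' ∈ Subgroup.zpowers x := by
  obtain ⟨hxP, hx⟩ := hx
  obtain ⟨hx'P, hx'⟩ := hx'
  obtain ⟨c, hc, rfl⟩ := mem_parts.1 hO
  obtain ⟨k, -, hk⟩ := good_cyclic C ha hc hg hxP hx'P hxO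
  suffices h : (x ^ k)⁻¹ * x' = 1 by
    rw [inv_mul_eq_one] at h
    exact h ▸ pow_mem (Subgroup.mem_zpowers x) k
  have hzP : (x ^ k)⁻¹ * x' ∈ (P : Subgroup G) := mul_mem (inv_mem (pow_mem hxP k)) hx'P
  refine eq_one_of_triv C ha hNN hzP fun Ol hOl hgl => ?_
  by_cases hxl : Triv Ol x ∧ Triv Ol x'
  · exact (hxl.1.pow k).inv.mul hxl.2
  obtain ⟨l, hl, rfl⟩ := mem_parts.1 hOl
  rcases big_or_small hg with hcb | hcs
  · -- both are of the first kind
    rcases hx with ⟨hxs, Oi, hOi, hib, hxi, hxJ⟩ | hx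
    swap
    · exact absurd (hx _ hO hcb) hxO
    rcases hx' with ⟨hx's, Oi', hOi', hib', hx'i, hx'J⟩ | hx'
    swap
    · exact absurd (hx' _ hO hcb) hx'O
    have hlb : BigP p (P : Subgroup G) a (orbit (st p G a) l) :=
      (big_or_small hgl).resolve_right fun hs => hxl ⟨hxs _ hOl hs, hx's _ hOl hs⟩
    obtain ⟨i, hi, rfl⟩ := mem_parts.1 hOi
    obtain ⟨i', hi', rfl⟩ := mem_parts.1 hOi'
    -- the kernels of all parts moved by `x` or `x'` are equal
    have hsubx : ∀ d, d ≠ a → GoodAt p (P : Subgroup G) a (orbit (st p G a) d) →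
        ¬ Triv (orbit (st p G a) d) x → ∀ y ∈ (P : Subgroup G),
          (Triv (orbit (st p G a) d) y ↔ Triv (orbit (st p G a) i) y) := by
      intro d hd hgd hxd y hy
      have hs : ∀ y ∈ (P : Subgroup G), Triv (orbit (st p G a) d) y →
          Triv (orbit (st p G a) i) y := fun y hy hyd => by
        by_contra hyi
        exact hxd (hxJ _ (mem_parts_orbit hd) hgd ⟨y, hy, hyd, hyi⟩)
      exact ⟨hs y hy, fun h => kernel_symm C ha hi hd hgd hxP hxi hxd hs hy h⟩
    have hsubx' : ∀ d, d ≠ a → GoodAt p (P : Subgroup G) a (orbit (st p G a) d) →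
        ¬ Triv (orbit (st p G a) d) x' → ∀ y ∈ (P : Subgroup G),
          (Triv (orbit (st p G a) d) y ↔ Triv (orbit (st p G a) i') y) := by
      intro d hd hgd hxd y hy
      have hs : ∀ y ∈ (P : Subgroup G), Triv (orbit (st p G a) d) y →
          Triv (orbit (st p G a) i') y := fun y hy hyd => by
        by_contra hyi
        exact hxd (hx'J _ (mem_parts_orbit hd) hgd ⟨y, hy, hyd, hyi⟩)
      exact ⟨hs y hy, fun h => kernel_symm C ha hi' hd hgd hx'P hx'i hxd hs hy h⟩
    have h1 := (hsubx c hc hg hxO _ hzP).1 hk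
    by_cases hxlx : Triv (orbit (st p G a) l) x
    · have h2 := fun h => hxl ⟨hxlx, h⟩
      have h3 : Triv (orbit (st p G a) c) x :=
        (hsubx' c hc hg hx'O x hxP).2 ((hsubx' l hl hgl h2 x hxP).1 hxlx)
      exact absurd h3 hxO
    · exact (hsubx l hl hgl hxlx _ hzP).2 h1
  · -- both only move the small part
    rcases hx with ⟨hxs, -⟩ | hx
    · exact absurd (hxs _ hO hcs) hxO
    rcases hx' with ⟨hx's, -⟩ | hx'
    · exact absurd (hx's _ hO hcs) hx'O
    rcases big_or_small hgl with hlb | hls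
    · exact absurd ⟨hx _ hOl hlb, hx' _ hOl hlb⟩ hxl
    · rw [hsu _ hOl _ hO hls hcs]
      exact hk

omit hsu in
/-- The image on the classes of a big part is a quotient of the image on a part linked to it. -/
theorem linked_dvd {b i : Ω} (hi : i ≠ a)
    (hib : BigP p (P : Subgroup G) a (orbit (st p G a) i)) {x : G} (hx : x ∈ (P : Subgroup G))
    (hxs : ∀ O ∈ parts p G a, SmallP p (P : Subgroup G) a O → Triv O x)
    (hxi : ¬ Triv (orbit (st p G a) i) x)
    (hxJ : ∀ O ∈ parts p G a, GoodAt p (P : Subgroup G) a O →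
      (∃ y ∈ (P : Subgroup G), Triv O y ∧ ¬ Triv (orbit (st p G a) i) y) → Triv O x)
    (hxb : ¬ Triv (orbit (st p G a) b) x) :
    Nat.card (MulAction.toPermHom (st p G a) (Dl p (P : Subgroup G) a i)).range ∣
      Nat.card (MulAction.toPermHom (st p G a) (orbit (st p G a) b)).range := by
  classical
  set L := st p G a with hL
  set φi := MulAction.toPermHom L (Dl p (P : Subgroup G) a i) with hφi
  set ψ := MulAction.toPermHom L (orbit L b) with hψ
  have hnm : ¬ MovesCls p (P : Subgroup G) a i (ker p a (orbit L b)) := by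
    intro hmv
    obtain ⟨y, hy, hyK, hyn⟩ := exists_moving C ha hi hib inf_le_left
      (fun g hg z hz => ker_normal hg hz) hmv
    set J := (parts p G a).filter fun O => GoodAt p (P : Subgroup G) a O ∧
      ∃ y ∈ (P : Subgroup G), Triv O y ∧ ¬ Triv (orbit L i) y with hJ
    obtain ⟨z, hz, hzn, hzJ⟩ := exists_separated C ha hi hib (insert (orbit L b) J) fun O hO => by
      rcases Finset.mem_insert.1 hO with rfl | hO
      · exact ⟨⟨b, rfl⟩, y, hy, (mem_ker.1 hyK).2, hyn⟩
      · obtain ⟨hO1, -, hO2⟩ := Finset.mem_filter.1 hO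
        obtain ⟨c, -, rfl⟩ := mem_parts.1 hO1
        exact ⟨⟨c, rfl⟩, hO2⟩
    obtain ⟨k, hkp, hk⟩ := good_cyclic C ha hi hib.1 hx hz hxi
    have hzP : (x ^ k)⁻¹ * z ∈ (P : Subgroup G) := mul_mem (inv_mem (pow_mem hx k)) hz
    have h1 : (x ^ k)⁻¹ * z = 1 := by
      refine eq_one_of_triv C ha hNN hzP fun O hO hgO => ?_
      obtain ⟨c, hc, rfl⟩ := mem_parts.1 hO
      by_cases hxO : Triv (orbit L c) x
      · refine (hxO.pow k).inv.mul (hzJ _ (Finset.mem_insert_of_mem (Finset.mem_filter.2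
          ⟨mem_parts_orbit hc, hgO, ?_⟩)))
        exact ⟨x, hx, hxO, hxi⟩
      · refine kernel_symm C ha hi hc hgO hx hxi hxO (fun y hy hyc => ?_) hzP hk
        by_contra hyi
        exact hxO (hxJ _ (mem_parts_orbit hc) hgO ⟨y, hy, hyc, hyi⟩)
    rw [inv_mul_eq_one] at h1
    rcases Nat.eq_zero_or_pos k with hk0 | hk0
    · rw [hk0, pow_zero] at h1
      exact hzn (h1 ▸ Triv.one _)
    · exact hxb (triv_of_pow (isPEl_of_mem P.isPGroup' hx)
        (fun hd => absurd (Nat.le_of_dvd hk0 hd) (by omega))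
        (h1 ▸ hzJ _ (Finset.mem_insert_self _ _)))
  have hle : ψ.ker ≤ φi.ker := fun z hz => MonoidHom.mem_ker.2 (Equiv.ext fun δ => by
    by_contra h
    refine hnm ⟨z, mem_ker.2 ⟨z.2, fun c hc => ?_⟩, δ, h⟩
    exact congrArg Subtype.val (Equiv.ext_iff.1 (MonoidHom.mem_ker.1 hz) ⟨c, hc⟩))
  have h1 : Nat.card φi.range ∣ Nat.card ψ.range := by
    rw [← Subgroup.index_ker, ← Subgroup.index_ker]
    exact Subgroup.index_dvd_of_le hle
  exact h1

omit hsu in
/-- Elements disjoint on the good parts are disjoint on such a part. -/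
theorem disjoint_of_good {b : Ω} (hb : b ≠ a) (hf : 0 < fO (P : Subgroup G) (orbit (st p G a) b))
    (hint : ∀ c ∈ orbit (st p G a) b, orbit (gker p G a) c ≠ orbit (st p G a) b) {x x' : G}
    (hxP : x ∈ (P : Subgroup G)) (hx'P : x' ∈ (P : Subgroup G))
    (hdis : ∀ O' ∈ parts p G a, GoodAt p (P : Subgroup G) a O' → Triv O' x ∨ Triv O' x') :
    Triv (orbit (st p G a) b) x ∨ Triv (orbit (st p G a) b) x' := by
  by_contra hno
  push Not at hno
  obtain ⟨hxn, hx'n⟩ := hno
  set O := orbit (st p G a) b with hOdef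
  -- the normal closure of `x` is transitive on `O`
  set M : Subgroup G := Subgroup.closure {y | ∃ g ∈ st p G a, y = g * x * g⁻¹} with hM
  have hxL : x ∈ st p G a := le_st ha hxP
  have hMc : M ≤ st p G a := (Subgroup.closure_le _).2 fun y ⟨g, hg, e⟩ =>
    e ▸ (st p G a).mul_mem ((st p G a).mul_mem hg hxL) ((st p G a).inv_mem hg)
  have hMn : ∀ g ∈ st p G a, ∀ y ∈ M, g * y * g⁻¹ ∈ M := by
    intro g hg y hy
    induction hy using Subgroup.closure_induction with
    | mem z hz =>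
      obtain ⟨h, hh, rfl⟩ := hz
      exact Subgroup.subset_closure ⟨g * h, (st p G a).mul_mem hg hh, by group⟩
    | one => simp [one_mem]
    | mul u w _ _ hu hw =>
      rw [show g * (u * w) * g⁻¹ = g * u * g⁻¹ * (g * w * g⁻¹) by group]; exact mul_mem hu hw
    | inv u _ hu =>
      rw [show g * u⁻¹ * g⁻¹ = (g * u * g⁻¹)⁻¹ by group]; exact inv_mem hu
  have hMp : pcl p M = M := le_antisymm (pcl_le M) ((Subgroup.closure_le _).2 fun y hy =>
    mem_pcl (Subgroup.subset_closure hy) (by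
      obtain ⟨g, -, e⟩ := hy
      exact e ▸ (isPEl_of_mem P.isPGroup' hxP).conj g))
  have htr := (trivial_or_transitive C ha hb hMc hMn hMp).resolve_left fun h =>
    hxn (h x (Subgroup.subset_closure ⟨1, one_mem _, by group⟩))
  have hMtriv : ∀ O' ∈ parts p G a, Triv O' x → ∀ m ∈ M, Triv O' m := by
    intro O' hO' hxO' m hm
    obtain ⟨d, -, rfl⟩ := mem_parts.1 hO'
    have : M ≤ ker p a (orbit (st p G a) d) := (Subgroup.closure_le _).2 fun y ⟨g, hg, e⟩ =>
      e ▸ ker_normal hg (mem_ker.2 ⟨hxL, hxO'⟩)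
    exact (mem_ker.1 (this hm)).2
  -- `x'` fixes every orbit of the kernel
  have hx'L : x' ∈ st p G a := le_st ha hx'P
  have hcomm : ∀ m ∈ M, x' * m * x'⁻¹ * m⁻¹ ∈ gker p G a := by
    intro m hm
    refine mem_gker (P := P) ha ((st p G a).mul_mem ((st p G a).mul_mem
      ((st p G a).mul_mem hx'L (hMc hm)) ((st p G a).inv_mem hx'L))
      ((st p G a).inv_mem (hMc hm))) fun O' hO' hg' => ?_
    obtain ⟨d, hd, rfl⟩ := mem_parts.1 hO'
    rcases hdis _ hO' hg' with h | h
    · exact (hMtriv _ hO' h _ (hMn x' hx'L m hm)).mul (hMtriv _ hO' h m hm).inv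
    · have h1 : Triv (orbit (st p G a) d) (m * x'⁻¹ * m⁻¹) :=
        (mem_ker.1 (ker_normal (hMc hm) (mem_ker.2 ⟨(st p G a).inv_mem hx'L, h.inv⟩))).2
      have := h.mul h1
      rwa [← mul_assoc, ← mul_assoc] at this
  obtain ⟨c0, hc0⟩ : ∃ c0, c0 ∈ O ∧ x' • c0 ∈ orbit (gker p G a) c0 := by
    obtain ⟨c, hcF, hcO⟩ := (Set.ncard_pos (Set.toFinite _)).1 hf
    exact ⟨c, hcO, (mem_fx.1 hcF x' hx'P).symm ▸ mem_orbit_self c⟩
  have hfixorb : ∀ d ∈ O, x' • d ∈ orbit (gker p G a) d := by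
    intro d hd
    obtain ⟨⟨m, hm⟩, rfl⟩ := (Set.ext_iff.1 (htr c0 hc0.1) d).2 hd
    show x' • m • c0 ∈ orbit (gker p G a) (m • c0)
    obtain ⟨⟨n, hn⟩, hn'⟩ := hc0.2
    have hn'' : n • c0 = x' • c0 := hn'
    refine ⟨⟨(x' * m * x'⁻¹ * m⁻¹) * (m * n * m⁻¹),
      Subgroup.mul_mem _ (hcomm m hm) (gker_normal (hMc hm) hn)⟩, ?_⟩
    show ((x' * m * x'⁻¹ * m⁻¹) * (m * n * m⁻¹)) • m • c0 = x' • m • c0
    rw [mul_smul (x' * m * x'⁻¹ * m⁻¹), show (m * n * m⁻¹) • m • c0 = m • n • c0 by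
      rw [mul_smul, mul_smul, inv_smul_smul], hn'', smul_smul, smul_smul, smul_smul]
    group
  -- the stabiliser of these orbits is intransitive
  let S : Subgroup G :=
    { carrier := {g | g ∈ st p G a ∧ ∀ d ∈ O, g • d ∈ orbit (gker p G a) d}
      one_mem' := ⟨one_mem _, fun d _ => by rw [one_smul]; exact mem_orbit_self d⟩
      mul_mem' := fun {g h} hg hh => ⟨(st p G a).mul_mem hg.1 hh.1, fun d hd => by
        rw [mul_smul, ← orbit_eq_iff.2 (hh.2 d hd)]
        exact hg.2 _ (orbit_smul_mem hh.1 hd)⟩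
      inv_mem' := fun {g} hg => ⟨(st p G a).inv_mem hg.1, fun d hd => by
        have h := hg.2 _ (orbit_smul_mem ((st p G a).inv_mem hg.1) hd)
        rw [smul_inv_smul] at h
        rw [orbit_eq_iff.2 h]
        exact mem_orbit_self _⟩ }
  have hSn : ∀ g ∈ st p G a, ∀ k ∈ S, g * k * g⁻¹ ∈ S := by
    intro g hg k hk
    refine ⟨(st p G a).mul_mem ((st p G a).mul_mem hg hk.1) ((st p G a).inv_mem hg),
      fun d hd => ?_⟩
    obtain ⟨⟨n, hn⟩, hn'⟩ := hk.2 _ (orbit_smul_mem ((st p G a).inv_mem hg) hd)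
    refine ⟨⟨g * n * g⁻¹, gker_normal hg hn⟩, ?_⟩
    show (g * n * g⁻¹) • d = (g * k * g⁻¹) • d
    rw [mul_smul, mul_smul, mul_smul, mul_smul]
    exact congrArg (g • ·) hn'
  rcases trivial_or_transitive C ha hb (N := pcl p S) ((pcl_le S).trans fun g hg => hg.1)
    (fun g hg y hy => conj_mem_pcl (fun k hk => hSn g hg k hk) hy) (pcl_idem S) with h | h
  · exact hx'n (h x' (mem_pcl ⟨hx'L, hfixorb⟩ (isPEl_of_mem P.isPGroup' hx'P)))
  · refine hint c0 hc0.1 (Set.Subset.antisymm ?_ ?_)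
    · exact fun w ⟨m, hm⟩ => hm ▸ orbit_smul_mem (Subgroup.mem_inf.1 m.2).1 hc0.1
    · intro w hw
      obtain ⟨g, rfl⟩ := (Set.ext_iff.1 (h c0 hc0.1) w).2 hw
      exact (pcl_le S g.2).2 c0 hc0.1

/-- On a part where the kernel of the good parts is intransitive, `P` induces a cyclic group. -/
theorem part_cyclic {b : Ω} (hb : b ≠ a) (hf : 0 < fO (P : Subgroup G) (orbit (st p G a) b))
    (hint : ∀ c ∈ orbit (st p G a) b, orbit (gker p G a) c ≠ orbit (st p G a) b) :
    ∃ x ∈ (P : Subgroup G), (∀ g ∈ (P : Subgroup G), ∃ k : ℤ,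
      Triv (orbit (st p G a) b) ((x ^ k)⁻¹ * g)) := by
  classical
  set O := orbit (st p G a) b with hOdef
  have hPle : Subgroup.closure {x | Piece p (P : Subgroup G) a x} ≤ (P : Subgroup G) :=
    (Subgroup.closure_le _).2 fun y hy => hy.1
  by_cases hall : ∀ x, Piece p (P : Subgroup G) a x → Triv O x
  · refine ⟨1, one_mem _, fun g hg => ⟨0, ?_⟩⟩
    rw [zpow_zero, inv_one, one_mul]
    have := mem_closure_pieces C ha hg
    induction this using Subgroup.closure_induction with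
    | mem y hy => exact hall y hy
    | one => exact Triv.one O
    | mul u w hu' hw' hu hw => exact (hu (hPle hu')).mul (hw (hPle hw'))
    | inv u hu' hu => exact (hu (hPle hu')).inv
  push Not at hall
  obtain ⟨x, hx, hxn⟩ := hall
  have hcyc : ∀ x', Piece p (P : Subgroup G) a x' → ¬ Triv O x' → x' ∈ Subgroup.zpowers x := by
    intro x' hx' hx'n
    by_contra hne
    have hdis : ∀ O' ∈ parts p G a, GoodAt p (P : Subgroup G) a O' →
        Triv O' x ∨ Triv O' x' := by
      intro O' hO' hg'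
      by_contra h
      push Not at h
      exact hne (piece_zpowers C ha hNN hsu hx hx' hO' hg' h.1 h.2)
    rcases disjoint_of_good C ha hNN hb hf hint hx.1 hx'.1 hdis with h | h
    · exact hxn h
    · exact hx'n h
  refine ⟨x, hx.1, fun g hg => ?_⟩
  have hcl := mem_closure_pieces C ha hg
  have habel : ∀ y ∈ (P : Subgroup G), ∀ z ∈ (P : Subgroup G), y * z = z * y := by
    intro y hy z hz
    exact commutatorElement_eq_one_iff_mul_comm.1 (eq_one_of_triv C ha hNN
      (mul_mem (mul_mem (mul_mem hy hz) (inv_mem hy)) (inv_mem hz)) fun O' hO' hg' => by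
        obtain ⟨e, he, rfl⟩ := mem_parts.1 hO'
        exact good_comm C ha he hg' hy hz)
  induction hcl using Subgroup.closure_induction with
  | mem y hy =>
    by_cases hyn : Triv O y
    · exact ⟨0, by rw [zpow_zero, inv_one, one_mul]; exact hyn⟩
    · obtain ⟨k, hk⟩ := hcyc y hy hyn
      exact ⟨k, by rw [show x ^ k = y from hk, inv_mul_cancel]; exact Triv.one O⟩
  | one => exact ⟨0, by rw [zpow_zero, inv_one, one_mul]; exact Triv.one O⟩
  | mul u w hu' hw' hu hw =>
    obtain ⟨k, hk⟩ := hu (hPle hu')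
    obtain ⟨l, hl⟩ := hw (hPle hw')
    refine ⟨k + l, ?_⟩
    have e : (x ^ (k + l))⁻¹ * (u * w) = ((x ^ k)⁻¹ * u) * ((x ^ l)⁻¹ * w) := by
      rw [zpow_add, mul_inv_rev, mul_assoc, mul_assoc, ← mul_assoc (x ^ k)⁻¹ u w,
        ← mul_assoc (x ^ l)⁻¹, ← mul_assoc _ u,
        habel _ (inv_mem (zpow_mem hx.1 l)) _ (mul_mem (inv_mem (zpow_mem hx.1 k)) (hPle hu')),
        mul_assoc, mul_assoc]
    rw [e]
    exact hk.mul hl
  | inv u hu' hu =>
    obtain ⟨k, hk⟩ := hu (hPle hu')
    refine ⟨-k, ?_⟩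
    have e : (x ^ (-k))⁻¹ * u⁻¹ = ((x ^ k)⁻¹ * u)⁻¹ := by
      rw [zpow_neg, inv_inv, mul_inv_rev, inv_inv,
        habel _ (zpow_mem hx.1 k) _ (inv_mem (hPle hu'))]
    rw [e]
    exact hk.inv

end

end Cfsg.Agent.Lead.FixBound
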