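import Cfsg.Agent.Lib.Lead.FixBound.Sigma

/-!
# The primitive critical case is impossible for odd primes
-/

set_option autoImplicit false

namespace Cfsg.Agent.Lead.FixBound

open MulAction
open scoped Pointwise

universe u v

variable {p : ℕ} {G : Type u} [Group G] {Ω : Type v} [MulAction G Ω]
variable [Finite G] [Finite Ω] [Fact p.Prime] {P : Sylow p G}

/-- The normaliser of `P` moves any fixed point to any other. -/
theorem exists_normalizing (C : Crit p Ω P) {a b : Ω} (ha : a ∈ fx (P : Subgroup G) Ω)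
    (hb : b ∈ fx (P : Subgroup G) Ω) : ∃ t : G, t • P = P ∧ t • a = b := by
  haveI := C.prim
  obtain ⟨g, rfl⟩ := MulAction.exists_smul_eq G a b
  have h1 : g • a ∈ fx ((g • P : Sylow p G) : Subgroup G) Ω := by
    rw [fx_smul]; exact Set.smul_mem_smul_set ha
  obtain ⟨h, hh, he⟩ := exists_st_conj (g • P) P h1 hb
  exact ⟨h * g, by rw [mul_smul, he], by rw [mul_smul, mem_st_iff_stab hh]⟩

theorem normalizing_fO {t : G} (ht : t • P = P) (O : Set Ω) :
    fO (P : Subgroup G) (t • O) = fO (P : Subgroup G) O ∧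
      qO p (P : Subgroup G) (t • O) = qO p (P : Subgroup G) O := by
  have h : fO (P : Subgroup G) (t • O) = fO (P : Subgroup G) O := by
    have e : fx (P : Subgroup G) Ω = t • fx (P : Subgroup G) Ω := by
      conv_lhs => rw [← ht]
      exact fx_smul t P
    unfold fO
    conv_lhs => rw [e, ← Set.smul_set_inter, Set.ncard_smul_set]
  exact ⟨h, by unfold qO; rw [h, Set.ncard_smul_set]⟩

/-- A big part of the kind to which `lines_facts` applies. -/
def Alted (p : ℕ) (P : Subgroup G) (a : Ω) : Prop :=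
  ∃ i, i ≠ a ∧ BigP p P a (orbit (st p G a) i) ∧
    (3 * qO p P (orbit (st p G a) i) ≤ fO P (orbit (st p G a) i) ∨ p = 3)

theorem alted_move (C : Crit p Ω P) {a b : Ω} (ha : a ∈ fx (P : Subgroup G) Ω)
    (hb : b ∈ fx (P : Subgroup G) Ω) (h : Alted p (P : Subgroup G) a) :
    Alted p (P : Subgroup G) b := by
  obtain ⟨t, ht, rfl⟩ := exists_normalizing C ha hb
  obtain ⟨i, hi, ⟨hgood, hlt⟩, hc⟩ := h
  obtain ⟨e1, e2⟩ := normalizing_fO ht (orbit (st p G a) i)
  rw [smul_orbit_st] at e1 e2
  refine ⟨t • i, fun e => hi (MulAction.injective t e), ⟨?_, by rwa [e1, e2]⟩, by rwa [e1, e2]⟩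
  have := goodAt_smul t P a _ hgood
  rwa [ht, smul_orbit_st] at this

theorem alted_facts (C : Crit p Ω P) (hp2 : p ≠ 2) {a : Ω} (ha : a ∈ fx (P : Subgroup G) Ω)
    (h : Alted p (P : Subgroup G) a) :
    (∀ b ∈ fx (P : Subgroup G) Ω, ∀ d ∈ fx (P : Subgroup G) Ω, b ≠ a → d ≠ a →
      Rel p G a b d → Rel p G a d b) ∧
    (∀ b ∈ fx (P : Subgroup G) Ω, ∀ c ∈ fx (P : Subgroup G) Ω, ∀ d ∈ fx (P : Subgroup G) Ω,
      b ≠ a → c ≠ a → d ≠ a → ¬ Rel p G a b c → ¬ Rel p G a b d → ¬ Rel p G a c d →
      ∃ Q : Sylow p G, a ∈ fx (Q : Subgroup G) Ω ∧ b ∈ fx (Q : Subgroup G) Ω ∧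
        c ∈ fx (Q : Subgroup G) Ω ∧ d ∉ fx (Q : Subgroup G) Ω) ∧
    (∃ b ∈ fx (P : Subgroup G) Ω, ∃ d ∈ fx (P : Subgroup G) Ω, ∃ c ∈ fx (P : Subgroup G) Ω,
      b ≠ a ∧ d ≠ a ∧ c ≠ a ∧ b ≠ d ∧ Rel p G a b d ∧ ¬ Rel p G a b c) := by
  obtain ⟨i, hi, hbig, hc⟩ := h
  refine lines_facts C hp2 ha hi hbig ?_
  obtain ⟨β, fm, hβ, hfm1, hfmp, hf, hq, hv⟩ := card_Dl C ha hi hbig.1
  have h2 := hbig.2
  rw [hf, hq] at h2 hc
  rcases hc with h3 | h3
  · left
    have : 3 ≤ fm := by
      rw [mul_comm 3 β] at h3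
      exact Nat.le_of_mul_le_mul_left h3 hβ
    rw [hv]; omega
  · right
    have : fm ≠ 1 := fun e => by rw [e, mul_one] at h2; omega
    exact ⟨h3, by rw [hv]; omega⟩

/-- Lines through three points give a contradiction. -/
theorem not_alted (C : Crit p Ω P) (hp2 : p ≠ 2) {a : Ω} (ha : a ∈ fx (P : Subgroup G) Ω) :
    ¬ Alted p (P : Subgroup G) a := by
  intro hA
  obtain ⟨sa, -, b, hb, d, hd, c, hc, hba, hda, hca, hbd, hR, hnR⟩ := alted_facts C hp2 ha hA
  obtain ⟨sb, -, -⟩ := alted_facts C hp2 hb (alted_move C ha hb hA)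
  obtain ⟨-, tc, -⟩ := alted_facts C hp2 hc (alted_move C ha hc hA)
  have hcb : c ≠ b := fun e => hnR (fun Q _ hQb => e ▸ hQb)
  have hcd : c ≠ d := fun e => hnR (e ▸ hR)
  -- three different classes at `c`
  have n1 : ¬ Rel p G c a b := fun h => hnR (sa c hc b hb hca hba fun Q h1 h2 => h Q h2 h1)
  have n2 : ¬ Rel p G c a d := fun h => hnR (by
    have h1 : Rel p G a c d := fun Q h1 h2 => h Q h2 h1
    have h2 : Rel p G a d c := sa c hc d hd hca hda h1
    exact fun Q q1 q2 => h2 Q q1 (hR Q q1 q2))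
  have n3 : ¬ Rel p G c b d := fun h => hnR (by
    have h1 : Rel p G b c d := fun Q h1 h2 => h Q h2 h1
    have h2 : Rel p G b d c := sb c hc d hd hcb (Ne.symm hbd) h1
    exact fun Q q1 q2 => h2 Q q2 (hR Q q1 q2))
  obtain ⟨Q, qc, qa, qb, qd⟩ := tc a ha b hb d hd (Ne.symm hca) (Ne.symm hcb) (Ne.symm hcd) n1 n2 n3
  exact qd (hR Q qa qb)

/-- The normaliser bound: few fixed blocks in a part linked to few classes. -/
theorem bad_bound (C : Crit p Ω P) (hp2 : p ≠ 2) {a i b : Ω} (ha : a ∈ fx (P : Subgroup G) Ω)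
    (hi : i ≠ a) (hig : GoodAt p (P : Subgroup G) a (orbit (st p G a) i)) (hb : b ≠ a)
    (hbad : ¬ GoodAt p (P : Subgroup G) a (orbit (st p G a) b)) :
    ((p - 2) * qO p (P : Subgroup G) (orbit (st p G a) b) ≤
        sO p (P : Subgroup G) (orbit (st p G a) b) ∧
      fO (P : Subgroup G) (orbit (st p G a) b) ≤ qO p (P : Subgroup G) (orbit (st p G a) b)) ∨
    ∃ δ fm' qm fm : ℕ, fO (P : Subgroup G) (orbit (st p G a) b) = δ * fm' ∧
      qO p (P : Subgroup G) (orbit (st p G a) b) = δ * qm ∧ fm' ≤ (p - 1) * qm ∧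
      fm * qO p (P : Subgroup G) (orbit (st p G a) i) = fO (P : Subgroup G) (orbit (st p G a) i) ∧
      fm' ≤ fm.factorial * (p - 1) ∧ ∃ j, j < (p - 1) * qm - fm' ∧ p ∣ qm + j := by
  classical
  have hp := (Fact.out : p.Prime).two_le
  set F := fx (P : Subgroup G) Ω with hF
  set L := st p G a with hL
  set O := orbit L b with hO
  set Δ := Dl p (P : Subgroup G) a i with hΔ
  haveI : Fintype Δ := Fintype.ofFinite _
  set φ := MulAction.toPermHom L Δ with hφ
  have hrank := rank_one C hp2 ha
  have hNN := NN_bot C hp2 ha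
  obtain ⟨x, hxP, hxn⟩ := exists_moved_point C ha hi
  set X : L := ⟨x, le_st ha hxP⟩ with hX
  have hgx1 : φ X ≠ 1 := fun e => hxn ((cls_moved_iff C ha hi hig hxP).2 fun δ =>
    Equiv.ext_iff.1 e δ)
  have hXp : X ^ p = 1 := Subtype.ext (pow_p_eq_one C ha hNN hxP)
  have hgxo : orderOf (φ X) = p :=
    orderOf_eq_prime (by rw [← map_pow, hXp, map_one]) hgx1
  have hPcyc : ∀ y ∈ (P : Subgroup G), ∃ k : ℕ, y = x ^ k := by
    intro y hy
    obtain ⟨k, -, hk⟩ := good_cyclic C ha hi hig hxP hy hxn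
    refine ⟨k, ?_⟩
    by_contra hne
    exact hrank _ (mul_mem (inv_mem (pow_mem hxP k)) hy)
      (fun e => hne (inv_mul_eq_one.1 e).symm) i hi hk
  obtain ⟨β, fm, hβ, hfm1, hfmp, hfi, hqi, hv⟩ := card_Dl C ha hi hig
  set Fδ : Set Δ := {δ | ∀ y : L, (y : G) ∈ (P : Subgroup G) → y • δ = δ} with hFδ
  have hFδcard : Fδ.ncard = fm := by
    have h := fixed_cls_card C ha hi hig
    rw [show qO p (P : Subgroup G) (orbit (st p G a) i) = β from hqi,
      show fO (P : Subgroup G) (orbit (st p G a) i) = β * fm from hfi, mul_comm β fm] at h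
    exact Nat.eq_of_mul_eq_mul_right hβ h
  have hFδ' : ∀ δ : Δ, δ ∈ Fδ ↔ X • δ = δ := by
    intro δ
    refine ⟨fun h => h X hxP, fun h y hy => ?_⟩
    obtain ⟨k, hk⟩ := hPcyc y hy
    rw [show y = X ^ k from Subtype.ext hk]
    exact smul_eq_self_of_mem_zpowers (pow_mem (Subgroup.mem_zpowers X) k) h
  -- the kernel
  set Kg : Subgroup G := φ.ker.map L.subtype with hKg
  have hKgL : Kg ≤ L := Subgroup.map_subtype_le _
  have hKgn : ∀ g ∈ L, ∀ z ∈ Kg, g * z * g⁻¹ ∈ Kg := by
    intro g hg z hz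
    obtain ⟨z, hz, rfl⟩ := hz
    exact ⟨⟨g, hg⟩ * z * ⟨g, hg⟩⁻¹, (MonoidHom.normal_ker φ).conj_mem z hz ⟨g, hg⟩, rfl⟩
  have hKgp : ¬ p ∣ Nat.card Kg := by
    intro hd
    obtain ⟨⟨z, hz⟩, hzo⟩ := exists_prime_orderOf_dvd_card' p hd
    have hzo' : orderOf z = p := (Subgroup.orderOf_mk _ _).symm.trans hzo
    obtain ⟨t, ht, htz⟩ := exists_conj_mem P (le_st ha) hKgL hKgn hz ⟨1, by rw [hzo', pow_one]⟩
    obtain ⟨w, hw, hwe⟩ := Kg.mul_mem (Kg.mul_mem ht hz) (Kg.inv_mem ht)
    have htriv : Triv (orbit (st p G a) i) (t * z * t⁻¹) :=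
      (cls_moved_iff C ha hi hig htz).2 fun δ => by
        rw [show (⟨t * z * t⁻¹, le_st ha htz⟩ : L) = w from Subtype.ext hwe.symm]
        exact Equiv.ext_iff.1 (MonoidHom.mem_ker.1 hw) δ
    have h1 : t * z * t⁻¹ = 1 := by
      by_contra hne
      exact hrank _ htz hne i hi htriv
    rw [conj_eq_one_iff] at h1
    rw [h1, orderOf_one] at hzo'
    omega
  have hf : 0 < fO (P : Subgroup G) O := fO_pos C hp2 ha hb
  obtain ⟨c0, hc0F, hc0O⟩ := (Set.ncard_pos (Set.toFinite _)).1 hf
  have hcardO : O.ncard = fO (P : Subgroup G) O + p * qO p (P : Subgroup G) O := part_card P ha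
  have hqpos : 0 < qO p (P : Subgroup G) O := qO_pos C.toBase P ha hb
  by_cases hK0 : orbit Kg c0 = O
  · left
    have hnormK : (P : Subgroup G) ≤ Subgroup.normalizer (Kg : Set G) := by
      intro z hz
      rw [Subgroup.mem_normalizer_iff]
      intro w
      constructor
      · exact fun hw => hKgn z (le_st ha hz) w hw
      · intro hw
        have := hKgn _ (L.inv_mem (le_st ha hz)) _ hw
        rwa [show z⁻¹ * (z * w * z⁻¹) * z⁻¹⁻¹ = w by group] at this
    have hco : (Nat.card (P : Subgroup G)).Coprime (Nat.card Kg) := by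
      obtain ⟨k, hk⟩ := IsPGroup.iff_card.1 P.isPGroup'
      rw [hk]
      exact ((Fact.out : p.Prime).coprime_iff_not_dvd.2 hKgp).pow_left k
    have hdvd := fixed_dvd P.isPGroup' hnormK hco (mem_fx.1 hc0F)
    rw [hK0, show {d : Ω | ∀ x ∈ (P : Subgroup G), x • d = d} = F from
      Set.ext fun _ => mem_fx.symm] at hdvd
    change fO (P : Subgroup G) O ∣ O.ncard at hdvd
    have hnd : ¬ p ∣ fO (P : Subgroup G) O := fun h => by
      refine part_not_dvd P ha hf (b := b) ?_
      rw [show (orbit (st p G a) b).ncard = O.ncard from rfl, hcardO]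
      exact Nat.dvd_add h ⟨_, rfl⟩
    have hfq : fO (P : Subgroup G) O ∣ qO p (P : Subgroup G) O := by
      rw [hcardO, Nat.dvd_add_right (dvd_refl _)] at hdvd
      exact (Nat.Coprime.dvd_mul_left
        ((Fact.out : p.Prime).coprime_iff_not_dvd.2 hnd).symm).1 hdvd
    have hfle := Nat.le_of_dvd hqpos hfq
    refine ⟨?_, hfle⟩
    show (p - 2) * qO p (P : Subgroup G) O ≤ sO p (P : Subgroup G) O
    simp only [sO]
    have e : (p - 1) * qO p (P : Subgroup G) O =
        (p - 2) * qO p (P : Subgroup G) O + qO p (P : Subgroup G) O := by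
      rw [show p - 1 = p - 2 + 1 by omega, add_mul, one_mul]
    omega
  right
  set D := orbit Kg c0 with hD
  have hDO : D ⊆ O := fun d ⟨k, hk⟩ => hk ▸ orbit_smul_mem (hKgL k.2) hc0O
  have htr : ∀ g ∈ L, ∀ c : Ω, g • orbit Kg c = orbit Kg (g • c) := by
    intro g hg c
    ext d
    constructor
    · rintro ⟨_, ⟨m, rfl⟩, rfl⟩
      refine ⟨⟨g * m * g⁻¹, hKgn g hg m m.2⟩, ?_⟩
      show (g * (m : G) * g⁻¹) • g • c = g • (m : G) • c
      rw [smul_smul, smul_smul, inv_mul_cancel_right]
    · rintro ⟨m, rfl⟩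
      refine ⟨(g⁻¹ * m * g) • c, ⟨⟨g⁻¹ * m * g, ?_⟩, rfl⟩, ?_⟩
      · have := hKgn g⁻¹ (L.inv_mem hg) m m.2
        rwa [inv_inv] at this
      · show g • (g⁻¹ * (m : G) * g) • c = (m : G) • g • c
        rw [smul_smul, smul_smul]
        group
  have hblk : ∀ h ∈ L, h • D = D ∨ Disjoint (h • D) D := fun h hh => by
    rw [hD, htr h hh]; exact MulAction.orbit.eq_or_disjoint _ _
  obtain ⟨fm', qm, e1, e2, e3, hgd⟩ : ∃ fm' qm : ℕ, fO (P : Subgroup G) O = D.ncard * fm' ∧
      qO p (P : Subgroup G) O = D.ncard * qm ∧ fm' ≤ (p - 1) * qm ∧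
      ((∀ j, j < (p - 1) * qm - fm' → ¬ p ∣ qm + j) → GoodOn p L F O) := by
    by_cases h2 : 2 ≤ D.ncard
    · obtain ⟨-, r⟩ := part_sat C ha hb hDO (mem_orbit_self c0) hc0F hblk h2 hK0
      exact r
    · have hD1 : D.ncard = 1 := by
        have : 0 < D.ncard := (Set.ncard_pos (Set.toFinite _)).2 ⟨c0, mem_orbit_self c0⟩
        omega
      exact ⟨_, _, by rw [hD1, one_mul], by rw [hD1, one_mul], part_bnd C.toBase P ha hb,
        fun h => part_good C.toBase P ha hb hf h⟩
  refine ⟨D.ncard, fm', qm, fm, e1, e2, e3, ?_, ?_, ?_⟩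
  · rw [show qO p (P : Subgroup G) (orbit (st p G a) i) = β from hqi,
      show fO (P : Subgroup G) (orbit (st p G a) i) = β * fm from hfi, mul_comm]
  swap
  · by_contra h
    push Not at h
    exact hbad ⟨hf, hgd h⟩
  -- the elements of `L` normalising `P`
  set N : Subgroup L := (stabilizer G P).subgroupOf L with hN
  have hNc : ∀ d ∈ F ∩ O, ∃ t : N, ((t : L) : G) • c0 = d := by
    rintro d ⟨hdF, hdO⟩
    obtain ⟨g, hg⟩ := (orbit_eq_iff.2 hc0O ▸ hdO : d ∈ orbit L c0)
    have hg' : (g : G) • c0 = d := hg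
    set Ld : Subgroup G := L ⊓ stabilizer G d with hLd
    have h1 : (((g : G) • P : Sylow p G) : Subgroup G) ≤ Ld := by
      intro y hy
      rw [Sylow.coe_subgroup_smul] at hy
      obtain ⟨z, hz, rfl⟩ := hy
      refine Subgroup.mem_inf.2 ⟨L.mul_mem (L.mul_mem g.2 (le_st ha hz)) (L.inv_mem g.2), ?_⟩
      show ((g : G) * z * (g : G)⁻¹) • d = d
      rw [← hg', mul_smul, mul_smul, inv_smul_smul, mem_fx.1 hc0F z hz]
    have h2 : (P : Subgroup G) ≤ Ld := fun z hz =>
      Subgroup.mem_inf.2 ⟨le_st ha hz, mem_fx.1 hdF z hz⟩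
    obtain ⟨h, hh⟩ := MulAction.exists_smul_eq Ld (((g : G) • P : Sylow p G).subtype h1) (P.subtype h2)
    rw [Sylow.smul_subtype] at hh
    have hh' := Sylow.subtype_injective hh
    refine ⟨⟨⟨(h : G), (Subgroup.mem_inf.1 h.2).1⟩ * g, ?_⟩, ?_⟩
    · rw [hN, Subgroup.mem_subgroupOf]
      show ((h : G) * (g : G)) • P = P
      rw [mul_smul]
      exact hh'
    · show ((h : G) * (g : G)) • c0 = d
      rw [mul_smul, hg']
      exact (Subgroup.mem_inf.1 h.2).2
  set S : Subgroup N := (stabilizer G D).comap (L.subtype.comp N.subtype) with hS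
  set T : Set (Set Ω) := (fun t : N => ((t : L) : G) • D) '' Set.univ with hT
  have hTcard : T.ncard = S.index := by
    rw [hT, Set.image_univ, hS, Subgroup.index, ← Nat.card_coe_set_eq]
    refine (Nat.card_congr (Equiv.ofBijective (fun q : N ⧸ S => (⟨Quotient.liftOn' q
      (fun t : N => ((t : L) : G) • D) ?_, ?_⟩ : Set.range fun t : N => ((t : L) : G) • D))
      ⟨?_, ?_⟩)).symm
    · intro u w huw
      rw [QuotientGroup.leftRel_apply] at huw
      have h : ((((u : L) : G))⁻¹ * ((w : L) : G)) • D = D := huw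
      rw [mul_smul, inv_smul_eq_iff] at h
      exact h.symm
    · induction q using Quotient.inductionOn' with
      | _ t => exact ⟨t, rfl⟩
    · intro q r
      induction q using Quotient.inductionOn' with
      | _ u =>
        induction r using Quotient.inductionOn' with
        | _ w =>
          intro h
          have h' : ((u : L) : G) • D = ((w : L) : G) • D := congrArg Subtype.val h
          refine Quotient.sound' ?_
          rw [QuotientGroup.leftRel_apply]
          show ((((u : L) : G))⁻¹ * ((w : L) : G)) • D = D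
          rw [mul_smul, ← h', inv_smul_smul]
    · rintro ⟨_, t, rfl⟩
      exact ⟨Quotient.mk'' t, rfl⟩
  have hcover : (F ∩ O).ncard ≤ T.ncard * D.ncard := by
    haveI : Fintype Ω := Fintype.ofFinite _
    have hsub : F ∩ O ⊆ ⋃ E ∈ T, E := by
      intro d hd
      obtain ⟨t, ht⟩ := hNc d hd
      exact Set.mem_biUnion ⟨t, trivial, rfl⟩ (ht ▸ Set.smul_mem_smul_set (mem_orbit_self c0))
    refine (Set.ncard_le_ncard hsub (Set.toFinite _)).trans ?_
    haveI : Fintype T := Fintype.ofFinite _
    rw [Set.biUnion_eq_iUnion]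
    refine (Set.ncard_iUnion_le_of_fintype _).trans ?_
    refine le_of_eq ?_
    rw [Finset.sum_const_nat (m := D.ncard) fun E _ => ?_, Finset.card_univ,
      ← Nat.card_eq_fintype_card, Nat.card_coe_set_eq]
    obtain ⟨_, t, -, rfl⟩ := E
    exact Set.ncard_smul_set _ D
  -- the image of the normaliser
  set φN : N →* Equiv.Perm Δ := φ.comp N.subtype with hφN
  have hXN : X ∈ N := by
    rw [hN, Subgroup.mem_subgroupOf]
    exact Sylow.smul_eq_iff_mem_normalizer.2 (Subgroup.le_normalizer hxP)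
  have hkerS : φN.ker ≤ S := by
    intro t ht
    show ((t : L) : G) • D = D
    have htK : ((t : L) : G) ∈ Kg := Subgroup.mem_map_of_mem L.subtype ht
    rw [hD, htr _ (t : L).2]
    exact orbit_eq_iff.2 ⟨⟨_, htK⟩, rfl⟩
  have hXS : (⟨X, hXN⟩ : N) ∈ S := by
    show x • D = D
    rw [hD, htr x (le_st ha hxP), mem_fx.1 hc0F x hxP]
  have hrel : p ∣ Nat.card (S.map φN) := by
    have e : orderOf (φN ⟨X, hXN⟩) = p := hgxo
    refine e.symm.dvd.trans ?_
    rw [← Nat.card_zpowers]
    exact Subgroup.card_dvd_of_le (Subgroup.zpowers_le.2 (Subgroup.mem_map_of_mem φN hXS))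
  have hindex : S.index * Nat.card (S.map φN) = Nat.card φN.range := by
    have h1 := Subgroup.index_map_of_injective (H := S.map φN.rangeRestrict)
      (f := φN.range.subtype) φN.range.subtype_injective
    have h2 : (S.map φN.rangeRestrict).index = S.index :=
      Subgroup.index_map_eq S φN.rangeRestrict_surjective (by rwa [MonoidHom.ker_rangeRestrict])
    have h3 : Nat.card (S.map φN.rangeRestrict) = Nat.card (S.map φN) := by
      rw [← Subgroup.card_map_of_injective (f := φN.range.subtype) φN.range.subtype_injective,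
        Subgroup.map_map, MonoidHom.subtype_comp_rangeRestrict]
    rw [← h2, ← h3, mul_comm]
    exact Subgroup.card_mul_index _
  -- and its order
  obtain ⟨δm, hδm⟩ : ∃ δ : Δ, X • δ ≠ δ := by
    by_contra h
    push Not at h
    exact hgx1 (Equiv.ext h)
  have hcyc : (φ X).IsCycle := Equiv.Perm.isCycle_of_prime_order (hgxo.symm ▸ Fact.out)
    (lt_of_le_of_lt (Finset.card_le_univ _) (by
      rw [hgxo, ← Nat.card_eq_fintype_card, show Nat.card Δ = fm + p from hv]; omega))
  have hrange : Nat.card φN.range ≤ fm.factorial * p * (p - 1) := by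
    have hnorm : ∀ t : N, ∀ δ ∈ Fδ, φN t δ ∈ Fδ := by
      intro t δ hδ
      have htP : ((t : L) : G) • P = P := t.2
      refine (hFδ' _).2 ?_
      have hmem : ((t : L) : G)⁻¹ * x * ((t : L) : G) ∈ (P : Subgroup G) := by
        rw [← htP, Sylow.coe_subgroup_smul] at hxP
        obtain ⟨z, hz, hze⟩ := hxP
        have : ((t : L) : G) * z * ((t : L) : G)⁻¹ = x := hze
        rw [← this]
        rw [show ((t : L) : G)⁻¹ * (((t : L) : G) * z * ((t : L) : G)⁻¹) * ((t : L) : G) = z by group]
        exact hz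
      have h1 := hδ ((t : L)⁻¹ * X * (t : L)) hmem
      show X • (t : L) • δ = (t : L) • δ
      rw [mul_smul, mul_smul, inv_smul_eq_iff] at h1
      exact h1
    have hexk : ∀ t : N, ∃ k : Fin (p - 1), (t : L) * X = X ^ ((k : ℕ) + 1) * (t : L) := by
      intro t
      have htP : ((t : L) : G) • P = P := t.2
      have hmem : ((t : L) : G) * x * ((t : L) : G)⁻¹ ∈ (P : Subgroup G) := by
        rw [← htP, Sylow.coe_subgroup_smul]
        exact ⟨x, hxP, rfl⟩
      obtain ⟨k, hk⟩ := hPcyc _ hmem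
      have hk' : (t : L) * X * (t : L)⁻¹ = X ^ k := Subtype.ext hk
      have hmod : X ^ k = X ^ (k % p) := by
        conv_lhs => rw [← Nat.mod_add_div k p, pow_add, pow_mul, hXp, one_pow, mul_one]
      rw [hmod] at hk'
      have hne : k % p ≠ 0 := fun e => by
        rw [e, pow_zero, conj_eq_one_iff] at hk'
        exact hgx1 (by rw [hk', map_one])
      have hlt := Nat.mod_lt k (Fact.out : p.Prime).pos
      refine ⟨⟨k % p - 1, by omega⟩, ?_⟩
      show (t : L) * X = X ^ (k % p - 1 + 1) * (t : L)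
      rw [show k % p - 1 + 1 = k % p by omega, ← hk', inv_mul_cancel_right]
    choose kk hkk using hexk
    have hmv : ∀ t : N, φN t δm ∈ (Fδᶜ : Set Δ) := by
      intro t h
      have h' := hnorm t⁻¹ _ h
      rw [map_inv, Equiv.Perm.inv_def, Equiv.symm_apply_apply] at h'
      exact hδm ((hFδ' _).1 h')
    let code : φN.range → (Equiv.Perm Fδ) × (↥(Fδᶜ : Set Δ)) × Fin (p - 1) := fun g =>
      let t := g.2.choose
      (Equiv.ofBijective (fun δ : Fδ => (⟨φN t δ, hnorm t δ δ.2⟩ : Fδ))
        (Finite.injective_iff_bijective.1 fun u w h =>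
          Subtype.ext ((φN t).injective (congrArg Subtype.val h))),
      ⟨φN t δm, hmv t⟩, kk t)
    have hcode : Function.Injective code := by
      intro g g' h
      simp only [code, Prod.mk.injEq] at h
      obtain ⟨h1, h2, h3⟩ := h
      set t := g.2.choose with ht
      set t' := g'.2.choose with ht'
      refine Subtype.ext ?_
      rw [← g.2.choose_spec, ← g'.2.choose_spec, ← ht, ← ht']
      refine Equiv.ext fun δ => ?_
      by_cases hδ : δ ∈ Fδ
      · exact congrArg Subtype.val (Equiv.ext_iff.1 h1 ⟨δ, hδ⟩)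
      · obtain ⟨m, hm⟩ := hcyc.exists_pow_eq (x := δm) (y := δ) hδm
          (fun e => hδ ((hFδ' δ).2 e))
        have hm' : X ^ m • δm = δ := by
          rw [← hm, ← map_pow]; rfl
        have hcomm : ∀ s : N, ∀ n : ℕ,
            (s : L) * X ^ n = X ^ (((kk s : ℕ) + 1) * n) * (s : L) := by
          intro s n
          induction n with
          | zero => simp
          | succ n ih => rw [pow_succ, ← mul_assoc, ih, mul_assoc, hkk s, ← mul_assoc, ← pow_add,
              Nat.mul_succ]
        show (t : L) • δ = (t' : L) • δ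
        have h2' : (t : L) • δm = (t' : L) • δm := congrArg Subtype.val h2
        rw [← hm', smul_smul, smul_smul, hcomm t m, hcomm t' m, h3, mul_smul, mul_smul, h2']
    refine (Nat.card_le_card_of_injective code hcode).trans (le_of_eq ?_)
    rw [Nat.card_prod, Nat.card_prod, Nat.card_perm, Nat.card_coe_set_eq, Nat.card_coe_set_eq,
      hFδcard, Set.ncard_compl, hFδcard, show Nat.card Δ = fm + p from hv, Nat.card_fin,
      Nat.add_sub_cancel_left, mul_assoc]
  have hle : T.ncard ≤ fm.factorial * (p - 1) := by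
    have h1 : T.ncard * p ≤ Nat.card φN.range := by
      rw [hTcard, ← hindex]
      exact Nat.mul_le_mul_left _ (Nat.le_of_dvd Nat.card_pos hrel)
    refine Nat.le_of_mul_le_mul_right (h1.trans (hrange.trans (le_of_eq ?_)))
      (Fact.out : p.Prime).pos
    ring
  have hDpos : 0 < D.ncard := (Set.ncard_pos (Set.toFinite _)).2 ⟨c0, mem_orbit_self c0⟩
  have : D.ncard * fm' ≤ D.ncard * (fm.factorial * (p - 1)) := by
    rw [← e1]
    calc fO (P : Subgroup G) O ≤ T.ncard * D.ncard := hcover
      _ ≤ fm.factorial * (p - 1) * D.ncard := Nat.mul_le_mul_right _ hle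
      _ = _ := mul_comm _ _
  exact Nat.le_of_mul_le_mul_left this hDpos

/-- The primitive critical case is impossible for odd `p`. -/
theorem odd_contra (C : Crit p Ω P) (hp2 : p ≠ 2) {a : Ω} (ha : a ∈ fx (P : Subgroup G) Ω) :
    False := by
  classical
  have hp := (Fact.out : p.Prime).two_le
  have hp4 : p ≠ 4 := fun h => by
    have := (Fact.out : p.Prime); rw [h] at this; norm_num at this
  have hA := not_alted C hp2 ha
  obtain ⟨i, hi, hig⟩ := exists_good C ha
  have hsum := sum_sO C.toBase P ha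
  have hq := sum_qO P ha
  have htau := C.tau
  have hq2 := C.q2
  have hres := C.res
  set F := fx (P : Subgroup G) Ω with hF
  set q := (Nat.card Ω - F.ncard) / p with hqdef
  have hgoodlow : ∀ b, b ≠ a → GoodAt p (P : Subgroup G) a (orbit (st p G a) b) →
      fO (P : Subgroup G) (orbit (st p G a) b) ≤ 2 * qO p (P : Subgroup G) (orbit (st p G a) b) ∧
      (p = 3 → fO (P : Subgroup G) (orbit (st p G a) b) ≤
        qO p (P : Subgroup G) (orbit (st p G a) b)) := by
    intro b hb hg
    obtain ⟨β, fm, hβ, hfm1, hfmp, hf, hqq, hv⟩ := card_Dl C ha hb hg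
    refine ⟨?_, fun h3 => ?_⟩
    · by_contra h
      have h3 : 3 * qO p (P : Subgroup G) (orbit (st p G a) b) ≤
          fO (P : Subgroup G) (orbit (st p G a) b) := by
        rw [hf, hqq] at h ⊢
        rcases Nat.lt_or_ge fm 3 with h' | h'
        · exfalso
          have : β * fm ≤ β * 2 := Nat.mul_le_mul_left _ (by omega)
          omega
        · rw [mul_comm 3 β]; exact Nat.mul_le_mul_left _ h'
      exact hA ⟨b, hb, ⟨hg, by have := qO_pos C.toBase P ha hb; omega⟩, Or.inl h3⟩
    · by_contra h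
      exact hA ⟨b, hb, ⟨hg, by omega⟩, Or.inr h3⟩
  obtain ⟨hi2, hi3⟩ := hgoodlow i hi hig
  have hqi := qO_pos C.toBase P ha hi
  have hpair : ∀ b, b ≠ a → ¬ GoodAt p (P : Subgroup G) a (orbit (st p G a) b) →
      sO p (P : Subgroup G) (orbit (st p G a) i) + sO p (P : Subgroup G) (orbit (st p G a) b) ≤
        p - 1 :=
    fun b hb hbad => sO_pair C ha hi hb fun e => hbad (e ▸ hig)
  have hslack : (p - 3) * qO p (P : Subgroup G) (orbit (st p G a) i) ≤
      sO p (P : Subgroup G) (orbit (st p G a) i) := by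
    simp only [sO]
    by_cases h3 : p = 3
    · subst h3; simp
    · have e : (p - 1) * qO p (P : Subgroup G) (orbit (st p G a) i) =
          (p - 3) * qO p (P : Subgroup G) (orbit (st p G a) i) +
            2 * qO p (P : Subgroup G) (orbit (st p G a) i) := by
        rw [← add_mul, show p - 3 + 2 = p - 1 by omega]
      omega
  -- no bad part
  have hallgood : ∀ b, b ≠ a → GoodAt p (P : Subgroup G) a (orbit (st p G a) b) := by
    intro b hb
    by_contra hbad
    have hpr := hpair b hb hbad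
    have hqb := qO_pos C.toBase P ha hb
    have hfb : 0 < fO (P : Subgroup G) (orbit (st p G a) b) := fO_pos C hp2 ha hb
    obtain ⟨j0, hj0, hj0d⟩ : ∃ j, j < sO p (P : Subgroup G) (orbit (st p G a) b) ∧
        p ∣ qO p (P : Subgroup G) (orbit (st p G a) b) + j := by
      by_contra h
      push Not at h
      exact hbad ⟨hfb, part_good C.toBase P ha hb hfb h⟩
    have hple : p ≤ qO p (P : Subgroup G) (orbit (st p G a) b) + j0 :=
      Nat.le_of_dvd (by omega) hj0d
    by_cases h3 : p = 3
    · subst h3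
      have hs1 : 1 ≤ sO 3 (P : Subgroup G) (orbit (st 3 G a) i) := by
        have := hi3 rfl
        simp only [sO]; omega
      rcases bad_bound C hp2 ha hi hig hb hbad with ⟨h1, h1'⟩ |
        ⟨δ, fm', qm, fm, e1, e2, e3, efm, hfm', j, hj, hjd⟩
      · omega
      · have hfm : fm ≤ 1 := by
          by_contra hh
          have : 2 * qO 3 (P : Subgroup G) (orbit (st 3 G a) i) ≤
              fm * qO 3 (P : Subgroup G) (orbit (st 3 G a) i) := Nat.mul_le_mul_right _ (by omega)
          have := hi3 rfl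
          omega
        have hfact : fm.factorial ≤ 1 := by
          interval_cases fm <;> simp
        have hfm2 : fm' ≤ 2 := hfm'.trans (Nat.mul_le_mul_right _ hfact)
        simp only [sO] at hj0 hpr hs1
        have hδ : 1 ≤ δ := by
          by_contra hh
          rw [show δ = 0 by omega, zero_mul] at e2
          omega
        have hqm : 1 ≤ qm := by
          by_contra hh
          rw [show qm = 0 by omega, mul_zero] at e2
          omega
        have e4 : δ * ((3 - 1) * qm - fm') ≤ 1 := by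
          have : δ * ((3 - 1) * qm - fm') =
              (3 - 1) * qO 3 (P : Subgroup G) (orbit (st 3 G a) b) -
                fO (P : Subgroup G) (orbit (st 3 G a) b) := by
            rw [e1, e2, Nat.mul_sub, mul_left_comm]
          omega
        have : (3 - 1) * qm - fm' ≤ δ * ((3 - 1) * qm - fm') := Nat.le_mul_of_pos_left _ hδ
        have := Nat.le_of_dvd (by omega) hjd
        omega
    · have hp5 : 5 ≤ p := by omega
      have h1 : p - 3 ≤ (p - 3) * qO p (P : Subgroup G) (orbit (st p G a) i) :=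
        Nat.le_mul_of_pos_right _ hqi
      have hsb : sO p (P : Subgroup G) (orbit (st p G a) b) ≤ 2 := by omega
      rcases bad_bound C hp2 ha hi hig hb hbad with ⟨h1, h1'⟩ |
        ⟨δ, fm', qm, fm, e1, e2, e3, efm, hfm', j, hj, hjd⟩
      · have : (p - 2) * 1 ≤ (p - 2) * qO p (P : Subgroup G) (orbit (st p G a) b) :=
          Nat.mul_le_mul_left _ hqb
        omega
      · have hfm : fm ≤ 2 := by
          by_contra hh
          have : 3 * qO p (P : Subgroup G) (orbit (st p G a) i) ≤
              fm * qO p (P : Subgroup G) (orbit (st p G a) i) := Nat.mul_le_mul_right _ (by omega)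
          omega
        have hfact : fm.factorial ≤ 2 := by
          interval_cases fm <;> simp
        have hfm2 : fm' ≤ 2 * (p - 1) := hfm'.trans (Nat.mul_le_mul_right _ hfact)
        have hδ : 1 ≤ δ := by
          by_contra hh
          rw [show δ = 0 by omega, zero_mul] at e2
          omega
        have hqm : 1 ≤ qm := by
          by_contra hh
          rw [show qm = 0 by omega, mul_zero] at e2
          omega
        simp only [sO] at hsb
        have e4 : δ * ((p - 1) * qm - fm') =
            (p - 1) * qO p (P : Subgroup G) (orbit (st p G a) b) -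
              fO (P : Subgroup G) (orbit (st p G a) b) := by
          rw [e1, e2, Nat.mul_sub, mul_left_comm]
        have h5 : (p - 1) * qm - fm' ≤ δ * ((p - 1) * qm - fm') := Nat.le_mul_of_pos_left _ hδ
        have h6 : qm + j ≥ p := Nat.le_of_dvd (by omega) hjd
        have h7 : qm ≤ 2 := by
          by_contra hh
          have : (p - 1) * 3 ≤ (p - 1) * qm := Nat.mul_le_mul_left _ (by omega)
          omega
        omega
  -- every part costs at least `p - 3` per unit, and one for `p = 3`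
  have hge : (p - 3) * q + (if p = 3 then q else 0) ≤
      ∑ O ∈ parts p G a, sO p (P : Subgroup G) O := by
    rw [← hq, Finset.mul_sum]
    split_ifs with h3
    · rw [← Finset.sum_add_distrib]
      refine Finset.sum_le_sum fun O hO => ?_
      obtain ⟨b, hb, rfl⟩ := mem_parts.1 hO
      have := (hgoodlow b hb (hallgood b hb)).2 h3
      subst h3
      simp only [sO]
      omega
    · rw [add_zero]
      refine Finset.sum_le_sum fun O hO => ?_
      obtain ⟨b, hb, rfl⟩ := mem_parts.1 hO
      have := (hgoodlow b hb (hallgood b hb)).1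
      simp only [sO]
      have e : (p - 1) * qO p (P : Subgroup G) (orbit (st p G a) b) =
          (p - 3) * qO p (P : Subgroup G) (orbit (st p G a) b) +
            2 * qO p (P : Subgroup G) (orbit (st p G a) b) := by
        rw [← add_mul, show p - 3 + 2 = p - 1 by omega]
      omega
  by_cases h3 : p = 3
  · subst h3
    simp only [if_true] at hge
    have : q = 2 := by omega
    refine hres 1 (by omega) ?_
    rw [this]
  · have hp5 : 5 ≤ p := by omega
    have h1 : (p - 3) * 2 ≤ (p - 3) * q := Nat.mul_le_mul_left _ hq2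
    have hp5' : p = 5 := by omega
    subst hp5'
    simp only [h3, if_false] at hge
    have : q = 2 := by omega
    refine hres 3 (by omega) ?_
    rw [this]

end Cfsg.Agent.Lead.FixBound
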