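import Cfsg.Agent.Lib.Lead.FixBound.OddSemi

/-!
# For odd primes the Sylow subgroup is faithful on every part
-/

set_option autoImplicit false

namespace Cfsg.Agent.Lead.FixBound

open MulAction
open scoped Pointwise

universe u v

variable {p : ℕ} {G : Type u} [Group G] {Ω : Type v} [MulAction G Ω]
variable [Finite G] [Finite Ω] [Fact p.Prime] {P : Sylow p G}

theorem exists_moved_point (C : Crit p Ω P) {a b : Ω} (ha : a ∈ fx (P : Subgroup G) Ω)
    (hb : b ≠ a) : ∃ g ∈ (P : Subgroup G), ¬ Triv (orbit (st p G a) b) g := by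
  by_contra hall
  push Not at hall
  have h1 : orbit (st p G a) b ⊆ fx (P : Subgroup G) Ω :=
    fun c hc => mem_fx.2 fun x hx => hall x hx c hc
  have h2 : (orbit (st p G a) b).ncard = fO (P : Subgroup G) (orbit (st p G a) b) +
      p * qO p (P : Subgroup G) (orbit (st p G a) b) := part_card P ha
  have h3 : fO (P : Subgroup G) (orbit (st p G a) b) = (orbit (st p G a) b).ncard := by
    rw [fO, Set.inter_eq_right.2 h1]
  have h4 : 0 < p * qO p (P : Subgroup G) (orbit (st p G a) b) :=
    Nat.mul_pos (Fact.out : p.Prime).pos (qO_pos C.toBase P ha hb)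
  omega

/-- `P` has order `p` and is non-trivial on every part. -/
theorem rank_one (C : Crit p Ω P) (hp2 : p ≠ 2) {a : Ω} (ha : a ∈ fx (P : Subgroup G) Ω) :
    ∀ x ∈ (P : Subgroup G), x ≠ 1 → ∀ b, b ≠ a → ¬ Triv (orbit (st p G a) b) x := by
  classical
  haveI := C.faith
  have hp := (Fact.out : p.Prime).two_le
  have hNN := NN_bot C hp2 ha
  set F := fx (P : Subgroup G) Ω with hF
  -- two disjoint elements are impossible
  have hnodis : ∀ y ∈ (P : Subgroup G), ∀ z ∈ (P : Subgroup G), y ≠ 1 → z ≠ 1 →
      (∀ O ∈ parts p G a, GoodAt p (P : Subgroup G) a O → Triv O y ∨ Triv O z) → False := by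
    intro y hy z hz hy1 hz1 hdis
    have hdisall : ∀ c : Ω, y • c = c ∨ z • c = c := by
      intro c
      by_cases hca : c = a
      · exact Or.inl (hca ▸ mem_fx.1 ha y hy)
      have hor : Triv (orbit (st p G a) c) y ∨ Triv (orbit (st p G a) c) z := by
        by_cases hg : GoodAt p (P : Subgroup G) a (orbit (st p G a) c)
        · exact hdis _ (mem_parts_orbit hca) hg
        · exact disjoint_of_good C ha hNN hca (fO_pos C hp2 ha hca)
            (gker_intransitive C hp2 ha hca hg) hy hz hdis
      exact hor.imp (fun h => h c (mem_orbit_self c)) (fun h => h c (mem_orbit_self c))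
    have hsum : {c : Ω | y • c ≠ c}.ncard + {c : Ω | z • c ≠ c}.ncard + F.ncard ≤ Nat.card Ω := by
      have h1 : Disjoint {c : Ω | y • c ≠ c} {c : Ω | z • c ≠ c} :=
        Set.disjoint_left.2 fun c h1 h2 => (hdisall c).elim h1 h2
      have h2 : Disjoint ({c : Ω | y • c ≠ c} ∪ {c : Ω | z • c ≠ c}) F :=
        Set.disjoint_left.2 fun c h h' => h.elim (fun e => e (mem_fx.1 h' y hy))
          (fun e => e (mem_fx.1 h' z hz))
      rw [← Set.ncard_union_eq h1, ← Set.ncard_union_eq h2, ← Set.ncard_univ]
      exact Set.ncard_le_ncard (Set.subset_univ _)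
    have e := ncard_eq_fixed_add (Ω := Ω) P.isPGroup' (O := Set.univ) fun _ _ _ _ => trivial
    rw [Set.inter_univ, Set.ncard_univ] at e
    change Nat.card Ω = F.ncard + p * ((Nat.card Ω - F.ncard) / p) at e
    set q := (Nat.card Ω - F.ncard) / p with hq
    have htau : (p - 1) * q + 2 ≤ p + F.ncard := C.tau
    have hq2 : 2 ≤ q := C.q2
    obtain ⟨w, hw, hw1, hw2⟩ : ∃ w ∈ (P : Subgroup G), w ≠ 1 ∧
        2 * {c : Ω | w • c ≠ c}.ncard ≤ p * q := by
      rcases le_total {c : Ω | y • c ≠ c}.ncard {c : Ω | z • c ≠ c}.ncard with h | h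
      · exact ⟨y, hy, hy1, by omega⟩
      · exact ⟨z, hz, hz1, by omega⟩
    refine displace C (semi_odd C hp2) ha hw hw1 ?_
    have h1 : (3 * p - 1) * (2 * {c : Ω | w • c ≠ c}.ncard) ≤ (3 * p - 1) * (p * q) :=
      Nat.mul_le_mul_left _ hw2
    have h2 : (3 * p - 1) * (p * q) < 2 * (p * Nat.card Ω) := by
      have hA : (3 * p - 1) * q < 2 * Nat.card Ω := by
        have e1 : (3 * p - 1) * q + q = 3 * (p * q) := by
          rw [← Nat.succ_mul, show (3 * p - 1).succ = 3 * p by omega, mul_assoc]
        have e2 : (p - 1) * q + q = p * q := by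
          rw [← Nat.succ_mul, show (p - 1).succ = p by omega]
        have e3 : (p - 1) * 2 ≤ (p - 1) * q := Nat.mul_le_mul_left _ hq2
        omega
      calc (3 * p - 1) * (p * q) = p * ((3 * p - 1) * q) := by ring
        _ < p * (2 * Nat.card Ω) := Nat.mul_lt_mul_of_pos_left hA (by omega)
        _ = 2 * (p * Nat.card Ω) := by ring
    rw [show (3 * p - 1) * (2 * {c : Ω | w • c ≠ c}.ncard) =
      2 * ((3 * p - 1) * {c : Ω | w • c ≠ c}.ncard) by ring] at h1
    omega
  have hPle : Subgroup.closure {w | Piece p (P : Subgroup G) a w} ≤ (P : Subgroup G) :=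
    (Subgroup.closure_le _).2 fun w hw => hw.1
  -- at most one small part
  have hsu : ∀ O₁ ∈ parts p G a, ∀ O₂ ∈ parts p G a, SmallP p (P : Subgroup G) a O₁ →
      SmallP p (P : Subgroup G) a O₂ → O₁ = O₂ := by
    intro O₁ h₁ O₂ h₂ s₁ s₂
    by_contra hne
    -- some element moves only small parts, so there are no big parts
    have hnobig : ∀ O ∈ parts p G a, ¬ BigP p (P : Subgroup G) a O := by
      obtain ⟨c₁, hc₁, rfl⟩ := mem_parts.1 h₁
      obtain ⟨g, hg, hgn⟩ := exists_moved_point C ha hc₁
      obtain ⟨y, hy, hyn⟩ : ∃ y, Piece p (P : Subgroup G) a y ∧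
          ¬ Triv (orbit (st p G a) c₁) y := by
        by_contra hall
        push Not at hall
        refine hgn ?_
        have h' := mem_closure_pieces C ha hg
        clear hg hgn
        induction h' using Subgroup.closure_induction with
        | mem w hw => exact hall w hw
        | one => exact Triv.one _
        | mul u w hu' hw' hu hw => exact hu.mul hw
        | inv u hu' hu => exact hu.inv
      obtain ⟨hyP, hy⟩ := hy
      have hy0 : ∀ O ∈ parts p G a, BigP p (P : Subgroup G) a O → Triv O y :=
        hy.resolve_left fun h => hyn (h.1 _ h₁ s₁)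
      have hy1 : y ≠ 1 := fun e => hyn (e ▸ Triv.one _)
      intro O hO hb
      obtain ⟨c, hc, rfl⟩ := mem_parts.1 hO
      obtain ⟨g', hg', hgn'⟩ := exists_moved_point C ha hc
      obtain ⟨z, hz, hzn⟩ : ∃ z, Piece p (P : Subgroup G) a z ∧
          ¬ Triv (orbit (st p G a) c) z := by
        by_contra hall
        push Not at hall
        refine hgn' ?_
        have h' := mem_closure_pieces C ha hg'
        clear hg' hgn'
        induction h' using Subgroup.closure_induction with
        | mem w hw => exact hall w hw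
        | one => exact Triv.one _
        | mul u w hu' hw' hu hw => exact hu.mul hw
        | inv u hu' hu => exact hu.inv
      obtain ⟨hzP, hz⟩ := hz
      have hz0 := hz.resolve_right fun h => hzn (h _ hO hb)
      exact hnodis y hyP z hzP hy1 (fun e => hzn (e ▸ Triv.one _)) fun O' hO' hg' =>
        (big_or_small hg').elim (fun h => Or.inl (hy0 O' hO' h)) (fun h => Or.inr (hz0.1 O' hO' h))
    obtain ⟨c₁, hc₁, rfl⟩ := mem_parts.1 h₁
    obtain ⟨c₂, hc₂, rfl⟩ := mem_parts.1 h₂
    have t₁ := small_slack C ha hc₁ s₁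
    have t₂ := small_slack C ha hc₂ s₂
    have tp := sO_pair C ha hc₁ hc₂ hne
    have hp4 : p ≠ 4 := fun h => by
      have := (Fact.out : p.Prime); rw [h] at this; norm_num at this
    have hp3 : p = 3 := by omega
    subst hp3
    have hsum := sum_sO C.toBase P ha
    have hq := sum_qO P ha
    have htau := C.tau
    have hres := C.res
    -- there are no further parts
    have hparts : parts 3 G a = {orbit (st 3 G a) c₁, orbit (st 3 G a) c₂} := by
      refine Finset.Subset.antisymm (fun O hO => ?_) fun O hO => ?_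
      · by_contra hn
        simp only [Finset.mem_insert, Finset.mem_singleton, not_or] at hn
        obtain ⟨c, hc, rfl⟩ := mem_parts.1 hO
        have h3 : sO 3 (P : Subgroup G) (orbit (st 3 G a) c) +
            (sO 3 (P : Subgroup G) (orbit (st 3 G a) c₁) +
              sO 3 (P : Subgroup G) (orbit (st 3 G a) c₂)) ≤
            ∑ O' ∈ parts 3 G a, sO 3 (P : Subgroup G) O' := by
          rw [← Finset.sum_pair hne, ← Finset.sum_insert
            (s := {orbit (st 3 G a) c₁, orbit (st 3 G a) c₂}) (by simp [hn.1, hn.2])]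
          refine Finset.sum_le_sum_of_subset fun O' hO' => ?_
          simp only [Finset.mem_insert, Finset.mem_singleton] at hO'
          rcases hO' with rfl | rfl | rfl
          · exact hO
          · exact h₁
          · exact h₂
        have hs0 : sO 3 (P : Subgroup G) (orbit (st 3 G a) c) = 0 := by omega
        have hfc := fO_pos C hp2 ha hc
        have hgood : GoodAt 3 (P : Subgroup G) a (orbit (st 3 G a) c) :=
          ⟨hfc, part_good C.toBase P ha hc hfc fun i hi => absurd hi (by omega)⟩
        rcases big_or_small hgood with h | h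
        · exact hnobig _ hO h
        · have := small_slack C ha hc h
          omega
      · rcases Finset.mem_insert.1 hO with rfl | h
        · exact h₁
        · exact Finset.mem_singleton.1 h ▸ h₂
    rw [hparts, Finset.sum_pair hne] at hsum hq
    have q₁ : sO 3 (P : Subgroup G) (orbit (st 3 G a) c₁) ≥
        qO 3 (P : Subgroup G) (orbit (st 3 G a) c₁) := by
      have := s₁.2
      simp only [sO]
      omega
    have q₂ : sO 3 (P : Subgroup G) (orbit (st 3 G a) c₂) ≥
        qO 3 (P : Subgroup G) (orbit (st 3 G a) c₂) := by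
      have := s₂.2
      simp only [sO]
      omega
    have hq2 := C.q2
    refine hres 1 (by omega) ?_
    rw [show (Nat.card Ω - (fx (P : Subgroup G) Ω).ncard) / 3 = 2 by omega]
  -- so all pieces lie in one group of order `p`
  intro x hx hx1 b hb hxb
  obtain ⟨g, hg, hgn⟩ := exists_moved_point C ha hb
  obtain ⟨y, hy, hy1⟩ : ∃ y, Piece p (P : Subgroup G) a y ∧ y ≠ 1 := by
    by_contra hall
    push Not at hall
    refine hgn ?_
    have h' := mem_closure_pieces C ha hg
    clear hg hgn
    induction h' using Subgroup.closure_induction with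
    | mem w hw => rw [hall w hw]; exact Triv.one _
    | one => exact Triv.one _
    | mul u w hu' hw' hu hw => exact hu.mul hw
    | inv u hu' hu => exact hu.inv
  have hzp : ∀ z, Piece p (P : Subgroup G) a z → z ∈ Subgroup.zpowers y := by
    intro z hz
    by_cases hz1 : z = 1
    · rw [hz1]; exact one_mem _
    by_contra hne
    refine hnodis y hy.1 z hz.1 hy1 hz1 fun O hO hgO => ?_
    by_contra h
    push Not at h
    exact hne (piece_zpowers C ha hNN hsu hy hz hO hgO h.1 h.2)
  have hP : (P : Subgroup G) ≤ Subgroup.zpowers y := fun w hw =>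
    (Subgroup.closure_le _).2 (fun z hz => hzp z hz) (mem_closure_pieces C ha hw)
  obtain ⟨k, hk⟩ := hP hx
  have hk' : y ^ k = x := hk
  by_cases hpk : (p : ℤ) ∣ k
  · obtain ⟨j, rfl⟩ := hpk
    rw [zpow_mul, zpow_natCast, pow_p_eq_one C ha hNN hy.1, one_zpow] at hk'
    exact hx1 hk'.symm
  obtain ⟨u, w, huw⟩ := ((Nat.prime_iff_prime_int.1 Fact.out).coprime_iff_not_dvd.2 hpk).symm
  have hye : y = x ^ u := by
    rw [← hk', ← zpow_mul, mul_comm]
    conv_lhs => rw [← zpow_one y, ← huw, zpow_add, mul_comm w, zpow_mul y (p : ℤ),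
      zpow_natCast, pow_p_eq_one C ha hNN hy.1, one_zpow, mul_one]
  refine hgn fun c hc => ?_
  obtain ⟨l, hl⟩ := hP hg
  have hl' : y ^ l = g := hl
  rw [← hl', hye, ← zpow_mul]
  exact smul_eq_self_of_mem_zpowers (zpow_mem (Subgroup.mem_zpowers x) _) (hxb c hc)

end Cfsg.Agent.Lead.FixBound
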