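import Cfsg.Agent.Lib.Lead.FixBound.Linked
import Cfsg.Agent.Lib.Lead.FixBound.Displace

/-!
# For odd primes the Sylow subgroup is semiregular on every part
-/

set_option autoImplicit false

namespace Cfsg.Agent.Lead.FixBound

open MulAction
open scoped Pointwise

universe u v

variable {p : ℕ} {G : Type u} [Group G] {Ω : Type v} [MulAction G Ω]
variable [Finite G] [Finite Ω] [Fact p.Prime] {P : Sylow p G}

/-- No `p`-cycle, as there are at least `p` fixed points. -/
theorem no_cycle (C : Crit p Ω P) {g : G} (hgP : g ∈ (P : Subgroup G))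
    (hg : {c : Ω | g • c ≠ c}.ncard = p) (hf : p ≤ (fx (P : Subgroup G) Ω).ncard)
    (hn : p + 3 ≤ Nat.card Ω) : False := by
  classical
  haveI := C.prim
  haveI := C.faith
  haveI : Fintype Ω := Fintype.ofFinite _
  have hp := (Fact.out : p.Prime).two_le
  set F := fx (P : Subgroup G) Ω with hF
  set φ := MulAction.toPermHom G Ω with hφ
  have hinj : Function.Injective φ := MulAction.toPerm_injective
  set S := {c : Ω | g • c ≠ c} with hS
  have hsupp : (φ g).support.card = p := by
    rw [← hg, Set.ncard_eq_toFinset_card' S]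
    congr 1
    ext c
    simp [hS, φ, Equiv.Perm.mem_support]
  have hord : orderOf g = p := by
    have hgp : g ^ p = 1 := by
      refine FaithfulSMul.eq_of_smul_eq_smul (α := Ω) fun c => ?_
      rw [one_smul]
      obtain ⟨k, hk⟩ := (P.isPGroup'.to_le (Subgroup.zpowers_le.2 hgP)).card_orbit c
      have hper : MulAction.period g c ≤ p := by
        rw [MulAction.period_eq_minimalPeriod, MulAction.minimalPeriod_eq_card,
          ← Nat.card_eq_fintype_card, Nat.card_coe_set_eq]
        by_cases hc : g • c = c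
        · rw [show orbit (Subgroup.zpowers g) c = {c} from Set.eq_singleton_iff_unique_mem.2
            ⟨mem_orbit_self c, fun d ⟨z, hz⟩ => hz ▸ smul_eq_self_of_mem_zpowers z.2 hc⟩,
            Set.ncard_singleton]
          omega
        · rw [← hg]
          refine Set.ncard_le_ncard ?_ (Set.toFinite _)
          rintro _ ⟨⟨_, i, rfl⟩, rfl⟩ he
          refine hc ?_
          have he' : g • (g ^ i) • c = (g ^ i) • c := he
          rw [smul_smul, (Commute.self_zpow g i).eq, mul_smul] at he'
          exact MulAction.injective _ he'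
      have hdvd : MulAction.period g c ∣ p := by
        rw [MulAction.period_eq_minimalPeriod, MulAction.minimalPeriod_eq_card,
          ← Nat.card_eq_fintype_card, hk] at hper ⊢
        rcases Nat.eq_zero_or_pos k with h | h
        · rw [h, pow_zero]; exact one_dvd p
        · have : k = 1 := by
            by_contra h1
            have : p ^ 2 ≤ p ^ k := Nat.pow_le_pow_right (by omega) (by omega)
            nlinarith
          rw [this, pow_one]
      exact MulAction.pow_smul_eq_iff_period_dvd.2 hdvd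
    refine orderOf_eq_prime hgp fun e => ?_
    simp [hS, e] at hg
    omega
  have hcyc : (φ g).IsCycle := by
    refine Equiv.Perm.isCycle_of_prime_order ?_ ?_
    · rw [orderOf_injective φ hinj, hord]; exact Fact.out
    · rw [orderOf_injective φ hinj, hord, hsupp]; omega
  haveI : IsPreprimitive φ.range Ω :=
    IsPreprimitive.of_surjective
      (f := ({ toFun := id, map_smul' := fun _ _ => rfl } : Ω →ₑ[φ.rangeRestrict] Ω))
      Function.surjective_id
  have halt := Cfsg.Agent.S0713.result φ.range inferInstance Fact.out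
    (by rw [← Nat.card_eq_fintype_card]; omega) (by rw [← Nat.card_eq_fintype_card]; omega)
    hcyc hsupp ⟨g, rfl⟩
  -- move the cycle into the fixed points
  have e1 : Fin p ↪ S := (Finite.equivFinOfCardEq (by rw [Nat.card_coe_set_eq, hg])).symm.toEmbedding
  obtain ⟨e2⟩ : Nonempty (Fin p ↪ F) := by
    haveI : Fintype F := Fintype.ofFinite _
    refine Function.Embedding.nonempty_of_card_le ?_
    rw [Fintype.card_fin, ← Nat.card_eq_fintype_card, Nat.card_coe_set_eq]
    exact hf
  haveI := alternatingGroup.isMultiplyPretransitive (α := Ω)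
  haveI : IsMultiplyPretransitive (alternatingGroup Ω) Ω p :=
    MulAction.isMultiplyPretransitive_of_le (n := Nat.card Ω - 2) (by omega) (by omega)
  obtain ⟨h, hh⟩ := MulAction.exists_smul_eq (alternatingGroup Ω)
    (e1.trans (Function.Embedding.subtype _) : Fin p ↪ Ω)
    (e2.trans (Function.Embedding.subtype _) : Fin p ↪ Ω)
  obtain ⟨t, ht⟩ := halt h.2
  have htS : ∀ c ∈ S, t • c ∈ F := by
    intro c hc
    have hsurj : Function.Surjective e1 :=
      (Function.Injective.bijective_of_nat_card_le e1.injective (by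
        rw [Nat.card_coe_set_eq, hg, Nat.card_eq_fintype_card, Fintype.card_fin])).2
    obtain ⟨i, hi⟩ := hsurj ⟨c, hc⟩
    have e := congrArg (fun f : Fin p ↪ Ω => f i) hh
    simp only [Function.Embedding.smul_apply, Function.Embedding.trans_apply,
      Function.Embedding.coe_subtype, hi] at e
    have e' : t • c = ((h : Equiv.Perm Ω)) c := by rw [← ht]; rfl
    rw [e']
    have e'' : (h : Equiv.Perm Ω) c = (e2 i : Ω) := e
    rw [e'']
    exact (e2 i).2
  set g' := t * g * t⁻¹ with hg'
  have hfix : ∀ d, d ∉ F → g' • d = d := by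
    intro d hd
    rw [hg', mul_smul, mul_smul]
    have : g • t⁻¹ • d = t⁻¹ • d := by
      by_contra hne
      have := htS _ (show t⁻¹ • d ∈ S from hne)
      rw [smul_inv_smul] at this
      exact hd this
    rw [this, smul_inv_smul]
  have hcomm : ∀ x ∈ (P : Subgroup G), x * g' = g' * x := by
    intro x hx
    refine FaithfulSMul.eq_of_smul_eq_smul (α := Ω) fun d => ?_
    rw [mul_smul x g' d, mul_smul g' x d]
    by_cases hd : d ∈ F
    · rw [mem_fx.1 hd x hx]
      have hgd : g' • d ∈ F := by
        by_contra hne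
        have h1 := hfix _ hne
        exact hne ((MulAction.injective g' h1).symm ▸ hd)
      exact mem_fx.1 hgd x hx
    · have hxd : x • d ∉ F := fun h => hd (by
        have := mem_fx.1 h x hx
        exact MulAction.injective x this ▸ h)
      rw [hfix d hd, hfix _ hxd]
  have hnorm : Subgroup.zpowers g' ≤ Subgroup.normalizer ((P : Subgroup G) : Set G) := by
    refine Subgroup.zpowers_le.2 (Subgroup.mem_normalizer_iff.2 fun x => ⟨fun hx => ?_, fun hx => ?_⟩)
    · rw [← hcomm x hx, mul_inv_cancel_right]; exact hx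
    · have e := hcomm _ hx
      have : g' * x * g'⁻¹ = x := by
        have h2 : g' * x = g' * (g' * x * g'⁻¹) := by rw [← e]; group
        exact (mul_left_cancel h2).symm
      rwa [this] at hx
  have hp' : IsPEl p g' := (isPEl_of_mem P.isPGroup' hgP).conj t
  have hsup := (isPEl_iff_mem.1 hp').to_sup_of_normal_right' P.isPGroup' hnorm
  have hle : (P : Subgroup G) = Subgroup.zpowers g' ⊔ (P : Subgroup G) :=
    (P.3 hsup le_sup_right).symm
  have hg'P : g' ∈ (P : Subgroup G) :=
    hle ▸ Subgroup.mem_sup_left (Subgroup.mem_zpowers g')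
  obtain ⟨c, hc⟩ : S.Nonempty := (Set.ncard_pos (Set.toFinite _)).1 (by omega)
  have h1 := mem_fx.1 (htS c hc) _ hg'P
  rw [hg', mul_smul, mul_smul, inv_smul_smul] at h1
  exact hc (MulAction.injective _ h1)

theorem key_image_le {L : Subgroup G} {F O : Set Ω} : (key L F '' O).ncard ≤ O.ncard :=
  Set.ncard_image_le (Set.toFinite O)

/-- Every part has a fixed point. -/
theorem fO_pos (C : Crit p Ω P) (hp2 : p ≠ 2) {a b : Ω} (ha : a ∈ fx (P : Subgroup G) Ω)
    (hb : b ≠ a) : 0 < fO (P : Subgroup G) (orbit (st p G a) b) := by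
  classical
  by_contra hf
  have hf0 : fO (P : Subgroup G) (orbit (st p G a) b) = 0 := by omega
  set O := orbit (st p G a) b with hO
  have hp := (Fact.out : p.Prime).two_le
  have hs1 : sO p (P : Subgroup G) O ≤ p - 1 := sO_le C ha hb
  have hq0 : 0 < qO p (P : Subgroup G) O := qO_pos C.toBase P ha hb
  have hq : qO p (P : Subgroup G) O = 1 := by
    simp only [sO, hf0, Nat.sub_zero] at hs1
    nlinarith [show 1 ≤ p - 1 by omega]
  have hs : sO p (P : Subgroup G) O = p - 1 := by simp only [sO, hf0, hq, Nat.sub_zero, mul_one]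
  have hcard : O.ncard = p := by
    have h' : O.ncard = fO (P : Subgroup G) O + p * qO p (P : Subgroup G) O := part_card P ha
    rw [h', hq, hf0]
    omega
  -- all other parts are tight, good and big
  have hother : ∀ c, c ≠ a → orbit (st p G a) c ≠ O →
      GoodAt p (P : Subgroup G) a (orbit (st p G a) c) ∧
      ¬ SmallP p (P : Subgroup G) a (orbit (st p G a) c) := by
    intro c hc hne
    have hpair : sO p (P : Subgroup G) (orbit (st p G a) c) + sO p (P : Subgroup G) O ≤ p - 1 :=
      sO_pair C ha hc hb hne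
    have hs0 : sO p (P : Subgroup G) (orbit (st p G a) c) = 0 := by omega
    have h2 : 0 < qO p (P : Subgroup G) (orbit (st p G a) c) := qO_pos C.toBase P ha hc
    have h3 : 0 < (p - 1) * qO p (P : Subgroup G) (orbit (st p G a) c) :=
      Nat.mul_pos (by omega) h2
    have hfc : 0 < fO (P : Subgroup G) (orbit (st p G a) c) := by
      simp only [sO] at hs0; omega
    refine ⟨⟨hfc, part_good C.toBase P ha hc hfc fun i hi => absurd hi (by omega)⟩, fun hsm => ?_⟩
    have := small_slack C ha hc hsm
    omega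
  have hOsmall : ¬ GoodAt p (P : Subgroup G) a O := fun h => hf h.1
  have hsu : ∀ O' ∈ parts p G a, SmallP p (P : Subgroup G) a O' → False := by
    intro O' hO' hs'
    obtain ⟨c, hc, rfl⟩ := mem_parts.1 hO'
    by_cases e : orbit (st p G a) c = O
    · exact hOsmall (e ▸ hs'.1)
    · exact (hother c hc e).2 hs'
  have hfge : p ≤ (fx (P : Subgroup G) Ω).ncard := by
    have h1 := C.tau
    have h2 := C.q2
    have h3 : 2 * (p - 1) ≤ (p - 1) * ((Nat.card Ω - (fx (P : Subgroup G) Ω).ncard) / p) := by
      rw [mul_comm]; exact Nat.mul_le_mul_left _ h2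
    omega
  have hn : p + 3 ≤ Nat.card Ω := by
    have h1 := C.q2
    have h2 : p * 2 ≤ p * ((Nat.card Ω - (fx (P : Subgroup G) Ω).ncard) / p) :=
      Nat.mul_le_mul_left _ h1
    have h3 := Nat.mul_div_le (Nat.card Ω - (fx (P : Subgroup G) Ω).ncard) p
    omega
  by_cases hNN : NN p G a = ⊥
  · -- linked: impossible by order
    have hxO : ∃ x, Piece p (P : Subgroup G) a x ∧ ¬ Triv O x := by
      by_contra hall
      push Not at hall
      have hPle : Subgroup.closure {x | Piece p (P : Subgroup G) a x} ≤ (P : Subgroup G) :=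
        (Subgroup.closure_le _).2 fun y hy => hy.1
      have htr : ∀ g ∈ (P : Subgroup G), Triv O g := by
        intro g hg
        have h' := mem_closure_pieces C ha hg
        induction h' using Subgroup.closure_induction with
        | mem y hy => exact hall y hy
        | one => exact Triv.one O
        | mul u w hu' hw' hu hw => exact (hu (hPle hu')).mul (hw (hPle hw'))
        | inv u hu' hu => exact (hu (hPle hu')).inv
      have : O ⊆ fx (P : Subgroup G) Ω := fun c hc => mem_fx.2 fun x hx => htr x hx c hc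
      rw [fO, Set.inter_eq_right.2 this] at hf0
      omega
    obtain ⟨x, ⟨hxP, hx⟩, hxn⟩ := hxO
    rcases hx with ⟨hxs, Oi, hOi, hib, hxi, hxJ⟩ | hx
    · obtain ⟨i, hi, rfl⟩ := mem_parts.1 hOi
      have hd := linked_dvd C ha hNN hi hib hxP hxs hxi hxJ hxn
      have hd2 : Nat.card (MulAction.toPermHom (st p G a) O).range ∣ p.factorial := by
        have := Subgroup.card_subgroup_dvd_card (MulAction.toPermHom (st p G a) O).range
        rwa [Nat.card_perm, Nat.card_coe_set_eq, hcard] at this
      have hd' := hd.trans hd2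
      obtain ⟨β, fm, hβ, hfm1, hfmp, hfi, hqi, hvi⟩ := card_Dl C ha hi hib.1
      haveI := pretransitive_Dl (P := P) (p := p) (a := a) (b := i)
      set L := st p G a
      set φi := MulAction.toPermHom L (Dl p (P : Subgroup G) a i)
      obtain ⟨c0, hc0F, hc0O⟩ := (Set.ncard_pos (Set.toFinite _)).1 hib.1.1
      let δ0 : Dl p (P : Subgroup G) a i := ⟨_, c0, hc0O, rfl⟩
      have hvdvd : fm + p ∣ Nat.card φi.range := by
        haveI : IsPretransitive φi.range (Dl p (P : Subgroup G) a i) := ⟨fun x y => by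
          obtain ⟨g, hg⟩ := MulAction.exists_smul_eq L x y
          exact ⟨⟨φi g, g, rfl⟩, hg⟩⟩
        rw [← hvi, ← index_stabilizer_of_transitive φi.range δ0]
        exact Subgroup.index_dvd_card _
      have hne : orbit L i ≠ O := fun e => hOsmall (e ▸ hib.1)
      have hpair : sO p (P : Subgroup G) (orbit (st p G a) i) + sO p (P : Subgroup G) O ≤ p - 1 :=
        sO_pair C ha hi hb hne
      have hsi : sO p (P : Subgroup G) (orbit (st p G a) i) = 0 := by omega
      have hfi' : fO (P : Subgroup G) (orbit (st p G a) i) = β * fm := hfi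
      have hqi' : qO p (P : Subgroup G) (orbit (st p G a) i) = β := hqi
      simp only [sO] at hsi
      rw [hfi', hqi'] at hsi
      rw [mul_comm β fm, ← Nat.sub_mul, Nat.mul_eq_zero] at hsi
      have hfm : fm = p - 1 := by omega
      rcases eq_or_ne p 3 with h3 | h3
      · have h5 := hvdvd.trans hd'
        subst h3
        rw [hfm] at h5
        norm_num [Nat.factorial] at h5
      · have hp5 : 5 ≤ p := by
          by_contra hlt
          have hprime := (Fact.out : p.Prime)
          have h4 : p = 4 := by omega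
          rw [h4] at hprime
          norm_num at hprime
        haveI : Fintype (Dl p (P : Subgroup G) a i) := Fintype.ofFinite _
        have halt := alt_le_range C ha hi hib.1 (by rw [hvi]; omega)
        haveI : Nontrivial (Dl p (P : Subgroup G) a i) :=
          Finite.one_lt_card_iff_nontrivial.1 (by rw [hvi]; omega)
        have h1 := two_mul_card_alternatingGroup (α := Dl p (P : Subgroup G) a i)
        rw [Fintype.card_perm, ← Nat.card_eq_fintype_card, ← Nat.card_eq_fintype_card, hvi] at h1
        have h2 : Nat.card (alternatingGroup (Dl p (P : Subgroup G) a i)) ∣ p.factorial :=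
          (Subgroup.card_dvd_of_le halt).trans hd'
        have h4 := Nat.le_of_dvd (Nat.factorial_pos _) h2
        have h6 : p.factorial ≤ (p + 1).factorial := Nat.factorial_le (by omega)
        exact le_of_factorial_dvd (v := fm + p) (p := p) (by omega) (by omega)
    · -- trivial on all good parts
      refine hxn ?_
      rw [eq_one_of_triv C ha hNN hxP fun O' hO' hg' => hx O' hO'
        ((big_or_small hg').resolve_right fun h => hsu O' hO' h)]
      exact Triv.one O
  · -- a `p`-cycle
    obtain ⟨g, hg, hg1⟩ : ∃ g ∈ (P : Subgroup G) ⊓ NN p G a, g ≠ 1 := by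
      by_contra hall
      push Not at hall
      refine hNN ((Subgroup.eq_bot_iff_forall _).2 fun g hg => ?_)
      rw [← NN_pgen a] at hg
      induction hg using Subgroup.closure_induction with
      | mem y hy =>
        obtain ⟨t, htN, ht⟩ := exists_conj_mem P (le_st ha) (NN_le a)
          (fun g hg x hx => NN_normal hg hx) hy.1 hy.2
        have := hall _ (Subgroup.mem_inf.2
          ⟨ht, Subgroup.mul_mem _ (Subgroup.mul_mem _ htN hy.1) (Subgroup.inv_mem _ htN)⟩)
        rwa [conj_eq_one_iff] at this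
      | one => rfl
      | mul u w _ _ hu hw => rw [hu, hw, one_mul]
      | inv u _ hu => rw [hu, inv_one]
    obtain ⟨hgP, hgN⟩ := Subgroup.mem_inf.1 hg
    haveI := C.faith
    have hsub : {c : Ω | g • c ≠ c} ⊆ O := by
      intro c hc
      by_contra hcO
      have hca : c ≠ a := fun e => hc (e ▸ mem_fx.1 ha g hgP)
      have hne : orbit (st p G a) c ≠ O := fun e => hcO (e ▸ mem_orbit_self c)
      exact hc (NN_fix hgN ((mem_goodPts ha).2 ⟨hca, (hother c hca hne).1⟩))
    have hne : {c : Ω | g • c ≠ c}.Nonempty := by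
      by_contra h
      rw [Set.not_nonempty_iff_eq_empty] at h
      exact hg1 (FaithfulSMul.eq_of_smul_eq_smul (α := Ω) fun c => by
        rw [one_smul]
        by_contra hc
        exact (h ▸ hc : c ∈ (∅ : Set Ω)))
    have hset : {c : Ω | g • c ≠ c} = O := by
      refine Set.eq_of_subset_of_ncard_le hsub ?_
      obtain ⟨c, hc⟩ := hne
      obtain ⟨k, hk⟩ := (P.isPGroup'.to_le (Subgroup.zpowers_le.2 hgP)).card_orbit c
      have hsubo : orbit (Subgroup.zpowers g) c ⊆ {c : Ω | g • c ≠ c} := by
        rintro _ ⟨⟨_, i, rfl⟩, rfl⟩ he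
        refine hc ?_
        have he' : g • (g ^ i) • c = (g ^ i) • c := he
        rw [smul_smul, (Commute.self_zpow g i).eq, mul_smul] at he'
        exact MulAction.injective _ he'
      refine le_trans ?_ (Set.ncard_le_ncard hsubo (Set.toFinite _))
      rw [hcard, ← Nat.card_coe_set_eq, hk]
      rcases Nat.eq_zero_or_pos k with h | h
      · exfalso
        rw [h, pow_zero, Nat.card_coe_set_eq] at hk
        exact hc ((Set.ncard_le_one (Set.toFinite _)).1 hk.le _
          ⟨⟨g, Subgroup.mem_zpowers g⟩, rfl⟩ _ (mem_orbit_self c))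
      · exact Nat.le_self_pow h.ne' p
    exact no_cycle C hgP (by rw [hset, hcard]) hfge hn

/-- Outside the good parts at a point only the identity is a `p`-element. -/
theorem NN_bot (C : Crit p Ω P) (hp2 : p ≠ 2) {a : Ω} (ha : a ∈ fx (P : Subgroup G) Ω) :
    NN p G a = ⊥ :=
  NN_eq_bot C ha fun _ hb => fO_pos C hp2 ha hb

/-- A part of eight points with a transitive normal subgroup of order prime to three and an
element of order five is impossible. -/
theorem eight_false [Fact (Nat.Prime 3)] {P : Sylow 3 G} (C : Crit 3 Ω P) {a b : Ω}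
    (hQa : a ∈ fx (P : Subgroup G) Ω) (hb : b ≠ a)
    (hgood : ¬ GoodAt 3 (P : Subgroup G) a (orbit (st 3 G a) b))
    (hf : 0 < fO (P : Subgroup G) (orbit (st 3 G a) b))
    (hf2 : fO (P : Subgroup G) (orbit (st 3 G a) b) = 2)
    (hq : qO 3 (P : Subgroup G) (orbit (st 3 G a) b) = 2)
    (hcard8 : (orbit (st 3 G a) b).ncard = 8) {K : Subgroup G} (hKL : K ≤ st 3 G a)
    (hKn : ∀ g ∈ st 3 G a, ∀ x ∈ K, g * x * g⁻¹ ∈ K) (hKp : ¬ 3 ∣ Nat.card K) {c0 : Ω}
    (hc0F : c0 ∈ fx (P : Subgroup G) Ω) (hc0O : c0 ∈ orbit (st 3 G a) b)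
    (hK0 : orbit K c0 = orbit (st 3 G a) b)
    (h5 : 5 ∣ Nat.card (MulAction.toPermHom (st 3 G a) (orbit (st 3 G a) b)).range) : False := by
  classical
  set L := st 3 G a with hL
  set O := orbit L b with hO
  set ψ := MulAction.toPermHom L O with hψ
  -- the image on `O` is primitive
  haveI : Fintype O := Fintype.ofFinite _
  have hcardO8 : Fintype.card O = 8 := by
    rw [← Nat.card_eq_fintype_card, Nat.card_coe_set_eq, hcard8]
  haveI : IsPretransitive L O := inferInstance
  haveI : IsPreprimitive L O := by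
    refine IsPreprimitive.of_isTrivialBlock_base (⟨c0, hc0O⟩ : O) fun {D} hD0 hD => ?_
    by_contra hnt
    simp only [IsTrivialBlock, not_or] at hnt
    set D' : Set Ω := Subtype.val '' D with hD'
    have hblk : ∀ h ∈ L, h • D' = D' ∨ Disjoint (h • D') D' := by
      intro h hh
      have e1 : h • D' = Subtype.val '' ((⟨h, hh⟩ : L) • D) := by
        rw [hD']
        ext w
        constructor
        · rintro ⟨_, ⟨z, hz, rfl⟩, rfl⟩
          exact ⟨_, Set.smul_mem_smul_set hz, rfl⟩
        · rintro ⟨_, ⟨z, hz, rfl⟩, rfl⟩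
          exact ⟨z, ⟨z, hz, rfl⟩, rfl⟩
      rcases isBlock_iff_smul_eq_or_disjoint.1 hD ⟨h, hh⟩ with e | e
      · left; rw [e1, e]
      · right; rw [e1]; exact Set.disjoint_image_of_injective Subtype.val_injective e
    have hD2 : 2 ≤ D'.ncard := by
      rw [hD', Set.ncard_image_of_injective _ Subtype.val_injective]
      exact (Set.one_lt_ncard (Set.toFinite _)).2 (Set.not_subsingleton_iff.1 hnt.1)
    have hDne : D' ≠ O := fun e => hnt.2 (Set.eq_univ_of_forall fun z => by
      obtain ⟨z', hz', hzz⟩ := (Set.ext_iff.1 e (z : Ω)).2 z.2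
      exact Subtype.val_injective hzz ▸ hz')
    obtain ⟨-, fm', qm', e1, e2, e3, hgd⟩ := part_sat C hQa hb
      (D := D') (fun w ⟨z, _, hzw⟩ => hzw ▸ z.2) (show c0 ∈ D' from ⟨_, hD0, rfl⟩) hc0F hblk hD2 hDne
    rw [show fO (P : Subgroup G) (orbit (st 3 G a) b) = 2 from hf2] at e1
    rw [show qO 3 (P : Subgroup G) (orbit (st 3 G a) b) = 2 from hq] at e2
    have hqm : qm' = 1 := by
      rcases Nat.eq_zero_or_pos qm' with h | h
      · rw [h, mul_zero] at e2; omega
      · have : 2 * qm' ≤ D'.ncard * qm' := Nat.mul_le_mul_right _ hD2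
        omega
    subst hqm
    refine hgood ⟨hf, hgd fun j hj => ?_⟩
    have : fm' ≠ 0 := fun h => by rw [h, mul_zero] at e1; omega
    have : j = 0 := by omega
    subst this
    norm_num
  haveI : IsPreprimitive ψ.range O :=
    IsPreprimitive.of_surjective
      (f := ({ toFun := id, map_smul' := fun _ _ => rfl } : O →ₑ[ψ.rangeRestrict] O))
      Function.surjective_id
  haveI : Fact (Nat.Prime 5) := ⟨by norm_num⟩
  obtain ⟨⟨g5, hg5⟩, hg5o⟩ := exists_prime_orderOf_dvd_card' (G := ψ.range) 5 h5
  have hg5o' : orderOf g5 = 5 := (Subgroup.orderOf_mk _ _).symm.trans hg5o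
  have hg5c : g5.IsCycle := Equiv.Perm.isCycle_of_prime_order (by rw [hg5o']; norm_num) (by
    rw [hg5o']
    exact lt_of_le_of_lt (Finset.card_le_univ _) (by rw [hcardO8]; norm_num))
  have halt := Cfsg.Agent.S0713.result ψ.range inferInstance (by norm_num : Nat.Prime 5)
    (by rw [hcardO8]; norm_num) (by rw [hcardO8]) hg5c (hg5c.orderOf.symm.trans hg5o') hg5
  -- a three-cycle normalises the transitive kernel
  obtain ⟨u, v, w, huv, huw, hvw⟩ : ∃ u v w : O, u ≠ v ∧ u ≠ w ∧ v ≠ w := by
    obtain ⟨u, v, w, h⟩ := Fintype.two_lt_card_iff.1 (by rw [hcardO8]; norm_num : 2 < Fintype.card O)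
    exact ⟨u, v, w, h⟩
  set σ := Equiv.swap u v * Equiv.swap u w with hσ
  have hσ3 : σ.IsThreeCycle := Equiv.Perm.isThreeCycle_swap_mul_swap_same huv huw hvw
  have hσR : σ ∈ ψ.range := halt hσ3.mem_alternatingGroup
  set Kb := (K.subgroupOf L).map ψ with hKb
  have hA : IsPGroup 3 (Subgroup.zpowers σ) :=
    isPEl_iff_mem.1 ⟨1, by rw [hσ3.orderOf, pow_one]⟩
  have hAn : Subgroup.zpowers σ ≤ Subgroup.normalizer (Kb : Set (Equiv.Perm O)) := by
    refine Subgroup.zpowers_le.2 ?_
    obtain ⟨s, hs⟩ := hσR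
    haveI : (K.subgroupOf L).Normal := ⟨fun z hz y => hKn y y.2 z hz⟩
    rw [← hs, Subgroup.mem_normalizer_iff]
    intro z
    constructor
    · rintro ⟨z', hz', rfl⟩
      exact ⟨s * z' * s⁻¹, Subgroup.Normal.conj_mem inferInstance z' hz' s, by simp⟩
    · rintro ⟨z', hz', e⟩
      exact ⟨s⁻¹ * z' * s⁻¹⁻¹, Subgroup.Normal.conj_mem inferInstance z' hz' s⁻¹,
        by simp [e]; group⟩
  have hK3 : ¬ 3 ∣ Nat.card Kb := fun h => hKp (h.trans (by
    refine (Subgroup.card_map_dvd _ _).trans ?_
    exact (Cfsg.Agent.Solv.card_subgroupOf hKL).dvd))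
  have hcoA : (Nat.card (Subgroup.zpowers σ)).Coprime (Nat.card Kb) := by
    rw [Nat.card_zpowers, hσ3.orderOf]
    exact (Nat.Prime.coprime_iff_not_dvd (by norm_num)).2 hK3
  obtain ⟨z0, hz0⟩ : ∃ z0 : O, σ z0 = z0 := by
    by_contra hh
    push Not at hh
    have : σ.support = Finset.univ := Finset.eq_univ_of_forall fun z => Equiv.Perm.mem_support.2 (hh z)
    have h8 := hσ3.card_support
    rw [this, Finset.card_univ, hcardO8] at h8
    omega
  have horb : orbit Kb z0 = Set.univ := by
    refine Set.eq_univ_of_forall fun z => ?_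
    obtain ⟨k0, hk0⟩ := (Set.ext_iff.1 hK0 (z0 : Ω)).2 z0.2
    obtain ⟨k1, hk1⟩ := (Set.ext_iff.1 hK0 (z : Ω)).2 z.2
    have hk : ((k1 * k0⁻¹ : K) : G) • (z0 : Ω) = (z : Ω) := by
      rw [← show (k0 : G) • c0 = (z0 : Ω) from hk0, Subgroup.coe_mul, mul_smul, Subgroup.coe_inv,
        inv_smul_smul]
      exact hk1
    refine ⟨⟨ψ ⟨_, hKL (k1 * k0⁻¹).2⟩,
      Subgroup.mem_map_of_mem ψ (Subgroup.mem_subgroupOf.2 (k1 * k0⁻¹).2)⟩, Subtype.ext ?_⟩
    exact hk
  have hfixA : ∀ y ∈ Subgroup.zpowers σ, y • z0 = z0 := fun y hy =>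
    smul_eq_self_of_mem_zpowers hy (by exact hz0)
  have h8 := fixed_dvd hA hAn hcoA hfixA
  rw [horb, Set.inter_univ, Set.ncard_univ, Nat.card_eq_fintype_card, hcardO8] at h8
  have hset : {z : O | ∀ y ∈ Subgroup.zpowers σ, y • z = z} = ↑(σ.supportᶜ) := by
    ext z
    simp only [Set.mem_ofPred_eq, Finset.coe_compl, Set.mem_compl_iff, Finset.mem_coe,
      Equiv.Perm.mem_support, not_not]
    exact ⟨fun h => h σ (Subgroup.mem_zpowers σ),
      fun h y hy => smul_eq_self_of_mem_zpowers hy (by exact h)⟩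
  rw [hset, Set.ncard_coe_finset, Finset.card_compl, hσ3.card_support, hcardO8] at h8
  norm_num at h8

/-- The kernel of the good parts is intransitive on the other parts. -/
theorem gker_intransitive (C : Crit p Ω P) (hp2 : p ≠ 2) {a b : Ω}
    (hQa : a ∈ fx (P : Subgroup G) Ω) (hb : b ≠ a)
    (hgood : ¬ GoodAt p (P : Subgroup G) a (orbit (st p G a) b)) :
    ∀ c ∈ orbit (st p G a) b, orbit (gker p G a) c ≠ orbit (st p G a) b := by
  classical
  by_contra hint
  set O := orbit (st p G a) b with hO
  have hp := (Fact.out : p.Prime).two_le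
  have hp3 : 3 ≤ p := by omega
  have hf : 0 < fO (P : Subgroup G) O := fO_pos C hp2 hQa hb
  have hNN := NN_bot C hp2 hQa
  obtain ⟨d, hd, hdF⟩ : ∃ d ∈ O, d ∉ fx (P : Subgroup G) Ω := by
    by_contra hall
    push Not at hall
    have h1 : fO (P : Subgroup G) O = O.ncard := by
      rw [fO, Set.inter_eq_right.2 hall]
    have h2 : O.ncard = fO (P : Subgroup G) O + p * qO p (P : Subgroup G) O := part_card P hQa
    have h3 : 0 < p * qO p (P : Subgroup G) O :=
      Nat.mul_pos (by omega) (qO_pos C.toBase P hQa hb)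
    omega
  push Not at hint
  obtain ⟨c1, hc1, hc1'⟩ := hint
  obtain ⟨c0, hc0F, hc0O⟩ := (Set.ncard_pos (Set.toFinite _)).1 hf
  have hK0 : orbit (gker p G a) c0 = O := by
    rw [orbit_eq_iff.2 (hc1' ▸ hc0O : c0 ∈ orbit (gker p G a) c1), hc1']
  have hnormK : (P : Subgroup G) ≤ Subgroup.normalizer (gker p G a : Set G) := by
    intro z hz
    rw [Subgroup.mem_normalizer_iff]
    intro w
    constructor
    · exact fun hw => gker_normal (le_st hQa hz) hw
    · intro hw
      have := gker_normal ((st p G a).inv_mem (le_st hQa hz)) hw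
      rwa [show z⁻¹ * (z * w * z⁻¹) * z⁻¹⁻¹ = w by group] at this
  have hco : (Nat.card (P : Subgroup G)).Coprime (Nat.card (gker p G a)) := by
    obtain ⟨k, hk⟩ := IsPGroup.iff_card.1 P.isPGroup'
    rw [hk]
    exact ((Fact.out : p.Prime).coprime_iff_not_dvd.2 (gker_prime_to C hQa hNN)).pow_left k
  have hdvd := fixed_dvd P.isPGroup' hnormK hco (mem_fx.1 hc0F)
  rw [hK0, show {d : Ω | ∀ x ∈ (P : Subgroup G), x • d = d} = fx (P : Subgroup G) Ω from
    Set.ext fun _ => mem_fx.symm] at hdvd
  change fO (P : Subgroup G) O ∣ O.ncard at hdvd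
  have hcardO : O.ncard = fO (P : Subgroup G) O + p * qO p (P : Subgroup G) O := part_card P hQa
  have hqpos : 0 < qO p (P : Subgroup G) O := qO_pos C.toBase P hQa hb
  have hnd : ¬ p ∣ fO (P : Subgroup G) O := fun h => by
    refine part_not_dvd P hQa hf (b := b) ?_
    rw [show (orbit (st p G a) b).ncard = O.ncard from rfl, hcardO]
    exact Nat.dvd_add h ⟨_, rfl⟩
  have hfq : fO (P : Subgroup G) O ∣ qO p (P : Subgroup G) O := by
    rw [hcardO, Nat.dvd_add_right (dvd_refl _)] at hdvd
    exact (Nat.Coprime.dvd_mul_left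
      ((Fact.out : p.Prime).coprime_iff_not_dvd.2 hnd).symm).1 hdvd
  have hfle := Nat.le_of_dvd hqpos hfq
  have hs : sO p (P : Subgroup G) O ≤ p - 1 := sO_le C hQa hb
  have hsq : (p - 2) * qO p (P : Subgroup G) O ≤ sO p (P : Subgroup G) O := by
    simp only [sO]
    have e : (p - 1) * qO p (P : Subgroup G) O =
        (p - 2) * qO p (P : Subgroup G) O + qO p (P : Subgroup G) O := by
      rw [show p - 1 = p - 2 + 1 by omega, add_mul, one_mul]
    omega
  have hq2 : qO p (P : Subgroup G) O ≤ 2 := by
    by_contra h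
    have : (p - 2) * 3 ≤ (p - 2) * qO p (P : Subgroup G) O := Nat.mul_le_mul_left _ (by omega)
    omega
  by_cases hq1 : qO p (P : Subgroup G) O = 1
  · refine hgood ⟨hf, lt_of_le_of_lt key_image_le ?_⟩
    rw [hcardO, hq1]
    omega
  have hq : qO p (P : Subgroup G) O = 2 := by omega
  rw [hq] at hfq hfle hsq
  have hp' : p = 3 := by
    have h4 : p ≠ 4 := fun h => by
      have := (Fact.out : p.Prime); rw [h] at this; norm_num at this
    omega
  have hf2 : fO (P : Subgroup G) O = 2 := by
    simp only [sO, hq] at hs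
    omega
  have hs2 : sO p (P : Subgroup G) O = 2 := by simp only [sO, hq, hf2]; omega
  subst hp'
  have hcard8 : O.ncard = 8 := by rw [hcardO, hq, hf2]
  -- the other parts are big with five classes
  have hnosmall : ∀ O' ∈ parts 3 G a, SmallP 3 (P : Subgroup G) a O' → False := by
    intro O' hO' hs'
    obtain ⟨c, hc, rfl⟩ := mem_parts.1 hO'
    have := small_slack C hQa hc hs'
    have hpair := sO_pair C hQa hc hb (fun e => hgood (show GoodAt 3 (P : Subgroup G) a (orbit (st 3 G a) b) from e ▸ hs'.1))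
    rw [show sO 3 (P : Subgroup G) (orbit (st 3 G a) b) = 2 from hs2] at hpair
    omega
  obtain ⟨y, ⟨hyP, hy⟩, hyn⟩ : ∃ y, Piece 3 (P : Subgroup G) a y ∧ ¬ Triv O y := by
    by_contra hall
    push Not at hall
    have hPle : Subgroup.closure {x | Piece 3 (P : Subgroup G) a x} ≤ (P : Subgroup G) :=
      (Subgroup.closure_le _).2 fun y hy => hy.1
    refine hdF (mem_fx.2 fun g hg => ?_)
    have h' := mem_closure_pieces C hQa hg
    have : Triv O g := by
      clear hg
      induction h' using Subgroup.closure_induction with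
      | mem y hy => exact hall y hy
      | one => exact Triv.one O
      | mul u w hu' hw' hu hw => exact hu.mul hw
      | inv u hu' hu => exact hu.inv
    exact this d hd
  rcases hy with ⟨hys, Oi, hOi, hib, hyi, hyJ⟩ | hy
  swap
  · refine hyn ?_
    rw [eq_one_of_triv C hQa hNN hyP fun O' hO' hg' => hy O' hO'
      ((big_or_small hg').resolve_right fun h => hnosmall O' hO' h)]
    exact Triv.one O
  obtain ⟨i, hi, rfl⟩ := mem_parts.1 hOi
  have hdv := linked_dvd C hQa hNN hi hib hyP hys hyi hyJ hyn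
  obtain ⟨β, fm, hβ, hfm1, hfmp, hfi, hqi, hvi⟩ := card_Dl C hQa hi hib.1
  have hfm : fm = 2 := by
    have := hib.2
    rw [hfi, hqi] at this
    by_contra hh
    rw [show fm = 1 by omega, mul_one] at this
    omega
  subst hfm
  set L := st 3 G a with hL
  set φi := MulAction.toPermHom L (Dl 3 (P : Subgroup G) a i) with hφi
  set ψ := MulAction.toPermHom L O with hψ
  have h5 : 5 ∣ Nat.card ψ.range := by
    haveI := pretransitive_Dl (P := P) (p := 3) (a := a) (b := i)
    obtain ⟨c2, hc2F, hc2O⟩ := (Set.ncard_pos (Set.toFinite _)).1 hib.1.1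
    let δ0 : Dl 3 (P : Subgroup G) a i := ⟨_, c2, hc2O, rfl⟩
    haveI : IsPretransitive φi.range (Dl 3 (P : Subgroup G) a i) := ⟨fun x y => by
      obtain ⟨g, hg⟩ := MulAction.exists_smul_eq L x y
      exact ⟨⟨φi g, g, rfl⟩, hg⟩⟩
    refine dvd_trans ?_ hdv
    rw [show (5 : ℕ) = Nat.card (Dl 3 (P : Subgroup G) a i) by rw [hvi],
      ← index_stabilizer_of_transitive φi.range δ0]
    exact Subgroup.index_dvd_card _
  exact eight_false C hQa hb hgood hf hf2 hq hcard8 inf_le_left
    (fun g hg z hz => gker_normal hg hz) (gker_prime_to C hQa hNN) hc0F hc0O hK0 h5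

/-- Semiregularity on all parts. -/
theorem semi_odd (C : Crit p Ω P) (hp2 : p ≠ 2) : Semi p G Ω := by
  classical
  intro Q a b hQa hb x hx d hd hdF hxd
  have CQ := C.of_sylow Q
  set O := orbit (st p G a) b with hO
  by_cases hgood : GoodAt p (Q : Subgroup G) a O
  · exact good_semireg CQ hQa hb hgood hx hd hdF hxd
  have hNN := NN_bot CQ hp2 hQa
  have hp := (Fact.out : p.Prime).two_le
  have hp3 : 3 ≤ p := by omega
  have hf : 0 < fO (Q : Subgroup G) O := fO_pos CQ hp2 hQa hb
  -- a bad part has positive slack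
  obtain ⟨i0, hi0, hi0d⟩ : ∃ i, i < sO p (Q : Subgroup G) O ∧
      p ∣ qO p (Q : Subgroup G) O + i := by
    by_contra h
    push Not at h
    exact hgood ⟨hf, part_good CQ.toBase Q hQa hb hf h⟩
  have hspos : 0 < sO p (Q : Subgroup G) O := by omega
  have hsu : ∀ O₁ ∈ parts p G a, ∀ O₂ ∈ parts p G a, SmallP p (Q : Subgroup G) a O₁ →
      SmallP p (Q : Subgroup G) a O₂ → O₁ = O₂ := by
    intro O₁ h₁ O₂ h₂ s₁ s₂
    by_contra hne
    obtain ⟨c₁, hc₁, rfl⟩ := mem_parts.1 h₁
    obtain ⟨c₂, hc₂, rfl⟩ := mem_parts.1 h₂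
    have t₁ := small_slack CQ hQa hc₁ s₁
    have t₂ := small_slack CQ hQa hc₂ s₂
    have hsum := sum_sO CQ.toBase Q hQa
    have htau := CQ.tau
    have h3 : sO p (Q : Subgroup G) (orbit (st p G a) c₁) +
        sO p (Q : Subgroup G) (orbit (st p G a) c₂) + sO p (Q : Subgroup G) O ≤
        ∑ O' ∈ parts p G a, sO p (Q : Subgroup G) O' := by
      have hn₁ : orbit (st p G a) c₁ ≠ O := fun e => hgood (e ▸ s₁.1)
      have hn₂ : orbit (st p G a) c₂ ≠ O := fun e => hgood (e ▸ s₂.1)
      rw [add_assoc, ← Finset.sum_pair hn₂, ← Finset.sum_insert (s := {orbit (st p G a) c₂, O})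
        (by simp [hne, hn₁])]
      refine Finset.sum_le_sum_of_subset fun O' hO' => ?_
      simp only [Finset.mem_insert, Finset.mem_singleton] at hO'
      rcases hO' with rfl | rfl | rfl
      · exact h₁
      · exact h₂
      · exact mem_parts_orbit hb
    omega
  by_cases hint : ∀ c ∈ O, orbit (gker p G a) c ≠ O
  · obtain ⟨y, hy, hcyc⟩ := part_cyclic CQ hQa hNN hsu hb hf hint
    obtain ⟨k, hk⟩ := hcyc x hx
    have hkd : (y ^ k) • d = d := by
      have h1 : ((y ^ k)⁻¹ * x) • d = d := hk d hd
      rw [mul_smul, hxd, inv_smul_eq_iff] at h1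
      exact h1.symm
    by_cases hpk : (p : ℤ) ∣ k
    · intro c hc
      obtain ⟨j, rfl⟩ := hpk
      have hy1 : y ^ ((p : ℤ) * j) = 1 := by
        rw [zpow_mul, zpow_natCast, pow_p_eq_one CQ hQa hNN hy, one_zpow]
      have := hk c hc
      rwa [hy1, inv_one, one_mul] at this
    · -- then `y`, hence all of `Q`, fixes `d`
      exfalso
      refine hdF (mem_fx.2 fun z hz => ?_)
      obtain ⟨l, hl⟩ := hcyc z hz
      have hco : IsCoprime k (p : ℤ) :=
        ((Nat.prime_iff_prime_int.1 Fact.out).coprime_iff_not_dvd.2 hpk).symm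
      obtain ⟨u, w, huw⟩ := hco
      have hye : y = (y ^ k) ^ u := by
        rw [← zpow_mul, mul_comm]
        conv_lhs => rw [← zpow_one y, ← huw, zpow_add, mul_comm w, zpow_mul y (p : ℤ),
          zpow_natCast, pow_p_eq_one CQ hQa hNN hy, one_zpow, mul_one]
      have hyd : y • d = d := by
        rw [hye]
        exact smul_eq_self_of_mem_zpowers (zpow_mem (Subgroup.mem_zpowers _) u) hkd
      have h2 : (y ^ l) • d = d :=
        smul_eq_self_of_mem_zpowers (zpow_mem (Subgroup.mem_zpowers _) l) hyd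
      have h3 : ((y ^ l)⁻¹ * z) • d = d := hl d hd
      rw [mul_smul, inv_smul_eq_iff, h2] at h3
      exact h3
  exact absurd (gker_intransitive CQ hp2 hQa hb hgood) hint

end Cfsg.Agent.Lead.FixBound
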