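import Cfsg.Agent.Lib.Lead.FixBound.Basic

/-!
# The parts at a fixed point: orbits of the group generated by the `p`-elements of a stabiliser
-/

set_option autoImplicit false

namespace Cfsg.Agent.Lead.FixBound

open MulAction
open scoped Pointwise

universe u v

variable {p : ℕ} {G : Type u} [Group G] {Ω : Type v} [MulAction G Ω]

/-- The group generated by the `p`-elements fixing `a`. -/
abbrev st (p : ℕ) (G : Type u) [Group G] [MulAction G Ω] (a : Ω) : Subgroup G :=
  pcl p (stabilizer G a)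

/-- The fixed points of `P` in `O`, counted. -/
noncomputable def fO (P : Subgroup G) (O : Set Ω) : ℕ := (fx P Ω ∩ O).ncard

/-- The weight of `O`. -/
noncomputable def qO (p : ℕ) (P : Subgroup G) (O : Set Ω) : ℕ := (O.ncard - fO P O) / p

/-- The slack of `O`. -/
noncomputable def sO (p : ℕ) (P : Subgroup G) (O : Set Ω) : ℕ := (p - 1) * qO p P O - fO P O

/-- The standing hypotheses of the induction step. -/
structure Base (p : ℕ) (G : Type u) [Group G] (Ω : Type v) [MulAction G Ω] : Prop where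
  gen : Subgroup.closure {g : G | ∃ k : ℕ, orderOf g = p ^ k} = ⊤
  prim : IsPreprimitive G Ω
  faith : FaithfulSMul G Ω
  two_le : 2 ≤ Nat.card Ω
  ih : Below.{u, v} p (Nat.card Ω)

theorem mem_st_iff_stab {a : Ω} {g : G} (hg : g ∈ st p G a) : g • a = a :=
  mem_stabilizer_iff.1 (pcl_le _ hg)

theorem conj_mem_st {a : Ω} {g x : G} (hx : x • a = a) (hg : g ∈ st p G a) :
    x * g * x⁻¹ ∈ st p G a := by
  refine conj_mem_pcl (fun h hh => ?_) hg
  rw [mem_stabilizer_iff] at hh ⊢
  rw [mul_smul, mul_smul, inv_smul_eq_iff.2 hx.symm, hh, hx]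

theorem smul_mem_st {a : Ω} {g x : G} (hg : g ∈ st p G a) : x * g * x⁻¹ ∈ st p G (x • a) := by
  induction hg using Subgroup.closure_induction with
  | mem y hy =>
    refine mem_pcl ?_ (hy.2.conj x)
    rw [mem_stabilizer_iff, mul_smul, mul_smul, inv_smul_smul, mem_stabilizer_iff.1 hy.1]
  | one => simp [one_mem]
  | mul a b _ _ ha hb =>
    rw [show x * (a * b) * x⁻¹ = x * a * x⁻¹ * (x * b * x⁻¹) by group]; exact mul_mem ha hb
  | inv a _ ha =>
    rw [show x * a⁻¹ * x⁻¹ = (x * a * x⁻¹)⁻¹ by group]; exact inv_mem ha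

theorem le_st [Fact p.Prime] {P : Sylow p G} {a : Ω} (ha : a ∈ fx (P : Subgroup G) Ω) :
    (P : Subgroup G) ≤ st p G a :=
  le_pcl P.isPGroup' fun x hx => mem_stabilizer_iff.2 (mem_fx.1 ha x hx)

variable [Finite G] [Finite Ω]

/-- `L` fixes only `a`. -/
theorem exists_moved [Fact p.Prime] (B : Base p G Ω) (P : Sylow p G) {a b : Ω}
    (ha : a ∈ fx (P : Subgroup G) Ω) (hba : b ≠ a) : ∃ g ∈ st p G a, g • b ≠ b := by
  by_contra hall
  push Not at hall
  haveI := B.prim
  haveI := B.faith
  haveI : Nontrivial Ω := ⟨⟨b, a, hba⟩⟩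
  obtain ⟨t, ht⟩ := MulAction.exists_smul_eq G a b
  set L := st p G a with hL
  -- the group at `b` is the same group
  have hle : L ≤ st p G b := by
    rw [hL, st, pcl, Subgroup.closure_le]
    rintro g ⟨hg, hgp⟩
    exact mem_pcl (mem_stabilizer_iff.2 (hall g (mem_pcl hg hgp))) hgp
  have himg : L.map (MulAut.conj t).toMonoidHom ≤ st p G b := by
    rintro _ ⟨g, hg, rfl⟩
    rw [← ht]
    exact smul_mem_st hg
  have himg' : (st p G b).map (MulAut.conj t⁻¹).toMonoidHom ≤ L := by
    rintro _ ⟨g, hg, rfl⟩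
    have := smul_mem_st (p := p) (x := t⁻¹) hg
    rwa [← ht, inv_smul_smul] at this
  have hcard : Nat.card (st p G b) ≤ Nat.card L := by
    have e : Nat.card ((st p G b).map (MulAut.conj t⁻¹).toMonoidHom) = Nat.card (st p G b) :=
      Subgroup.card_map_of_injective (MulAut.conj t⁻¹).injective
    rw [← e]
    exact Subgroup.card_le_of_le himg'
  have heq : L = st p G b := Subgroup.eq_of_le_of_card_ge hle hcard
  -- so it is normalised by two stabilisers, hence normal
  set N := Subgroup.normalizer (L : Set G) with hN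
  have hNa : stabilizer G a ≤ N := fun x hx => Subgroup.mem_normalizer_iff.2 fun g =>
    ⟨fun hg => conj_mem_st hx hg, fun hg => by
      have := conj_mem_st (x := x⁻¹) (inv_mem hx : x⁻¹ ∈ stabilizer G a) hg
      simpa [mul_assoc] using this⟩
  have hNb : stabilizer G b ≤ N := fun x hx => Subgroup.mem_normalizer_iff.2 fun g => by
    rw [show g ∈ L ↔ g ∈ st p G b by rw [heq], show x * g * x⁻¹ ∈ L ↔ x * g * x⁻¹ ∈ st p G b by
      rw [heq]]
    exact ⟨fun hg => conj_mem_st hx hg, fun hg => by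
      have := conj_mem_st (x := x⁻¹) (inv_mem hx : x⁻¹ ∈ stabilizer G b) hg
      simpa [mul_assoc] using this⟩
  have hmax := (IsPreprimitive.isCoatom_stabilizer_of_isPreprimitive (G := G) a)
  have hNtop : N = ⊤ := by
    rcases hmax.le_iff.1 hNa with h | h
    · exact h
    · exfalso
      have hstab : stabilizer G b ≤ stabilizer G a := h ▸ hNb
      have hbg : stabilizer G b = stabilizer G a := by
        refine Subgroup.eq_of_le_of_card_ge hstab ?_
        rw [← ht, stabilizer_smul_eq_stabilizer_map_conj,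
          Subgroup.card_map_of_injective (MulAut.conj t).injective]
      -- then every point of the translate is fixed by `P` and all stabilisers agree
      have hblock : stabilizer G a < stabilizer G a ⊔ Subgroup.zpowers t := by
        refine lt_of_le_of_ne le_sup_left fun e => ?_
        have : t ∈ stabilizer G a := by
          rw [e]; exact Subgroup.mem_sup_right (Subgroup.mem_zpowers t)
        exact hba (ht.symm.trans this)
      have htop := hmax.lt_iff.1 hblock
      have hnorm : stabilizer G a ⊔ Subgroup.zpowers t ≤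
          Subgroup.normalizer (stabilizer G a : Set G) := by
        refine sup_le Subgroup.le_normalizer (Subgroup.zpowers_le.2 ?_)
        rw [Subgroup.mem_normalizer_iff]
        intro g
        have e := stabilizer_smul_eq_stabilizer_map_conj t a
        rw [ht, hbg] at e
        conv_rhs => rw [e]
        constructor
        · exact fun hg => ⟨g, hg, by simp⟩
        · rintro ⟨y, hy, hye⟩
          have : y = g := by simpa using hye
          exact this ▸ hy
      rw [htop, top_le_iff, Subgroup.normalizer_eq_top_iff] at hnorm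
      have hfix : ∀ g ∈ stabilizer G a, ∀ c : Ω, g • c = c := fun g hg c => by
        obtain ⟨k, rfl⟩ := MulAction.exists_smul_eq G a c
        have := hnorm.conj_mem g hg k⁻¹
        rw [inv_inv, mem_stabilizer_iff, mul_smul, mul_smul, inv_smul_eq_iff] at this
        exact this
      have hfree := trivial_of_sylow_trivial B.gen P fun g c => mem_fx.2 fun x hx =>
        hfix x (mem_stabilizer_iff.2 (mem_fx.1 ha x hx)) _
      exact hba (ht.symm.trans (hfree t a))
  have hLn : L.Normal := Subgroup.normalizer_eq_top_iff.1 hNtop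
  have hfix : ∀ g ∈ L, ∀ c : Ω, g • c = c := fun g hg c => by
    obtain ⟨k, rfl⟩ := MulAction.exists_smul_eq G a c
    have := mem_st_iff_stab (hLn.conj_mem g hg k⁻¹)
    rw [inv_inv, mul_smul, mul_smul, inv_smul_eq_iff] at this
    exact this
  have hfree := trivial_of_sylow_trivial B.gen P fun g c => mem_fx.2 fun x hx =>
    hfix x (le_st ha hx) _
  exact hba (ht.symm.trans (hfree t a))

section part

variable [Fact p.Prime] (B : Base p G Ω) (P : Sylow p G) {a : Ω}
  (ha : a ∈ fx (P : Subgroup G) Ω) {b : Ω} (hba : b ≠ a)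

include B P ha hba

omit B P ha in
theorem a_notMem : a ∉ orbit (st p G a) b := by
  rintro ⟨g, hg⟩
  have : (g : G) • a = a := mem_st_iff_stab g.2
  exact hba (MulAction.injective (g : G) (hg.trans this.symm))

theorem two_le_part : 2 ≤ (orbit (st p G a) b).ncard := by
  obtain ⟨g, hg, hgb⟩ := exists_moved B P ha hba
  refine (Set.one_lt_ncard (Set.toFinite _)).2 ⟨g • b, ⟨⟨g, hg⟩, rfl⟩, b, mem_orbit_self b, hgb⟩

omit B P ha in
theorem part_lt : (orbit (st p G a) b).ncard < Nat.card Ω := by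
  rw [← Set.ncard_univ]
  exact Set.ncard_lt_ncard (Set.ssubset_univ_iff.2 fun e =>
    a_notMem (p := p) (G := G) hba (e ▸ Set.mem_univ a))

omit B hba in
theorem part_smul_mem {x : G} (hx : x ∈ (P : Subgroup G)) {c : Ω}
    (hc : c ∈ orbit (st p G a) b) : x • c ∈ orbit (st p G a) b :=
  orbit_smul_mem (le_st ha hx) hc

omit B hba in
theorem part_card : (orbit (st p G a) b).ncard =
    fO (P : Subgroup G) (orbit (st p G a) b) + p * qO p (P : Subgroup G) (orbit (st p G a) b) :=
  ncard_eq_fixed_add P.isPGroup' fun _ hx _ hc => part_smul_mem P ha hx hc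

theorem part_bnd : fO (P : Subgroup G) (orbit (st p G a) b) ≤
    (p - 1) * qO p (P : Subgroup G) (orbit (st p G a) b) :=
  (bnd_orbit B.ih P (stabilizer G a) (le_st ha) b (two_le_part B P ha hba)
    (part_lt hba)).1

theorem part_good (hf : 0 < fO (P : Subgroup G) (orbit (st p G a) b))
    (hres : ∀ i, i < sO p (P : Subgroup G) (orbit (st p G a) b) →
      ¬ p ∣ qO p (P : Subgroup G) (orbit (st p G a) b) + i) :
    GoodOn p (st p G a) (fx (P : Subgroup G) Ω) (orbit (st p G a) b) :=
  (bnd_orbit B.ih P (stabilizer G a) (le_st ha) b (two_le_part B P ha hba)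
    (part_lt hba)).2 hf hres

theorem qO_pos : 0 < qO p (P : Subgroup G) (orbit (st p G a) b) := by
  have h1 := two_le_part B P ha hba
  have h2 := part_bnd B P ha hba
  have h3 := part_card P (b := b) ha
  by_contra h
  simp only [not_lt, nonpos_iff_eq_zero] at h
  rw [h] at h2 h3
  omega

omit B hba in
theorem part_not_dvd (hf : 0 < fO (P : Subgroup G) (orbit (st p G a) b)) :
    ¬ p ∣ (orbit (st p G a) b).ncard := by
  obtain ⟨c, hc⟩ := (Set.ncard_pos (Set.toFinite _)).1 hf
  exact not_dvd_of_fixed P (le_st ha) hc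

end part

/-- The set of parts at `a`. -/
noncomputable def parts (p : ℕ) (G : Type u) [Group G] [MulAction G Ω] (a : Ω) : Finset (Set Ω) :=
  (Set.toFinite ((fun b => orbit (st p G a) b) '' {a}ᶜ)).toFinset

omit [Finite G] in
theorem mem_parts {a : Ω} {O : Set Ω} :
    O ∈ parts p G a ↔ ∃ b, b ≠ a ∧ orbit (st p G a) b = O := by
  simp [parts]

theorem mem_parts_orbit {a b : Ω} (hba : b ≠ a) : orbit (st p G a) b ∈ parts p G a :=
  mem_parts.2 ⟨b, hba, rfl⟩

theorem sum_inter (p : ℕ) [Fact p.Prime] {a : Ω} (S : Set Ω) :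
    ∑ O ∈ parts p G a, (S ∩ O).ncard = (S \ {a}).ncard := by
  classical
  haveI := Fintype.ofFinite Ω
  rw [Set.ncard_eq_toFinset_card' (S \ {a}),
    Finset.card_eq_sum_card_fiberwise (f := fun b => orbit (st p G a) b) (t := parts p G a)]
  · refine Finset.sum_congr rfl fun O hO => ?_
    obtain ⟨b, hba, rfl⟩ := mem_parts.1 hO
    rw [Set.ncard_eq_toFinset_card']
    congr 1
    ext c
    simp only [Set.mem_toFinset, Set.mem_inter_iff, Finset.mem_filter, Set.mem_diff,
      Set.mem_singleton_iff]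
    constructor
    · rintro ⟨hcS, hc⟩
      exact ⟨⟨hcS, fun e => a_notMem (p := p) (G := G) hba (e ▸ hc)⟩, orbit_eq_iff.2 hc⟩
    · rintro ⟨⟨hcS, -⟩, e⟩
      exact ⟨hcS, e ▸ mem_orbit_self c⟩
  · intro c hc
    simp only [Finset.mem_coe, Set.mem_toFinset, Set.mem_diff, Set.mem_singleton_iff] at hc ⊢
    exact mem_parts.2 ⟨c, hc.2, rfl⟩

section sums

variable [Fact p.Prime] (B : Base p G Ω) (P : Sylow p G) {a : Ω}
  (ha : a ∈ fx (P : Subgroup G) Ω)

include P ha

theorem sum_fO : ∑ O ∈ parts p G a, fO (P : Subgroup G) O + 1 = (fx (P : Subgroup G) Ω).ncard := by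
  simp only [fO]
  rw [sum_inter]
  exact Set.ncard_sdiff_singleton_add_one ha

theorem sum_qO : ∑ O ∈ parts p G a, qO p (P : Subgroup G) O =
    (Nat.card Ω - (fx (P : Subgroup G) Ω).ncard) / p := by
  have h1 : ∑ O ∈ parts p G a, O.ncard + 1 = Nat.card Ω := by
    have h := sum_inter (G := G) p (a := a) (Set.univ : Set Ω)
    simp only [Set.univ_inter] at h
    rw [h, Set.ncard_sdiff_singleton_add_one (Set.mem_univ a), Set.ncard_univ]
  have h2 : ∑ O ∈ parts p G a, O.ncard = ∑ O ∈ parts p G a, fO (P : Subgroup G) O +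
      p * ∑ O ∈ parts p G a, qO p (P : Subgroup G) O := by
    rw [Finset.mul_sum, ← Finset.sum_add_distrib]
    refine Finset.sum_congr rfl fun O hO => ?_
    obtain ⟨b, hba, rfl⟩ := mem_parts.1 hO
    exact part_card P ha
  have h3 := sum_fO P ha
  have h4 : Nat.card Ω - (fx (P : Subgroup G) Ω).ncard =
      p * ∑ O ∈ parts p G a, qO p (P : Subgroup G) O := by omega
  rw [h4, Nat.mul_div_cancel_left _ (Fact.out : p.Prime).pos]

include B

theorem fx_le : (fx (P : Subgroup G) Ω).ncard ≤
    (p - 1) * ((Nat.card Ω - (fx (P : Subgroup G) Ω).ncard) / p) + 1 := by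
  rw [← sum_qO P ha, Finset.mul_sum]
  conv_lhs => rw [← sum_fO P ha]
  refine Nat.add_le_add_right (Finset.sum_le_sum fun O hO => ?_) 1
  obtain ⟨b, hba, rfl⟩ := mem_parts.1 hO
  exact part_bnd B P ha hba

theorem sum_sO : ∑ O ∈ parts p G a, sO p (P : Subgroup G) O + (fx (P : Subgroup G) Ω).ncard =
    (p - 1) * ((Nat.card Ω - (fx (P : Subgroup G) Ω).ncard) / p) + 1 := by
  rw [← sum_qO P ha, Finset.mul_sum]
  conv_lhs => rw [← sum_fO P ha, ← add_assoc, ← Finset.sum_add_distrib]
  congr 1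
  refine Finset.sum_congr rfl fun O hO => ?_
  obtain ⟨b, hba, rfl⟩ := mem_parts.1 hO
  have := part_bnd B P ha hba
  simp only [sO]
  omega

end sums

/-- The hypotheses whose inconsistency is to be shown. -/
structure Crit (p : ℕ) {G : Type u} [Group G] (Ω : Type v) [MulAction G Ω] (P : Sylow p G) : Prop
    extends Base p G Ω where
  q2 : 2 ≤ (Nat.card Ω - (fx (P : Subgroup G) Ω).ncard) / p
  tau : (p - 1) * ((Nat.card Ω - (fx (P : Subgroup G) Ω).ncard) / p) + 2 ≤
    p + (fx (P : Subgroup G) Ω).ncard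
  res : ∀ i, i + (fx (P : Subgroup G) Ω).ncard <
      (p - 1) * ((Nat.card Ω - (fx (P : Subgroup G) Ω).ncard) / p) + 1 →
    ¬ p ∣ (Nat.card Ω - (fx (P : Subgroup G) Ω).ncard) / p + i

theorem sO_le [Fact p.Prime] {P : Sylow p G} (C : Crit p Ω P) {a b : Ω}
    (ha : a ∈ fx (P : Subgroup G) Ω) (hba : b ≠ a) :
    sO p (P : Subgroup G) (orbit (st p G a) b) ≤ p - 1 := by
  have h1 := sum_sO C.toBase P ha
  have h2 := C.tau
  have h3 : sO p (P : Subgroup G) (orbit (st p G a) b) ≤
      ∑ O ∈ parts p G a, sO p (P : Subgroup G) O :=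
    Finset.single_le_sum (f := fun O => sO p (P : Subgroup G) O) (fun _ _ => Nat.zero_le _)
      (mem_parts_orbit hba)
  omega

/-- Saturation of the block systems inside a part. -/
theorem part_sat [Fact p.Prime] {P : Sylow p G} (C : Crit p Ω P) {a b : Ω}
    (ha : a ∈ fx (P : Subgroup G) Ω) (hba : b ≠ a) {D : Set Ω}
    (hD : D ⊆ orbit (st p G a) b) {c : Ω} (hcD : c ∈ D) (hcF : c ∈ fx (P : Subgroup G) Ω)
    (hblk : ∀ h ∈ st p G a, h • D = D ∨ Disjoint (h • D) D)
    (h2 : 2 ≤ D.ncard) (hne : D ≠ orbit (st p G a) b) :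
    let O := orbit (st p G a) b
    let F := fx (P : Subgroup G) Ω
    (∀ h ∈ st p G a, (∀ x ∈ (P : Subgroup G), x • (h • D) = h • D) → h • D ⊆ F) ∧
    ∃ fm qm : ℕ, fO (P : Subgroup G) O = D.ncard * fm ∧ qO p (P : Subgroup G) O = D.ncard * qm ∧
      fm ≤ (p - 1) * qm ∧
      ((∀ i, i < (p - 1) * qm - fm → ¬ p ∣ qm + i) → GoodOn p (st p G a) F O) := by
  intro O F
  set L := st p G a with hL
  set D' : Set O := Subtype.val ⁻¹' D with hD'
  have himg : Subtype.val '' D' = D := by
    rw [hD', Set.image_preimage_eq_inter_range, Subtype.range_coe, Set.inter_eq_left.2 hD]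
  have hsm : ∀ h : L, (Subtype.val : O → Ω) '' (h • D') = (h : G) • D := by
    intro h
    rw [← himg]
    ext x
    constructor
    · rintro ⟨_, ⟨z, hz, rfl⟩, rfl⟩
      exact ⟨z, ⟨z, hz, rfl⟩, rfl⟩
    · rintro ⟨_, ⟨z, hz, rfl⟩, rfl⟩
      exact ⟨h • z, ⟨z, hz, rfl⟩, rfl⟩
  have hB : IsBlock L D' := by
    rw [isBlock_iff_smul_eq_or_disjoint]
    intro h
    rcases hblk h h.2 with e | e
    · exact Or.inl (Set.image_injective.2 Subtype.val_injective (by rw [hsm, himg, e]))
    · refine Or.inr (Set.disjoint_left.2 fun z hz hz' => ?_)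
      have h1 : (z : Ω) ∈ Subtype.val '' (h • D') := ⟨z, hz, rfl⟩
      rw [hsm] at h1
      exact Set.disjoint_left.1 e h1 hz'

  set P' := P.subtype (le_st ha : (P : Subgroup G) ≤ L)
  have hmem : ∀ d : O, d ∈ fx (P' : Subgroup L) O ↔ (d : Ω) ∈ F := by
    intro d
    constructor
    · intro hd
      exact mem_fx.2 fun x hx => congrArg Subtype.val
        (hd ⟨⟨x, le_st ha hx⟩, by simpa [P', Subgroup.mem_subgroupOf] using hx⟩)
    · intro hd x
      exact Subtype.ext (mem_fx.1 hd ((x : L) : G) (by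
        have := x.2
        simpa [P', Subgroup.mem_subgroupOf] using this))
  have hc' : (⟨c, hD hcD⟩ : O) ∈ D' := hcD
  have hcardD : D'.ncard = D.ncard := by
    rw [← himg, Set.ncard_image_of_injective _ Subtype.val_injective]
  have hlt : D'.ncard < Nat.card O := by
    rw [hcardD, Nat.card_coe_set_eq]
    exact Set.ncard_lt_ncard (lt_of_le_of_ne hD hne)
  have IH' : Below.{u, v} p (Nat.card O) := fun G' Ω' _ _ _ _ Q h1 h2' h3 h4 =>
    C.ih G' Ω' Q h1 h2' h3 (h4.trans (by rw [Nat.card_coe_set_eq]; exact part_lt hba))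
  obtain ⟨fm, qm, l, e1, e2, e3, e4⟩ := block_count IH' (pgen_pcl (stabilizer G a)) P' hB hc'
    ((hmem _).2 hcF) (hcardD ▸ h2) hlt le_rfl
  have efO : (fx (P' : Subgroup L) O).ncard = fO (P : Subgroup G) O := by
    rw [← Set.ncard_image_of_injective _ Subtype.val_injective, fO]
    congr 1
    ext d
    simp only [Set.mem_image, Set.mem_inter_iff]
    exact ⟨fun ⟨z, hz, e⟩ => e ▸ ⟨(hmem z).1 hz, z.2⟩,
      fun ⟨hd, hdO⟩ => ⟨⟨d, hdO⟩, (hmem _).2 hd, rfl⟩⟩
  rw [efO, hcardD] at e1
  rw [efO, hcardD, Nat.card_coe_set_eq] at e2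
  change qO p (P : Subgroup G) O = D.ncard * qm + l at e2
  have hl : l = 0 := by
    have hs : sO p (P : Subgroup G) O ≤ p - 1 := sO_le C ha hba
    have hb : fO (P : Subgroup G) O ≤ (p - 1) * qO p (P : Subgroup G) O :=
      part_bnd C.toBase P ha hba
    simp only [sO] at hs
    have hp := (Fact.out : p.Prime).two_le
    by_contra hl0
    have h5 : D.ncard * fm ≤ D.ncard * ((p - 1) * qm) := Nat.mul_le_mul_left _ e3
    have h6 : (p - 1) * (D.ncard * qm + l) = D.ncard * ((p - 1) * qm) + (p - 1) * l := by ring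
    have h7 : p ≤ p * l := Nat.le_mul_of_pos_right p (Nat.pos_of_ne_zero hl0)
    have h8 : p - 1 ≤ (p - 1) * l := Nat.le_mul_of_pos_right _ (Nat.pos_of_ne_zero hl0)
    rw [e2, h6] at hs
    omega
  obtain ⟨e5, e6⟩ := e4 hl
  refine ⟨fun h hh hfix => ?_, fm, qm, by rw [← e1, hl]; ring, by rw [e2, hl]; ring, e3,
    fun hres => ?_⟩
  · have := e5 ⟨h, hh⟩ fun x hx => Set.image_injective.2 Subtype.val_injective (by
      rw [smul_smul, hsm, hsm]
      show ((x : G) * h) • D = h • D
      rw [mul_smul]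
      exact hfix _ (by simpa [P', Subgroup.mem_subgroupOf] using hx))
    rintro _ hd
    rw [show h • D = ((⟨h, hh⟩ : L) : G) • D from rfl, ← hsm] at hd
    obtain ⟨z, hz, rfl⟩ := hd
    exact (hmem z).1 (this hz)
  · have hg := e6 hres
    unfold GoodOn at hg ⊢
    refine lt_of_le_of_lt ?_ hg
    have hkey : ∀ z : O, key L F (z : Ω) =
        (fun x : L => (x : G)) '' key (⊤ : Subgroup L) (fx (P' : Subgroup L) O) z := by
      intro z
      ext g
      constructor
      · rintro ⟨hg, hgc⟩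
        exact ⟨⟨g, hg⟩, ⟨Subgroup.mem_top _, (hmem _).2 hgc⟩, rfl⟩
      · rintro ⟨x, ⟨-, hx⟩, rfl⟩
        exact ⟨x.2, (hmem _).1 hx⟩
    have : key L F '' O = (fun S : Set L => (fun x : L => (x : G)) '' S) ''
        (key (⊤ : Subgroup L) (fx (P' : Subgroup L) O) '' Set.univ) := by
      ext S
      simp only [Set.mem_image, Set.mem_univ, true_and]
      constructor
      · rintro ⟨z, hz, rfl⟩
        exact ⟨_, ⟨⟨z, hz⟩, rfl⟩, (hkey ⟨z, hz⟩).symm⟩
      · rintro ⟨S', ⟨z, rfl⟩, rfl⟩
        exact ⟨z, z.2, hkey z⟩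
    rw [this]
    exact Set.ncard_image_le

/-- The trace of `P` on a normal subgroup `N` of `L` is a Sylow subgroup of `N`. -/
theorem exists_sylow_inf [Fact p.Prime] (P : Sylow p G) {L N : Subgroup G}
    (hPL : (P : Subgroup G) ≤ L) (hN : N ≤ L) (hnorm : ∀ g ∈ L, ∀ x ∈ N, g * x * g⁻¹ ∈ N) :
    ∃ R : Sylow p N, (R : Subgroup N).map N.subtype = (P : Subgroup G) ⊓ N := by
  obtain ⟨R0, hR0⟩ := (P.isPGroup'.comap_subtype (K := N)).exists_le_sylow
  set M := (R0 : Subgroup N).map N.subtype with hM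
  have hMN : M ≤ N := Subgroup.map_subtype_le _
  have h1 : ((P : Subgroup G) ⊓ N) ≤ M := fun x hx => ⟨⟨x, hx.2⟩, hR0 hx.1, rfl⟩
  have hcard : Nat.card M ≤ Nat.card ((P : Subgroup G) ⊓ N : Subgroup G) := by
    obtain ⟨U, hU⟩ := ((R0.isPGroup'.map N.subtype).comap_subtype (K := L)).exists_le_sylow
    obtain ⟨t, ht⟩ := MulAction.exists_smul_eq L U (P.subtype hPL)
    have hsub : M.map (MulAut.conj (t : G)).toMonoidHom ≤ (P : Subgroup G) ⊓ N := by
      rintro _ ⟨x, hx, rfl⟩
      refine ⟨?_, hnorm t t.2 x (hMN hx)⟩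
      have h3 : t * (⟨x, hN (hMN hx)⟩ : L) * t⁻¹ ∈ (P.subtype hPL : Subgroup L) := by
        rw [← ht, Sylow.coe_subgroup_smul]
        exact ⟨_, hU hx, rfl⟩
      exact h3
    refine le_trans (le_of_eq ?_) (Subgroup.card_le_of_le hsub)
    exact (Subgroup.card_map_of_injective (MulAut.conj (t : G)).injective).symm
  exact ⟨R0, (Subgroup.eq_of_le_of_card_ge h1 hcard).symm⟩

/-- Every `p`-element of a normal subgroup is conjugate within it into `P`. -/
theorem exists_conj_mem [Fact p.Prime] (P : Sylow p G) {L N : Subgroup G}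
    (hPL : (P : Subgroup G) ≤ L) (hN : N ≤ L) (hnorm : ∀ g ∈ L, ∀ x ∈ N, g * x * g⁻¹ ∈ N)
    {g : G} (hg : g ∈ N) (hgp : IsPEl p g) :
    ∃ t ∈ N, t * g * t⁻¹ ∈ (P : Subgroup G) := by
  obtain ⟨R, hR⟩ : ∃ R : Sylow p N, (⟨g, hg⟩ : N) ∈ (R : Subgroup N) := by
    have hgN : IsPGroup p (Subgroup.zpowers (⟨g, hg⟩ : N)) := by
      refine isPEl_iff_mem.1 ?_
      obtain ⟨k, hk⟩ := hgp
      exact ⟨k, (Subgroup.orderOf_mk g hg).trans hk⟩
    obtain ⟨R, hR⟩ := hgN.exists_le_sylow
    exact ⟨R, hR (Subgroup.mem_zpowers _)⟩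
  obtain ⟨R0, hR0⟩ := exists_sylow_inf P hPL hN hnorm
  obtain ⟨t, ht⟩ := MulAction.exists_smul_eq N R R0
  refine ⟨t, t.2, ?_⟩
  have hmem : t * (⟨g, hg⟩ : N) * t⁻¹ ∈ (R0 : Subgroup N) := by
    rw [← ht, Sylow.coe_subgroup_smul]
    exact ⟨_, hR, rfl⟩
  have : (t : G) * g * (t : G)⁻¹ ∈ (P : Subgroup G) ⊓ N := hR0 ▸ ⟨_, hmem, rfl⟩
  exact this.1

/-- A normal subgroup generated by `p`-elements is trivial or transitive on each part. -/
theorem trivial_or_transitive [Fact p.Prime] {P : Sylow p G} (C : Crit p Ω P) {a b : Ω}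
    (ha : a ∈ fx (P : Subgroup G) Ω) (hba : b ≠ a) {N : Subgroup G} (hN : N ≤ st p G a)
    (hnorm : ∀ g ∈ st p G a, ∀ x ∈ N, g * x * g⁻¹ ∈ N) (hgen : pcl p N = N) :
    (∀ g ∈ N, ∀ c ∈ orbit (st p G a) b, g • c = c) ∨
      ∀ c ∈ orbit (st p G a) b, orbit N c = orbit (st p G a) b := by
  set L := st p G a with hL
  set O := orbit L b with hO
  have hp := (Fact.out : p.Prime).two_le
  have hsub : ∀ c ∈ O, orbit N c ⊆ O := fun c hc d ⟨g, hg⟩ =>
    hg ▸ orbit_smul_mem (hN g.2) hc
  have htrans : ∀ g ∈ L, ∀ c : Ω, g • orbit N c = orbit N (g • c) := by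
    intro g hg c
    ext d
    constructor
    · rintro ⟨_, ⟨n, rfl⟩, rfl⟩
      refine ⟨⟨g * n * g⁻¹, hnorm g hg n n.2⟩, ?_⟩
      show (g * (n : G) * g⁻¹) • g • c = g • (n : G) • c
      rw [smul_smul, smul_smul, inv_mul_cancel_right]
    · rintro ⟨n, rfl⟩
      refine ⟨(g⁻¹ * n * g) • c, ⟨⟨g⁻¹ * n * g, ?_⟩, rfl⟩, ?_⟩
      · have := hnorm g⁻¹ (inv_mem hg) n n.2
        rwa [inv_inv] at this
      · show g • (g⁻¹ * (n : G) * g) • c = (n : G) • g • c
        rw [smul_smul, smul_smul]
        group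
  by_cases hall : ∀ c ∈ O, orbit N c = O
  · exact Or.inr hall
  left
  push Not at hall
  obtain ⟨c0, hc0, hc0'⟩ := hall
  -- no orbit is the whole part
  have hnone : ∀ c ∈ O, orbit N c ≠ O := by
    intro c hc e
    obtain ⟨g, rfl⟩ : ∃ g : L, (g : G) • c = c0 := by
      obtain ⟨g, hg⟩ := (orbit_eq_iff.2 hc ▸ hc0 : c0 ∈ orbit L c)
      exact ⟨g, hg⟩
    refine hc0' ?_
    rw [← htrans g g.2, e]
    ext d
    exact ⟨fun ⟨z, hz, hd⟩ => hd ▸ orbit_smul_mem g.2 hz,
      fun hd => ⟨(g : G)⁻¹ • d, orbit_smul_mem (inv_mem g.2) hd, smul_inv_smul _ _⟩⟩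
  by_cases hf : 0 < fO (P : Subgroup G) O
  · obtain ⟨c, hcF, hcO⟩ := (Set.ncard_pos (Set.toFinite _)).1 hf
    by_cases h2 : 2 ≤ (orbit N c).ncard
    · -- saturation: every `p`-element of `N` fixes every orbit point-wise
      have hblk : ∀ h ∈ L, h • orbit N c = orbit N c ∨ Disjoint (h • orbit N c) (orbit N c) := by
        intro h hh
        rw [htrans h hh]
        exact MulAction.orbit.eq_or_disjoint _ _
      obtain ⟨hsat, -⟩ := part_sat C ha hba (hsub c hcO) (mem_orbit_self c) hcF hblk h2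
        (hnone c hcO)
      -- every orbit invariant under P is fixed pointwise
      have key : ∀ d ∈ O, (∀ x ∈ (P : Subgroup G), x • orbit N d = orbit N d) →
          ∀ x ∈ (P : Subgroup G), x • d = d := by
        intro d hd hfix
        obtain ⟨g, hg⟩ := (orbit_eq_iff.2 hcO ▸ hd : d ∈ orbit L c)
        have e : (g : G) • orbit N c = orbit N d := by rw [htrans g g.2]; exact congrArg _ hg
        have := hsat g g.2 (by rw [e]; exact hfix)
        rw [e] at this
        exact fun x hx => mem_fx.1 (this (mem_orbit_self d)) x hx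
      have hgens : ∀ g ∈ N, IsPEl p g → ∀ d ∈ orbit N c, g • d = d := by
        intro g hg hgp d hd
        obtain ⟨t, htN, htg⟩ := exists_conj_mem P (le_st ha) hN hnorm hg hgp
        have htd : t • d ∈ orbit N c := by
          obtain ⟨n, rfl⟩ := hd
          exact ⟨⟨t, htN⟩ * n, mul_smul t (n : G) c⟩
        have hstable : ∀ x ∈ (P : Subgroup G), x • orbit N (t • d) = orbit N (t • d) := by
          intro x hx
          rw [orbit_eq_iff.2 htd, htrans x (le_st ha hx), mem_fx.1 hcF x hx]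
        have := key _ (hsub c hcO htd) hstable _ htg
        rw [mul_smul, mul_smul, inv_smul_smul] at this
        exact MulAction.injective _ this
      -- so N fixes the orbit of c, which is then a point
      exfalso
      have hfixc : ∀ g ∈ N, g • c = c := by
        intro g hg
        rw [← hgen] at hg
        induction hg using Subgroup.closure_induction with
        | mem y hy => exact hgens y hy.1 hy.2 c (mem_orbit_self c)
        | one => exact one_smul G c
        | mul x y _ _ hx hy => rw [mul_smul, hy, hx]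
        | inv x _ hx => rw [inv_smul_eq_iff, hx]
      have : orbit N c = {c} := Set.eq_singleton_iff_unique_mem.2
        ⟨mem_orbit_self c, fun d ⟨g, hg⟩ => hg ▸ hfixc g g.2⟩
      rw [this, Set.ncard_singleton] at h2
      omega
    · -- the orbit of a fixed point is a point
      intro g hg d hd
      obtain ⟨t, ht⟩ := (orbit_eq_iff.2 hcO ▸ hd : d ∈ orbit L c)
      have hsing : (orbit N d).ncard ≤ 1 := by
        rw [show orbit N d = (t : G) • orbit N c by rw [htrans t t.2]; exact congrArg _ ht.symm,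
          Set.ncard_smul_set]
        omega
      exact (Set.ncard_le_one (Set.toFinite _)).1 hsing _ ⟨⟨g, hg⟩, rfl⟩ _ (mem_orbit_self d)
  · -- a part without fixed points has prime length
    intro g hg d hd
    have hq : qO p (P : Subgroup G) O = 1 := by
      have h1 : sO p (P : Subgroup G) O ≤ p - 1 := sO_le C ha hba
      have h2 : 0 < qO p (P : Subgroup G) O := qO_pos C.toBase P ha hba
      simp only [sO, show fO (P : Subgroup G) O = 0 by omega, Nat.sub_zero] at h1
      nlinarith [show 1 ≤ p - 1 by omega]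
    have hcard : O.ncard = p := by
      have h' : O.ncard = fO (P : Subgroup G) O + p * qO p (P : Subgroup G) O := part_card P ha
      rw [h', hq]
      omega
    let S : Set O := Subtype.val ⁻¹' orbit N d
    have hdvd : (orbit N d).ncard ∣ p := by
      have hB : IsBlock L S := by
        rw [isBlock_iff_smul_eq_or_disjoint]
        intro h
        rcases MulAction.orbit.eq_or_disjoint (G := N) ((h : G) • d) d with e | e
        · left
          ext z
          have hz : z ∈ h • S ↔ (z : Ω) ∈ (h : G) • orbit N d := by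
            rw [Set.mem_smul_set_iff_inv_smul_mem, Set.mem_smul_set_iff_inv_smul_mem]
            rfl
          rw [hz, htrans h h.2, e]
          rfl
        · right
          refine Set.disjoint_left.2 fun z hz hz' => Set.disjoint_left.1 e ?_ hz'
          rw [← htrans h h.2]
          rw [Set.mem_smul_set_iff_inv_smul_mem] at hz ⊢
          exact hz
      have h1 := hB.ncard_dvd_card ⟨⟨d, hd⟩, mem_orbit_self d⟩
      rwa [Nat.card_coe_set_eq, hcard, ← Set.ncard_image_of_injective S Subtype.val_injective,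
        Set.image_preimage_eq_inter_range, Subtype.range_coe,
        Set.inter_eq_left.2 (hsub d hd)] at h1
    rcases (Nat.dvd_prime Fact.out).1 hdvd with h1 | h1
    · exact (Set.ncard_le_one (Set.toFinite _)).1 h1.le _ ⟨⟨g, hg⟩, rfl⟩ _ (mem_orbit_self d)
    · exfalso
      exact hnone d hd (Set.eq_of_subset_of_ncard_le (hsub d hd) (by rw [h1, hcard]))

end Cfsg.Agent.Lead.FixBound
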