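import Cfsg.Agent.Lib.Lead.FixBound.OddRank
import Cfsg.Agent.Lib.Lead.FixBound.Alt

/-!
# Every part follows one alternating class action
-/

set_option autoImplicit false

namespace Cfsg.Agent.Lead.FixBound

open MulAction
open scoped Pointwise

universe u v

/-- The counting inequality excluding classes of two or more points. -/
theorem choose_contra {p v fm j m fm' qm : ℕ} (hp : 2 ≤ p) (hj : 2 ≤ j) (hjf : j ≤ fm)
    (hfmp : fm + 1 ≤ p) (hv : v = fm + p) (hm : m = v.choose j) (hf : fm' ≤ fm.choose j)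
    (hmm : m = fm' + p * qm) (hs : (p - 1) * qm ≤ fm' + (p - 1)) : False := by
  -- pairs through subsets
  have hA : v.choose j * j.choose 2 = v.choose 2 * (v - 2).choose (j - 2) :=
    Nat.choose_mul (by omega)
  have hB : fm.choose j * j.choose 2 = fm.choose 2 * (fm - 2).choose (j - 2) :=
    Nat.choose_mul (by omega)
  have hmono : (fm - 2).choose (j - 2) ≤ (v - 2).choose (j - 2) := Nat.choose_le_choose _ (by omega)
  have hpos : 0 < j.choose 2 := Nat.choose_pos hj
  -- `fm.choose j * v(v-1) ≤ v.choose j * fm(fm-1)`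
  have hC : fm.choose j * v.choose 2 ≤ v.choose j * fm.choose 2 := by
    refine Nat.le_of_mul_le_mul_right ?_ hpos
    calc fm.choose j * v.choose 2 * j.choose 2
        = v.choose 2 * (fm.choose 2 * (fm - 2).choose (j - 2)) := by rw [← hB]; ring
      _ ≤ v.choose 2 * (fm.choose 2 * (v - 2).choose (j - 2)) :=
          Nat.mul_le_mul_left _ (Nat.mul_le_mul_left _ hmono)
      _ = v.choose j * fm.choose 2 * j.choose 2 := by
          rw [show v.choose 2 * (fm.choose 2 * (v - 2).choose (j - 2)) =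
            fm.choose 2 * (v.choose 2 * (v - 2).choose (j - 2)) by ring, ← hA]
          ring
  have hge : v ≤ v.choose j := by
    have hj' : j ≤ v / 2 := by omega
    have key : ∀ i, 1 ≤ i → i ≤ v / 2 → v ≤ v.choose i := by
      intro i h1 h2
      induction i with
      | zero => omega
      | succ i ih =>
        rcases Nat.eq_zero_or_pos i with h | h
        · subst h; rw [Nat.choose_one_right]
        · exact (ih h (by omega)).trans (Nat.choose_le_succ_of_lt_half_left (by omega))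
    exact key j (by omega) hj'
  -- work with doubled binomials
  have e2 : ∀ k : ℕ, k.choose 2 * 2 = k * (k - 1) := fun k => by
    rw [Nat.choose_two_right, Nat.div_mul_cancel]
    rcases Nat.even_or_odd k with h | h
    · exact (even_iff_two_dvd.1 h).mul_right _
    · exact (even_iff_two_dvd.1 (Nat.Odd.sub_odd h odd_one)).mul_left _
  have hC' : fm' * (v * (v - 1)) ≤ m * (fm * (fm - 1)) := by
    calc fm' * (v * (v - 1)) ≤ fm.choose j * (v * (v - 1)) := Nat.mul_le_mul_right _ hf
      _ = fm.choose j * v.choose 2 * 2 := by rw [← e2]; ring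
      _ ≤ v.choose j * fm.choose 2 * 2 := Nat.mul_le_mul_right _ hC
      _ = m * (fm * (fm - 1)) := by rw [← e2, hm]; ring
  obtain ⟨P', rfl⟩ : ∃ k, p = k + 1 := ⟨p - 1, by omega⟩
  obtain ⟨f0, rfl⟩ : ∃ k, fm = k + 1 := ⟨fm - 1, by omega⟩
  subst hv
  simp only [Nat.add_sub_cancel] at hs hC'
  have hv1 : f0 + 1 + (P' + 1) - 1 = f0 + 1 + P' := by omega
  rw [hv1] at hC'
  have h1 : P' * m ≤ (2 * P' + 1) * fm' + (P' + 1) * P' := by
    rw [hmm]
    nlinarith [Nat.mul_le_mul_left (P' + 1) hs]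
  -- multiply by `v (v - 1)`
  have h2 : P' * m * ((f0 + 1 + (P' + 1)) * (f0 + 1 + P')) ≤
      (2 * P' + 1) * (m * ((f0 + 1) * f0)) +
        (P' + 1) * P' * ((f0 + 1 + (P' + 1)) * (f0 + 1 + P')) := by
    calc P' * m * ((f0 + 1 + (P' + 1)) * (f0 + 1 + P'))
        ≤ ((2 * P' + 1) * fm' + (P' + 1) * P') * ((f0 + 1 + (P' + 1)) * (f0 + 1 + P')) :=
          Nat.mul_le_mul_right _ h1
      _ = (2 * P' + 1) * (fm' * ((f0 + 1 + (P' + 1)) * (f0 + 1 + P'))) +
          (P' + 1) * P' * ((f0 + 1 + (P' + 1)) * (f0 + 1 + P')) := by ring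
      _ ≤ _ := Nat.add_le_add_right (Nat.mul_le_mul_left _ hC') _
  have h3 : (2 * P' + 1) * (f0 + 1) ≤ P' * (f0 + 1 + (P' + 1)) := by nlinarith
  have h4 : (2 * P' + 1) * (m * ((f0 + 1) * f0)) ≤ P' * (f0 + 1 + (P' + 1)) * (m * f0) := by
    calc (2 * P' + 1) * (m * ((f0 + 1) * f0)) = (2 * P' + 1) * (f0 + 1) * (m * f0) := by ring
      _ ≤ _ := Nat.mul_le_mul_right _ h3
  have hmv : f0 + 1 + (P' + 1) ≤ m := hm ▸ hge
  have hP : 0 < P' := by omega
  have h5 : P' * (f0 + 1 + (P' + 1)) * ((P' + 1) * m) ≤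
      P' * (f0 + 1 + (P' + 1)) * ((P' + 1) * (f0 + 1 + P')) := by nlinarith
  have h6 := Nat.le_of_mul_le_mul_left (Nat.le_of_mul_le_mul_left h5 (Nat.mul_pos hP (by omega)))
    (Nat.succ_pos P')
  omega

variable {p : ℕ} {G : Type u} [Group G] {Ω : Type v} [MulAction G Ω]
variable [Finite G] [Finite Ω] [Fact p.Prime] {P : Sylow p G}

/-- `d` is fixed by every Sylow subgroup fixing `a` and `b`. -/
def Rel (p : ℕ) (G : Type u) [Group G] [MulAction G Ω] (a b d : Ω) : Prop :=
  ∀ Q : Sylow p G, a ∈ fx (Q : Subgroup G) Ω → b ∈ fx (Q : Subgroup G) Ω →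
    d ∈ fx (Q : Subgroup G) Ω

set_option maxHeartbeats 1600000 in
/-- The class map and its properties. -/
theorem lines_facts (C : Crit p Ω P) (hp2 : p ≠ 2) {a i : Ω} (ha : a ∈ fx (P : Subgroup G) Ω)
    (hi : i ≠ a) (hbig : BigP p (P : Subgroup G) a (orbit (st p G a) i))
    (hcase : p + 3 ≤ Nat.card (Dl p (P : Subgroup G) a i) ∨
      (p = 3 ∧ Nat.card (Dl p (P : Subgroup G) a i) = 5)) :
    (∀ b ∈ fx (P : Subgroup G) Ω, ∀ d ∈ fx (P : Subgroup G) Ω, b ≠ a → d ≠ a →
      Rel p G a b d → Rel p G a d b) ∧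
    (∀ b ∈ fx (P : Subgroup G) Ω, ∀ c ∈ fx (P : Subgroup G) Ω, ∀ d ∈ fx (P : Subgroup G) Ω,
      b ≠ a → c ≠ a → d ≠ a → ¬ Rel p G a b c → ¬ Rel p G a b d → ¬ Rel p G a c d →
      ∃ Q : Sylow p G, a ∈ fx (Q : Subgroup G) Ω ∧ b ∈ fx (Q : Subgroup G) Ω ∧
        c ∈ fx (Q : Subgroup G) Ω ∧ d ∉ fx (Q : Subgroup G) Ω) ∧
    (∃ b ∈ fx (P : Subgroup G) Ω, ∃ d ∈ fx (P : Subgroup G) Ω, ∃ c ∈ fx (P : Subgroup G) Ω,
      b ≠ a ∧ d ≠ a ∧ c ≠ a ∧ b ≠ d ∧ Rel p G a b d ∧ ¬ Rel p G a b c) := by
  classical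
  have hp := (Fact.out : p.Prime).two_le
  set F := fx (P : Subgroup G) Ω with hF
  set L := st p G a with hL
  set Δ := Dl p (P : Subgroup G) a i with hΔ
  haveI : Fintype Δ := Fintype.ofFinite _
  haveI := pretransitive_Dl (P := P) (p := p) (a := a) (b := i)
  obtain ⟨β, fm, hβ, hfm1, hfmp, hfi, hqi, hv⟩ := card_Dl C ha hi hbig.1
  have hfm2 : 2 ≤ fm := by
    have h := hbig.2
    have hfi' : fO (P : Subgroup G) (orbit (st p G a) i) = β * fm := hfi
    have hqi' : qO p (P : Subgroup G) (orbit (st p G a) i) = β := hqi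
    rw [hfi', hqi'] at h
    by_contra hh
    rw [show fm = 1 by omega, mul_one] at h
    omega
  have hvF : Fintype.card Δ = fm + p := by rw [← Nat.card_eq_fintype_card]; exact hv
  set φ := MulAction.toPermHom L Δ with hφ
  have hrank := rank_one C hp2 ha
  -- `P` on the classes
  obtain ⟨x, hxP, hxn⟩ := exists_moved_point C ha hi
  have hx1 : x ≠ 1 := fun e => hxn (e ▸ Triv.one _)
  set X : L := ⟨x, le_st ha hxP⟩ with hX
  have hNN := NN_bot C hp2 ha
  have hgx1 : φ X ≠ 1 := fun e => hxn ((cls_moved_iff C ha hi hbig.1 hxP).2 fun δ =>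
    Equiv.ext_iff.1 e δ)
  have hgxo : orderOf (φ X) = p := by
    refine orderOf_eq_prime ?_ hgx1
    rw [← map_pow, show X ^ p = 1 from Subtype.ext (pow_p_eq_one C ha hNN hxP), map_one]
  have hPcyc : ∀ y ∈ (P : Subgroup G), ∃ k : ℕ, y = x ^ k := by
    intro y hy
    obtain ⟨k, -, hk⟩ := good_cyclic C ha hi hbig.1 hxP hy hxn
    refine ⟨k, ?_⟩
    by_contra hne
    exact hrank _ (mul_mem (inv_mem (pow_mem hxP k)) hy)
      (fun e => hne (inv_mul_eq_one.1 e).symm) i hi hk
  set Fδ : Set Δ := {δ | ∀ y : L, (y : G) ∈ (P : Subgroup G) → y • δ = δ} with hFδ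
  have hFδcard : Fδ.ncard = fm := by
    have h := fixed_cls_card C ha hi hbig.1
    rw [show qO p (P : Subgroup G) (orbit (st p G a) i) = β from hqi,
      show fO (P : Subgroup G) (orbit (st p G a) i) = β * fm from hfi, mul_comm β fm] at h
    exact Nat.eq_of_mul_eq_mul_right hβ h
  have hFδ' : ∀ δ : Δ, δ ∈ Fδ ↔ X • δ = δ := by
    intro δ
    refine ⟨fun h => h X hxP, fun h y hy => ?_⟩
    obtain ⟨k, hk⟩ := hPcyc y hy
    rw [show y = X ^ k from Subtype.ext hk]
    exact smul_eq_self_of_mem_zpowers (pow_mem (Subgroup.mem_zpowers X) k) h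
  -- the image is alternating
  have heven : ∀ g ∈ L, ∀ h : g ∈ L, φ ⟨g, h⟩ ∈ alternatingGroup Δ := by
    intro g hg
    induction hg using Subgroup.closure_induction with
    | mem y hy =>
      intro h
      refine Equiv.Perm.mem_alternatingGroup.2 (sign_eq_one_of_odd fun h2 => ?_)
      obtain ⟨k, hk⟩ := hy.2
      have h3 : orderOf (φ ⟨y, h⟩) ∣ p ^ k :=
        (orderOf_map_dvd φ _).trans (by rw [Subgroup.orderOf_mk, hk])
      exact hp2 ((Nat.prime_dvd_prime_iff_eq Nat.prime_two Fact.out).1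
        (Nat.prime_two.dvd_of_dvd_pow (h2.trans h3))).symm
    | one => intro h; rw [show (⟨1, h⟩ : L) = 1 from rfl, map_one]; exact one_mem _
    | mul u w hu hw hu' hw' =>
      intro h
      rw [show (⟨u * w, h⟩ : L) = ⟨u, hu⟩ * ⟨w, hw⟩ from rfl, map_mul]
      exact mul_mem (hu' hu) (hw' hw)
    | inv u hu hu' =>
      intro h
      rw [show (⟨u⁻¹, h⟩ : L) = (⟨u, hu⟩ : L)⁻¹ from rfl, map_inv]
      exact inv_mem (hu' hu)
  have hrange_le : φ.range ≤ alternatingGroup Δ := by
    rintro _ ⟨g, rfl⟩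
    exact heven g g.2 g.2
  have hcase' : p + 3 ≤ Fintype.card Δ ∨ (p = 3 ∧ Fintype.card Δ = 5) := by
    rwa [← Nat.card_eq_fintype_card]
  have hX' : φ.range = alternatingGroup Δ := by
    haveI : IsPretransitive φ.range Δ := ⟨fun u w => by
      obtain ⟨g, hg⟩ := MulAction.exists_smul_eq L u w
      exact ⟨⟨φ g, g, rfl⟩, hg⟩⟩
    exact eq_alt φ.range hrange_le (by rw [hvF]; omega) ⟨X, rfl⟩ hgxo hcase'
  haveI := alternatingGroup.isMultiplyPretransitive (α := Δ)
  have hmove : ∀ k : ℕ, k + 2 ≤ Fintype.card Δ → ∀ s t : Fin k ↪ Δ, ∃ g : L, ∀ z, g • s z = t z := by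
    intro k hk s t
    haveI : IsMultiplyPretransitive (alternatingGroup Δ) Δ k :=
      MulAction.isMultiplyPretransitive_of_le (n := Nat.card Δ - 2)
        (by rw [Nat.card_eq_fintype_card]; omega) (by omega)
    obtain ⟨h, hh⟩ := MulAction.exists_smul_eq (alternatingGroup Δ) s t
    have hmem : (h : Equiv.Perm Δ) ∈ φ.range := by rw [hX']; exact h.2
    obtain ⟨g, hg⟩ := hmem
    refine ⟨g, fun z => ?_⟩
    have e := congrArg (fun f : Fin k ↪ Δ => f z) hh
    simp only [Function.Embedding.smul_apply] at e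
    rw [← e]
    show φ g (s z) = _
    rw [hg]
    rfl
  -- the kernel on classes
  set Kg : Subgroup G := φ.ker.map L.subtype with hKg
  have hKgL : Kg ≤ L := Subgroup.map_subtype_le _
  have hKgn : ∀ g ∈ L, ∀ z ∈ Kg, g * z * g⁻¹ ∈ Kg := by
    intro g hg z hz
    obtain ⟨z, hz, rfl⟩ := hz
    exact ⟨⟨g, hg⟩ * z * ⟨g, hg⟩⁻¹, (MonoidHom.normal_ker φ).conj_mem z hz ⟨g, hg⟩, rfl⟩
  have hKgp : ¬ p ∣ Nat.card Kg := by
    intro hd
    obtain ⟨⟨z, hz⟩, hzo⟩ := exists_prime_orderOf_dvd_card' p hd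
    have hzo' : orderOf z = p := (Subgroup.orderOf_mk _ _).symm.trans hzo
    obtain ⟨t, ht, htz⟩ := exists_conj_mem P (le_st ha) hKgL hKgn hz ⟨1, by rw [hzo', pow_one]⟩
    obtain ⟨w, hw, hwe⟩ := Kg.mul_mem (Kg.mul_mem ht hz) (Kg.inv_mem ht)
    have htriv : Triv (orbit (st p G a) i) (t * z * t⁻¹) :=
      (cls_moved_iff C ha hi hbig.1 htz).2 fun δ => by
        rw [show (⟨t * z * t⁻¹, le_st ha htz⟩ : L) = w from Subtype.ext hwe.symm]
        exact Equiv.ext_iff.1 (MonoidHom.mem_ker.1 hw) δ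
    have h1 : t * z * t⁻¹ = 1 := by
      by_contra hne
      exact hrank _ htz hne i hi htriv
    rw [conj_eq_one_iff] at h1
    rw [h1, orderOf_one] at hzo'
    omega
  -- on each part a map to classes
  have hpart : ∀ b, b ≠ a → ∃ σ : Ω → Δ,
      (∀ d ∈ orbit L b, ∀ g : L, σ ((g : G) • d) = g • σ d) ∧
      (∀ d ∈ orbit L b, σ d ∈ Fδ → d ∈ F) ∧
      fO (P : Subgroup G) (orbit L b) = qO p (P : Subgroup G) (orbit L b) * fm := by
    intro b hb
    set O := orbit L b with hO
    have hf : 0 < fO (P : Subgroup G) O := fO_pos C hp2 ha hb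
    obtain ⟨c0, hc0F, hc0O⟩ := (Set.ncard_pos (Set.toFinite _)).1 hf
    have hOL : ∀ g : L, ∀ d ∈ O, (g : G) • d ∈ O := fun g d hd => orbit_smul_mem g.2 hd
    have hcardO : O.ncard = fO (P : Subgroup G) O + p * qO p (P : Subgroup G) O := part_card P ha
    have hqpos : 0 < qO p (P : Subgroup G) O := qO_pos C.toBase P ha hb
    have hsO : sO p (P : Subgroup G) O ≤ p - 1 := sO_le C ha hb
    -- the kernel is not transitive
    have hKint : orbit Kg c0 ≠ O := by
      intro hK0
      have hnormK : (P : Subgroup G) ≤ Subgroup.normalizer (Kg : Set G) := by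
        intro z hz
        rw [Subgroup.mem_normalizer_iff]
        intro w
        constructor
        · exact fun hw => hKgn z (le_st ha hz) w hw
        · intro hw
          have := hKgn _ (L.inv_mem (le_st ha hz)) _ hw
          rwa [show z⁻¹ * (z * w * z⁻¹) * z⁻¹⁻¹ = w by group] at this
      have hco : (Nat.card (P : Subgroup G)).Coprime (Nat.card Kg) := by
        obtain ⟨k, hk⟩ := IsPGroup.iff_card.1 P.isPGroup'
        rw [hk]
        exact ((Fact.out : p.Prime).coprime_iff_not_dvd.2 hKgp).pow_left k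
      have hdvd := fixed_dvd P.isPGroup' hnormK hco (mem_fx.1 hc0F)
      rw [hK0, show {d : Ω | ∀ x ∈ (P : Subgroup G), x • d = d} = F from
        Set.ext fun _ => mem_fx.symm] at hdvd
      change fO (P : Subgroup G) O ∣ O.ncard at hdvd
      have hnd : ¬ p ∣ fO (P : Subgroup G) O := fun h => by
        refine part_not_dvd P ha hf (b := b) ?_
        rw [show (orbit (st p G a) b).ncard = O.ncard from rfl, hcardO]
        exact Nat.dvd_add h ⟨_, rfl⟩
      have hfq : fO (P : Subgroup G) O ∣ qO p (P : Subgroup G) O := by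
        rw [hcardO, Nat.dvd_add_right (dvd_refl _)] at hdvd
        exact (Nat.Coprime.dvd_mul_left
          ((Fact.out : p.Prime).coprime_iff_not_dvd.2 hnd).symm).1 hdvd
      have hfle := Nat.le_of_dvd hqpos hfq
      have hsq : (p - 2) * qO p (P : Subgroup G) O ≤ sO p (P : Subgroup G) O := by
        simp only [sO]
        have e : (p - 1) * qO p (P : Subgroup G) O =
            (p - 2) * qO p (P : Subgroup G) O + qO p (P : Subgroup G) O := by
          rw [show p - 1 = p - 2 + 1 by omega, add_mul, one_mul]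
        omega
      have hq2 : qO p (P : Subgroup G) O ≤ 2 := by
        by_contra h
        have : (p - 2) * 3 ≤ (p - 2) * qO p (P : Subgroup G) O := Nat.mul_le_mul_left _ (by omega)
        omega
      -- the image on classes is a quotient of the image on the part
      set ψ := MulAction.toPermHom L O with hψ
      have hle : ψ.ker ≤ φ.ker := fun z hz => MonoidHom.mem_ker.2 (Equiv.ext fun δ => by
        by_contra h
        obtain ⟨y, hy, hyK, hyn⟩ := exists_moving C ha hi hbig inf_le_left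
          (fun g hg w hw => ker_normal hg hw)
          ⟨z, mem_ker.2 ⟨z.2, fun c hc =>
            congrArg Subtype.val (Equiv.ext_iff.1 (MonoidHom.mem_ker.1 hz) ⟨c, hc⟩)⟩, δ, h⟩
        exact hrank y hy (fun e => hyn (e ▸ Triv.one _)) b hb (mem_ker.1 hyK).2)
      have hdiv : Nat.card φ.range ∣ Nat.card ψ.range := by
        rw [← Subgroup.index_ker, ← Subgroup.index_ker]
        exact Subgroup.index_dvd_of_le hle
      haveI : Nontrivial Δ := Fintype.one_lt_card_iff_nontrivial.1 (by omega)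
      have hAcard := two_mul_card_alternatingGroup (α := Δ)
      rw [Fintype.card_perm, hvF, ← Nat.card_eq_fintype_card, ← hX'] at hAcard
      rcases Nat.lt_or_ge (qO p (P : Subgroup G) O) 2 with hq | hq
      · have hcardle : O.ncard ≤ p + 1 := by
          rw [hcardO, show qO p (P : Subgroup G) O = 1 by omega]; omega
        have h1 : Nat.card ψ.range ≤ (p + 1).factorial := by
          refine (Nat.le_of_dvd (Nat.card_pos) (Subgroup.card_subgroup_dvd_card ψ.range)).trans ?_
          rw [Nat.card_perm, Nat.card_coe_set_eq]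
          exact Nat.factorial_le hcardle
        have h2 := Nat.le_of_dvd Nat.card_pos hdiv
        rcases hcase' with h3 | ⟨h3, h5⟩
        · exact le_of_factorial_dvd (v := fm + p) (p := p) (by omega) (by omega)
        · subst h3
          rw [show fm + 3 = 5 by omega, show Nat.factorial 5 = 120 by norm_num [Nat.factorial]]
            at hAcard
          rw [show Nat.factorial (3 + 1) = 24 by norm_num [Nat.factorial]] at h1
          omega
      · have hq' : qO p (P : Subgroup G) O = 2 := by omega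
        have hp3 : p = 3 := by
          rw [hq'] at hsq
          have h4 : p ≠ 4 := fun h => by
            have := (Fact.out : p.Prime); rw [h] at this; norm_num at this
          omega
        subst hp3
        have hf2 : fO (P : Subgroup G) O = 2 := by
          simp only [sO, hq'] at hsO
          omega
        have hbad : ¬ GoodAt 3 (P : Subgroup G) a O := by
          intro hg
          rcases big_or_small hg with h | h
          · have := h.2
            omega
          · obtain ⟨y, hy, hyO, hyn⟩ := exists_sep_small C ha hi hb hbig h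
            exact hrank y hy (fun e => hyn (e ▸ Triv.one _)) b hb hyO
        have h5 : 5 ∣ Nat.card ψ.range := by
          refine dvd_trans ?_ hdiv
          have : fm = 2 := by omega
          subst this
          rw [show Nat.factorial (2 + 3) = 120 by norm_num [Nat.factorial]] at hAcard
          exact ⟨12, by omega⟩
        exact eight_false C ha hb hbad hf hf2 hq' (by rw [hcardO, hq', hf2]) hKgL hKgn hKgp hc0F
          hc0O hK0 h5
    -- the classes fixed together with a point
    let W : Ω → Set Δ := fun d => {δ | ∀ g : L, (g : G) • d = d → IsPEl p (g : G) → g • δ = δ}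
    have hW : ∀ (g : L) (d : Ω), W ((g : G) • d) = g • W d := by
      intro g d
      ext δ
      rw [Set.mem_smul_set_iff_inv_smul_mem]
      constructor
      · intro h k hk hkp
        have := h (g * k * g⁻¹) (by
          show ((g : G) * (k : G) * (g : G)⁻¹) • (g : G) • d = (g : G) • d
          rw [mul_smul, mul_smul, inv_smul_smul, hk]) (hkp.conj (g : G))
        rw [mul_smul, mul_smul, smul_eq_iff_eq_inv_smul] at this
        exact this
      · intro h k hk hkp
        have := h (g⁻¹ * k * g) (by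
          show ((g : G)⁻¹ * (k : G) * (g : G)) • d = d
          rw [mul_smul, mul_smul, hk, inv_smul_smul]) (by
            have e := hkp.conj ((g : G)⁻¹)
            rwa [inv_inv] at e)
        rw [mul_smul, mul_smul, smul_inv_smul, inv_smul_eq_iff, smul_inv_smul] at this
        exact this
    have hWF : ∀ d ∈ F, W d ⊆ Fδ := fun d hd δ hδ =>
      (hFδ' δ).2 (hδ X (mem_fx.1 hd x hxP) (isPEl_of_mem P.isPGroup' hxP))
    have hWne : (W c0).Nonempty := by
      by_contra hempty
      set Lc : Subgroup G := L ⊓ stabilizer G c0 with hLc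
      set Y : Subgroup (Equiv.Perm Δ) := ((pcl p Lc).subgroupOf L).map φ with hY
      have hxY : φ X ∈ Y := Subgroup.mem_map_of_mem φ (Subgroup.mem_subgroupOf.2
        (mem_pcl (Subgroup.mem_inf.2 ⟨le_st ha hxP, mem_fx.1 hc0F x hxP⟩)
          (isPEl_of_mem P.isPGroup' hxP)))
      by_cases htr : IsPretransitive Y Δ
      · have hYeq : Y = φ.range := by
          rw [hX']
          exact eq_alt Y ((Subgroup.map_le_range φ _).trans hrange_le) (by rw [hvF]; omega)
            hxY hgxo hcase'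
        refine hKint (Set.Subset.antisymm (fun d ⟨k, hk⟩ => hk ▸ orbit_smul_mem (hKgL k.2) hc0O) ?_)
        intro d hd
        obtain ⟨g, hg⟩ := (orbit_eq_iff.2 hc0O ▸ hd : d ∈ orbit L c0)
        have hmem : φ g ∈ Y := hYeq ▸ ⟨g, rfl⟩
        obtain ⟨y, hy, hye⟩ := hmem
        have hyc : (y : G) • c0 = c0 :=
          mem_stabilizer_iff.1 (Subgroup.mem_inf.1 (pcl_le _ (Subgroup.mem_subgroupOf.1 hy))).2
        have hk : g * y⁻¹ ∈ φ.ker := by
          rw [MonoidHom.mem_ker, map_mul, map_inv, hye, mul_inv_cancel]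
        refine ⟨⟨_, Subgroup.mem_map_of_mem L.subtype hk⟩, ?_⟩
        show ((g : G) * (y : G)⁻¹) • c0 = d
        rw [mul_smul, inv_smul_eq_iff.2 hyc.symm]
        exact hg
      · obtain ⟨δm, hδm⟩ : ∃ δ : Δ, X • δ ≠ δ := by
          by_contra h
          push Not at h
          exact hgx1 (Equiv.ext h)
        obtain ⟨δ, hδ⟩ : ∃ δ, δ ∉ orbit Y δm := by
          by_contra h
          push Not at h
          refine htr ⟨fun u w => ?_⟩
          obtain ⟨g, hg⟩ := orbit_eq_iff.2 (h u) ▸ h w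
          exact ⟨g, hg⟩
        refine hempty ⟨δ, fun g hg hgp => ?_⟩
        by_contra hgδ
        obtain ⟨t, ht, htg⟩ := exists_conj_mem P (L := Lc) (N := pcl p Lc)
          (fun z hz => Subgroup.mem_inf.2 ⟨le_st ha hz, mem_fx.1 hc0F z hz⟩) (pcl_le _)
          (fun z hz w hw => conj_mem_pcl (fun k hk => Lc.mul_mem (Lc.mul_mem hz hk) (Lc.inv_mem hz))
            hw) (mem_pcl (Subgroup.mem_inf.2 ⟨g.2, hg⟩) hgp) hgp
        set T : L := ⟨t, (Subgroup.mem_inf.1 (pcl_le _ ht)).1⟩ with hT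
        obtain ⟨k, hk⟩ := hPcyc _ htg
        have hk' : T * g * T⁻¹ = X ^ k := Subtype.ext hk
        have hmoved : X • T • δ ≠ T • δ := by
          intro h
          have h1 : (X ^ k) • T • δ = T • δ :=
            smul_eq_self_of_mem_zpowers (pow_mem (Subgroup.mem_zpowers X) k) h
          rw [← hk', mul_smul, mul_smul, inv_smul_smul] at h1
          exact hgδ (MulAction.injective T h1)
        have hcyc : (φ X).IsCycle := Equiv.Perm.isCycle_of_prime_order (hgxo.symm ▸ Fact.out)
          (lt_of_le_of_lt (Finset.card_le_univ _) (by rw [hgxo, hvF]; omega))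
        obtain ⟨m, hm⟩ := hcyc.exists_zpow_eq (x := δm) (y := T • δ) hδm hmoved
        refine hδ ⟨(⟨φ T, Subgroup.mem_map_of_mem φ (Subgroup.mem_subgroupOf.2 ht)⟩ : Y)⁻¹ *
          (⟨φ X, hxY⟩ : Y) ^ m, ?_⟩
        show ((φ T)⁻¹ * (φ X) ^ m) δm = δ
        rw [Equiv.Perm.mul_apply, hm]
        exact Equiv.Perm.inv_eq_iff_eq.2 rfl
    set j := (W c0).ncard with hj
    have hj1 : 1 ≤ j := (Set.ncard_pos (Set.toFinite _)).2 hWne
    have hjfm : j ≤ fm := hFδcard ▸ Set.ncard_le_ncard (hWF c0 hc0F) (Set.toFinite _)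
    -- the fibre through `c0`
    set D : Set Ω := {d | d ∈ O ∧ W d = W c0} with hD
    have hDblk : ∀ h ∈ L, h • D = D ∨ Disjoint (h • D) D := by
      intro h hh
      by_cases e : W (h • c0) = W c0
      · left
        ext d
        rw [Set.mem_smul_set_iff_inv_smul_mem]
        constructor
        · rintro ⟨hdO, hdW⟩
          refine ⟨by simpa using hOL ⟨h, hh⟩ _ hdO, ?_⟩
          rw [← smul_inv_smul h d, hW ⟨h, hh⟩, hdW, ← hW ⟨h, hh⟩, e]
        · rintro ⟨hdO, hdW⟩
          refine ⟨orbit_smul_mem (L.inv_mem hh) hdO, ?_⟩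
          have h1 : W (h⁻¹ • d) = (⟨h, hh⟩ : L)⁻¹ • W d := hW (⟨h, hh⟩ : L)⁻¹ d
          rw [h1, hdW, inv_smul_eq_iff]
          exact e.symm.trans (hW ⟨h, hh⟩ c0)
      · refine Or.inr (Set.disjoint_left.2 ?_)
        rintro _ ⟨d, ⟨_, hdW⟩, rfl⟩ ⟨_, hd'⟩
        refine e ?_
        calc W (h • c0) = (⟨h, hh⟩ : L) • W c0 := hW ⟨h, hh⟩ c0
          _ = (⟨h, hh⟩ : L) • W d := by rw [hdW]
          _ = W (h • d) := (hW ⟨h, hh⟩ d).symm
          _ = W c0 := hd'
    have hc0D : c0 ∈ D := ⟨hc0O, rfl⟩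
    have hDne : D ≠ O := by
      intro e
      obtain ⟨δ, hδ⟩ := hWne
      obtain ⟨δ', hδ'⟩ : ∃ δ', δ' ∉ W c0 := by
        by_contra h
        push Not at h
        have : Fintype.card Δ ≤ j := by
          rw [hj, Set.eq_univ_of_forall h, Set.ncard_univ, Nat.card_eq_fintype_card]
        omega
      obtain ⟨g, hg⟩ := MulAction.exists_smul_eq L δ δ'
      have h1 : (g : G) • c0 ∈ D := e.symm ▸ hOL g c0 hc0O
      have h2 : g • W c0 = W c0 := (hW g c0).symm.trans h1.2
      exact hδ' (h2 ▸ hg ▸ Set.smul_mem_smul_set hδ)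
    obtain ⟨fm', qm, e1, e2, e3, hsat⟩ : ∃ fm' qm : ℕ,
        fO (P : Subgroup G) O = D.ncard * fm' ∧ qO p (P : Subgroup G) O = D.ncard * qm ∧
        fm' ≤ (p - 1) * qm ∧ ∀ g : L, X • W ((g : G) • c0) = W ((g : G) • c0) →
          (g : G) • D ⊆ F := by
      have hXD : ∀ g : L, X • W ((g : G) • c0) = W ((g : G) • c0) → ∀ y ∈ (P : Subgroup G),
          y • ((g : G) • D) = (g : G) • D := by
        intro g hg y hy
        obtain ⟨k, rfl⟩ := hPcyc y hy
        have hfix : (X ^ k) • W ((g : G) • c0) = W ((g : G) • c0) :=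
          smul_eq_self_of_mem_zpowers (pow_mem (Subgroup.mem_zpowers X) k) hg
        have hh : W (((g⁻¹ * X ^ k * g : L) : G) • c0) = W c0 := by
          rw [hW, mul_smul, mul_smul, ← hW g, hfix, hW g, inv_smul_smul]
        have h1 : ((g⁻¹ * X ^ k * g : L) : G) • D = D :=
          (hDblk _ (g⁻¹ * X ^ k * g).2).resolve_right fun h =>
            Set.disjoint_left.1 h (Set.smul_mem_smul_set hc0D) ⟨hOL _ c0 hc0O, hh⟩
        calc (x ^ k) • ((g : G) • D) = (g : G) • ((g⁻¹ * X ^ k * g : L) : G) • D := by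
              rw [smul_smul, smul_smul]
              congr 1
              simp only [Subgroup.coe_mul, Subgroup.coe_inv, Subgroup.coe_pow, X]
              group
          _ = (g : G) • D := by rw [h1]
      by_cases h2 : 2 ≤ D.ncard
      · obtain ⟨hs, fm', qm, e1, e2, e3, -⟩ := part_sat C ha hb (fun d hd => hd.1) hc0D hc0F
          hDblk h2 hDne
        exact ⟨fm', qm, e1, e2, e3, fun g hg => hs g g.2 (hXD g hg)⟩
      · have hD1 : D.ncard = 1 := by
          have : 0 < D.ncard := (Set.ncard_pos (Set.toFinite _)).2 ⟨c0, hc0D⟩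
          omega
        refine ⟨_, _, by rw [hD1, one_mul], by rw [hD1, one_mul], part_bnd C.toBase P ha hb,
          fun g hg d hd => mem_fx.2 fun y hy => ?_⟩
        have h1 := hXD g hg y hy
        have h3 : y • d ∈ (g : G) • D := h1 ▸ Set.smul_mem_smul_set hd
        exact (Set.ncard_le_one (Set.toFinite _)).1 (by rw [Set.ncard_smul_set, hD1]) _ h3 _ hd
    -- the possible values of `W`
    have hWcard : ∀ d ∈ O, (W d).ncard = j := by
      intro d hd
      obtain ⟨g, hg⟩ := (orbit_eq_iff.2 hc0O ▸ hd : d ∈ orbit L c0)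
      rw [← show (g : G) • c0 = d from hg, hW, Set.ncard_smul_set]
    have himg : W '' O = {S : Set Δ | S.ncard = j} := by
      refine Set.Subset.antisymm ?_ fun S hS => ?_
      · rintro _ ⟨d, hd, rfl⟩; exact hWcard d hd
      · obtain ⟨s⟩ : Nonempty (Fin j ≃ W c0) := ⟨(Finite.equivFinOfCardEq (Nat.card_coe_set_eq _)).symm⟩
        obtain ⟨t⟩ : Nonempty (Fin j ≃ S) :=
          ⟨(Finite.equivFinOfCardEq ((Nat.card_coe_set_eq _).trans hS)).symm⟩
        obtain ⟨g, hg⟩ := hmove j (by omega) (s.toEmbedding.trans (Function.Embedding.subtype _))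
          (t.toEmbedding.trans (Function.Embedding.subtype _))
        refine ⟨(g : G) • c0, hOL g c0 hc0O, ?_⟩
        rw [hW]
        refine Set.eq_of_subset_of_ncard_le ?_ (by rw [Set.ncard_smul_set, show S.ncard = j from hS])
        rintro _ ⟨δ, hδ, rfl⟩
        show g • δ ∈ S
        have e := hg (s.symm ⟨δ, hδ⟩)
        simp only [Function.Embedding.trans_apply, Equiv.coe_toEmbedding,
          Equiv.apply_symm_apply, Function.Embedding.coe_subtype] at e
        rw [e]
        exact Subtype.prop _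
    have hcount : ∀ (T : Set Δ), {S : Set Δ | S.ncard = j ∧ S ⊆ T}.ncard = T.ncard.choose j := by
      intro T
      rw [← Set.ncard_powerset_ncard (Set.toFinite T)]
      congr 1
      ext S
      simp [and_comm]
    have hfib : ∀ S ∈ W '' O, {d | d ∈ O ∧ W d = S}.ncard = D.ncard := by
      rintro _ ⟨d, hd, rfl⟩
      obtain ⟨g, hg⟩ := (orbit_eq_iff.2 hc0O ▸ hd : d ∈ orbit L c0)
      have hg' : (g : G) • c0 = d := hg
      rw [← Set.ncard_smul_set (g : G) D]
      congr 1
      ext e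
      rw [Set.mem_smul_set_iff_inv_smul_mem]
      have hinv : W ((g : G)⁻¹ • e) = g⁻¹ • W e := hW g⁻¹ e
      constructor
      · rintro ⟨heO, heW⟩
        refine ⟨orbit_smul_mem (L.inv_mem g.2) heO, ?_⟩
        rw [hinv, heW, ← hg', hW, inv_smul_smul]
      · rintro ⟨heO, heW⟩
        refine ⟨by simpa using hOL g _ heO, ?_⟩
        rw [hinv, inv_smul_eq_iff] at heW
        rw [heW, ← hW, hg']
    have hsum : ∀ T : Set Ω, T ⊆ O → T.ncard ≤ (W '' T).ncard * D.ncard := by
      intro T hT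
      haveI : Fintype Ω := Fintype.ofFinite Ω
      rw [Set.ncard_eq_toFinset_card' T, Set.ncard_eq_toFinset_card' (W '' T),
        Finset.card_eq_sum_card_fiberwise (f := W) (t := (W '' T).toFinset)
          (fun c hc => by simp only [Finset.mem_coe, Set.mem_toFinset] at hc ⊢; exact ⟨c, hc, rfl⟩),
        ← smul_eq_mul, ← Finset.sum_const]
      refine Finset.sum_le_sum fun S hS => ?_
      obtain ⟨d, hd, rfl⟩ := Set.mem_toFinset.1 hS
      rw [← hfib _ ⟨d, hT hd, rfl⟩, ← Set.ncard_coe_finset]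
      refine Set.ncard_le_ncard ?_ (Set.toFinite _)
      intro e he
      simp only [Finset.coe_filter, Set.mem_ofPred_eq, Set.mem_toFinset] at he
      exact ⟨hT he.1, he.2⟩
    have hOeq : O.ncard = (W '' O).ncard * D.ncard := by
      haveI : Fintype Ω := Fintype.ofFinite Ω
      rw [Set.ncard_eq_toFinset_card' O, Set.ncard_eq_toFinset_card' (W '' O),
        Finset.card_eq_sum_card_fiberwise (f := W) (t := (W '' O).toFinset)
          (fun c hc => by simp only [Finset.mem_coe, Set.mem_toFinset] at hc ⊢; exact ⟨c, hc, rfl⟩),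
        ← smul_eq_mul, ← Finset.sum_const]
      refine Finset.sum_congr rfl fun S hS => ?_
      rw [← hfib S (Set.mem_toFinset.1 hS), ← Set.ncard_coe_finset]
      congr 1
      ext e
      simp [Finset.coe_filter]
    set m := (W '' O).ncard with hm
    have hDpos : 0 < D.ncard := (Set.ncard_pos (Set.toFinite _)).2 ⟨c0, hc0D⟩
    have hmm : m = fm' + p * qm := by
      refine Nat.eq_of_mul_eq_mul_right hDpos ?_
      rw [← hOeq, hcardO, e1, e2]; ring
    have hmv : m = (fm + p).choose j := by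
      rw [hm, himg, ← hvF, ← Nat.card_eq_fintype_card, ← Set.ncard_univ Δ, ← hcount Set.univ]
      congr 1
      ext S
      simp
    have hfm' : fm' ≤ fm.choose j := by
      refine Nat.le_of_mul_le_mul_right ?_ hDpos
      rw [mul_comm fm' D.ncard, ← e1]
      refine (hsum (F ∩ O) Set.inter_subset_right).trans (Nat.mul_le_mul_right _ ?_)
      rw [← hFδcard, ← hcount Fδ]
      refine Set.ncard_le_ncard ?_ (Set.toFinite _)
      rintro _ ⟨d, ⟨hdF, hdO⟩, rfl⟩
      exact ⟨hWcard d hdO, hWF d hdF⟩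
    have hj' : j = 1 := by
      by_contra hne
      refine choose_contra hp (j := j) (qm := qm) (by omega) hjfm hfmp rfl hmv hfm' hmm ?_
      simp only [sO] at hsO
      rw [e1, e2, show (p - 1) * (D.ncard * qm) = D.ncard * ((p - 1) * qm) by ring,
        ← Nat.mul_sub] at hsO
      have : (p - 1) * qm - fm' ≤ D.ncard * ((p - 1) * qm - fm') :=
        Nat.le_mul_of_pos_left _ hDpos
      omega
    rw [hj', Nat.choose_one_right] at hmv hfm'
    have hqm : qm = 1 ∧ fm' = fm := by
      rcases Nat.lt_or_ge qm 2 with h | h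
      · rcases Nat.eq_zero_or_pos qm with h' | h'
        · rw [h', mul_zero] at e2; omega
        · have : qm = 1 := by omega
          subst this
          omega
      · have : p * 2 ≤ p * qm := Nat.mul_le_mul_left _ h
        omega
    have hσex : ∀ d, ∃ δ : Δ, d ∈ O → W d = {δ} := by
      intro d
      by_cases hd : d ∈ O
      · obtain ⟨δ, hδ⟩ := Set.ncard_eq_one.1 ((hWcard d hd).trans hj')
        exact ⟨δ, fun _ => hδ⟩
      · obtain ⟨δ, hδ⟩ := hWne
        exact ⟨δ, fun h => absurd h hd⟩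
    choose σ hσ using hσex
    refine ⟨σ, fun d hd g => ?_, fun d hd hfix => ?_, by rw [e1, e2, hqm.1, hqm.2, mul_one]⟩
    · have h1 := hσ _ (hOL g d hd)
      rw [hW, hσ d hd, Set.smul_set_singleton] at h1
      exact (Set.singleton_injective h1).symm
    · obtain ⟨g, hg⟩ := (orbit_eq_iff.2 hc0O ▸ hd : d ∈ orbit L c0)
      have hg' : (g : G) • c0 = d := hg
      refine hsat g ?_ (hg' ▸ Set.smul_mem_smul_set hc0D)
      rw [hg', hσ d hd, Set.smul_set_singleton, (hFδ' _).1 hfix]
  -- glue the maps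
  haveI : Nonempty Δ := ⟨⟨_, i, mem_orbit_self i, rfl⟩⟩
  choose! σf h1 h2 h3 using hpart
  -- a representative for each part
  have hrep : ∀ O : Set Ω, ∃ b, (∃ b', b' ≠ a ∧ orbit L b' = O) → (b ≠ a ∧ orbit L b = O) := by
    intro O
    by_cases h : ∃ b', b' ≠ a ∧ orbit L b' = O
    · exact ⟨h.choose, fun _ => h.choose_spec⟩
    · exact ⟨a, fun h' => absurd h' h⟩
  choose rep hrep using hrep
  have hmemrep : ∀ d, d ≠ a → rep (orbit L d) ≠ a ∧ d ∈ orbit L (rep (orbit L d)) := by
    intro d hd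
    obtain ⟨r1, r2⟩ := hrep (orbit L d) ⟨d, hd, rfl⟩
    exact ⟨r1, r2.symm ▸ mem_orbit_self d⟩
  let σ : Ω → Δ := fun d => σf (rep (orbit L d)) d
  have hσeq : ∀ d, d ≠ a → ∀ g : L, σ ((g : G) • d) = g • σ d := by
    intro d hd g
    show σf (rep (orbit L ((g : G) • d))) _ = _
    rw [show orbit L ((g : G) • d) = orbit L d from orbit_eq_iff.2 ⟨g, rfl⟩]
    exact h1 _ (hmemrep d hd).1 d (hmemrep d hd).2 g
  have hσF : ∀ d, d ≠ a → (d ∈ F ↔ σ d ∈ Fδ) := by
    intro d hd
    refine ⟨fun h => ?_, h2 _ (hmemrep d hd).1 d (hmemrep d hd).2⟩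
    intro y hy
    rw [← hσeq d hd y, mem_fx.1 h _ hy]
  -- every Sylow subgroup at `a` is a translate of `P`
  have hQ : ∀ Q : Sylow p G, a ∈ fx (Q : Subgroup G) Ω → ∃ h : L, (h : G) • P = Q ∧
      ∀ d, d ≠ a → (d ∈ fx (Q : Subgroup G) Ω ↔ h⁻¹ • σ d ∈ Fδ) := by
    intro Q hQ
    obtain ⟨h, hh, rfl⟩ := exists_st_conj P Q ha hQ
    refine ⟨⟨h, hh⟩, rfl, fun d hd => ?_⟩
    rw [fx_smul, Set.mem_smul_set_iff_inv_smul_mem]
    have hne : h⁻¹ • d ≠ a := fun e => hd (by
      rw [inv_smul_eq_iff.1 e, mem_st_iff_stab hh])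
    rw [hσF _ hne, ← hσeq d hd (⟨h, hh⟩ : L)⁻¹]
    rfl
  have hhave : ∀ h : L, a ∈ fx (((h : G) • P : Sylow p G) : Subgroup G) Ω ∧
      ∀ d, d ≠ a → (d ∈ fx (((h : G) • P : Sylow p G) : Subgroup G) Ω ↔ h⁻¹ • σ d ∈ Fδ) := by
    intro h
    refine ⟨?_, fun d hd => ?_⟩
    · rw [fx_smul, Set.mem_smul_set_iff_inv_smul_mem, inv_smul_eq_iff.2 (mem_st_iff_stab h.2).symm]
      exact ha
    · rw [fx_smul, Set.mem_smul_set_iff_inv_smul_mem]
      have hne : (h : G)⁻¹ • d ≠ a := fun e => hd (by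
        rw [inv_smul_eq_iff.1 e, mem_st_iff_stab h.2])
      rw [hσF _ hne, ← hσeq d hd h⁻¹]
      rfl
  obtain ⟨φ1, hφ1, φ2, hφ2, hφne⟩ : ∃ u ∈ Fδ, ∃ w ∈ Fδ, u ≠ w :=
    (Set.one_lt_ncard (Set.toFinite _)).1 (by omega)
  obtain ⟨μ, hμ⟩ : ∃ δ : Δ, δ ∉ Fδ := by
    by_contra h
    push Not at h
    have : Fintype.card Δ ≤ fm := by
      rw [← hFδcard, Set.eq_univ_of_forall h, Set.ncard_univ, Nat.card_eq_fintype_card]
    omega
  have hsep : ∀ b d, b ≠ a → d ≠ a → (Rel p G a b d ↔ σ b = σ d) := by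
    intro b d hb hd
    constructor
    · intro hR
      by_contra hne
      obtain ⟨g, hg⟩ := hmove 2 (by omega)
        ⟨![φ1, μ], by
          intro z w h
          fin_cases z <;> fin_cases w <;> simp at h <;> first | rfl | skip
          · exact absurd (h ▸ hφ1) hμ
          · exact absurd (h.symm ▸ hφ1) hμ⟩
        ⟨![σ b, σ d], by
          intro z w h
          fin_cases z <;> fin_cases w <;> simp at h <;> first | rfl | skip
          · exact absurd h hne
          · exact absurd h.symm hne⟩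
      have g0 : g • φ1 = σ b := hg 0
      have g1 : g • μ = σ d := hg 1
      obtain ⟨hga, hgd⟩ := hhave g
      have := hR _ hga ((hgd b hb).2 (by rw [← g0, inv_smul_smul]; exact hφ1))
      rw [hgd d hd, ← g1, inv_smul_smul] at this
      exact hμ this
    · intro e Q hQa hQb
      obtain ⟨h, -, hh⟩ := hQ Q hQa
      rw [hh d hd, ← e, ← hh b hb]
      exact hQb
  refine ⟨fun b _ d _ hb hd h => (hsep d b hd hb).2 ((hsep b d hb hd).1 h).symm,
    fun b _ c _ d _ hb hc hd n1 n2 n3 => ?_, ?_⟩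
  · have e1 : σ b ≠ σ c := fun e => n1 ((hsep b c hb hc).2 e)
    have e2 : σ b ≠ σ d := fun e => n2 ((hsep b d hb hd).2 e)
    have e3 : σ c ≠ σ d := fun e => n3 ((hsep c d hc hd).2 e)
    obtain ⟨g, hg⟩ := hmove 3 (by omega)
      ⟨![φ1, φ2, μ], by
        intro z w h
        fin_cases z <;> fin_cases w <;> simp at h <;> first | rfl | skip
        · exact absurd h hφne
        · exact absurd (h ▸ hφ1) hμ
        · exact absurd h.symm hφne
        · exact absurd (h ▸ hφ2) hμ
        · exact absurd (h.symm ▸ hφ1) hμ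
        · exact absurd (h.symm ▸ hφ2) hμ⟩
      ⟨![σ b, σ c, σ d], by
        intro z w h
        fin_cases z <;> fin_cases w <;> simp at h <;> first | rfl | skip
        · exact absurd h e1
        · exact absurd h e2
        · exact absurd h.symm e1
        · exact absurd h e3
        · exact absurd h.symm e2
        · exact absurd h.symm e3⟩
    have g0 : g • φ1 = σ b := hg 0
    have g1 : g • φ2 = σ c := hg 1
    have g2 : g • μ = σ d := hg 2
    obtain ⟨hga, hgd⟩ := hhave g
    refine ⟨(g : G) • P, hga, (hgd b hb).2 (by rw [← g0, inv_smul_smul]; exact hφ1),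
      (hgd c hc).2 (by rw [← g1, inv_smul_smul]; exact hφ2), fun h => hμ ?_⟩
    rw [hgd d hd, ← g2, inv_smul_smul] at h
    exact h
  · -- two points in one class and one in another
    have hcardF : (F \ {a}).ncard =
        ((Nat.card Ω - F.ncard) / p) * fm := by
      have hs : ∑ O ∈ parts p G a, fO (P : Subgroup G) O + 1 = F.ncard := sum_fO P ha
      have hq : ∑ O ∈ parts p G a, qO p (P : Subgroup G) O = (Nat.card Ω - F.ncard) / p :=
        sum_qO P ha
      rw [← hq, Finset.sum_mul]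
      have : (F \ {a}).ncard + 1 = F.ncard := Set.ncard_sdiff_singleton_add_one ha
      have hsum : ∑ O ∈ parts p G a, fO (P : Subgroup G) O =
          ∑ O ∈ parts p G a, qO p (P : Subgroup G) O * fm := by
        refine Finset.sum_congr rfl fun O hO => ?_
        obtain ⟨b, hb, rfl⟩ := mem_parts.1 hO
        exact h3 b hb
      omega
    have hlt : Fδ.ncard < (F \ {a}).ncard := by
      rw [hcardF, hFδcard]
      have := C.q2
      calc fm < 2 * fm := by omega
        _ ≤ _ := Nat.mul_le_mul_right _ this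
    obtain ⟨b, hb, d, hd, hbd, e⟩ := Set.exists_ne_map_eq_of_ncard_lt_of_maps_to hlt
      (f := σ) (fun z hz => (hσF z hz.2).1 hz.1) (Set.toFinite _)
    obtain ⟨δ', hδ', hne'⟩ : ∃ δ' ∈ Fδ, δ' ≠ σ b := by
      by_cases h : φ1 = σ b
      · exact ⟨φ2, hφ2, h ▸ hφne.symm⟩
      · exact ⟨φ1, hφ1, h⟩
    obtain ⟨g, hg⟩ := MulAction.exists_smul_eq L (σ b) δ'
    have hgne : (g : G) • b ≠ a := fun e => hb.2 (MulAction.injective (g : G)
      (e.trans (mem_st_iff_stab g.2).symm))
    have hgb : σ ((g : G) • b) = δ' := (hσeq b hb.2 g).trans hg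
    refine ⟨b, hb.1, d, hd.1, (g : G) • b, (hσF _ hgne).2 (hgb ▸ hδ'), hb.2, hd.2, hgne, hbd,
      (hsep b d hb.2 hd.2).2 e, fun h => hne' ?_⟩
    rw [← hgb]
    exact ((hsep b _ hb.2 hgne).1 h).symm

end Cfsg.Agent.Lead.FixBound
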