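import Cfsg.Agent.Lib.Lead.FixBound.Good

/-!
# No `p`-element fixes all good parts at a point without being trivial
-/

set_option autoImplicit false

namespace Cfsg.Agent.Lead.FixBound

open MulAction
open scoped Pointwise

universe u v

variable {p : ℕ} {G : Type u} [Group G] {Ω : Type v} [MulAction G Ω]

theorem fx_smul (g : G) (P : Sylow p G) : fx ((g • P : Sylow p G) : Subgroup G) Ω =
    g • fx (P : Subgroup G) Ω := by
  ext c
  rw [Set.mem_smul_set_iff_inv_smul_mem, mem_fx, mem_fx]
  constructor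
  · intro h x hx
    have := h (g * x * g⁻¹) (by
      rw [Sylow.coe_subgroup_smul]
      exact ⟨x, hx, rfl⟩)
    rw [mul_smul, mul_smul, smul_eq_iff_eq_inv_smul] at this
    exact this
  · intro h y hy
    rw [Sylow.coe_subgroup_smul] at hy
    obtain ⟨x, hx, rfl⟩ := hy
    show (g * x * g⁻¹) • c = c
    rw [mul_smul, mul_smul, h x hx, smul_inv_smul]

theorem smul_orbit_st (g : G) (a c : Ω) :
    g • orbit (st p G a) c = orbit (st p G (g • a)) (g • c) := by
  ext d
  constructor
  · rintro ⟨_, ⟨⟨h, hh⟩, rfl⟩, rfl⟩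
    refine ⟨⟨g * h * g⁻¹, smul_mem_st hh⟩, ?_⟩
    show (g * h * g⁻¹) • g • c = g • h • c
    rw [mul_smul, mul_smul, inv_smul_smul]
  · rintro ⟨⟨h, hh⟩, rfl⟩
    have := smul_mem_st (p := p) (x := g⁻¹) hh
    rw [inv_smul_smul, inv_inv] at this
    refine ⟨(g⁻¹ * h * g) • c, ⟨⟨_, this⟩, rfl⟩, ?_⟩
    show g • (g⁻¹ * h * g) • c = h • g • c
    rw [smul_smul, smul_smul]
    group

variable [Finite G] [Finite Ω] [Fact p.Prime]

theorem goodAt_smul (g : G) (P : Sylow p G) (a : Ω) (O : Set Ω)
    (h : GoodAt p (P : Subgroup G) a O) :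
    GoodAt p ((g • P : Sylow p G) : Subgroup G) (g • a) (g • O) := by
  refine ⟨?_, ?_⟩
  · have := h.1
    unfold fO at this ⊢
    rw [fx_smul, ← Set.smul_set_inter, Set.ncard_smul_set]
    exact this
  · refine lt_of_le_of_lt ?_ h.2
    have hkey : ∀ c : Ω, key (st p G (g • a)) (fx ((g • P : Sylow p G) : Subgroup G) Ω) (g • c) =
        (fun x => g * x * g⁻¹) '' key (st p G a) (fx (P : Subgroup G) Ω) c := by
      intro c
      ext x
      simp only [key, Set.mem_ofPred_eq, Set.mem_image, fx_smul]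
      constructor
      · rintro ⟨hx, hxc⟩
        have h1 := smul_mem_st (p := p) (x := g⁻¹) hx
        rw [inv_smul_smul, inv_inv] at h1
        refine ⟨g⁻¹ * x * g, ⟨h1, ?_⟩, by group⟩
        rw [Set.mem_smul_set_iff_inv_smul_mem] at hxc
        rwa [mul_smul, mul_smul]
      · rintro ⟨y, ⟨hy, hyc⟩, rfl⟩
        refine ⟨smul_mem_st hy, ?_⟩
        rw [mul_smul, mul_smul, inv_smul_smul]
        exact Set.smul_mem_smul_set hyc
    have : key (st p G (g • a)) (fx ((g • P : Sylow p G) : Subgroup G) Ω) '' (g • O) =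
        (fun K : Set G => (fun x => g * x * g⁻¹) '' K) ''
          (key (st p G a) (fx (P : Subgroup G) Ω) '' O) := by
      rw [← Set.image_smul, Set.image_image, Set.image_image]
      exact Set.image_congr fun c _ => hkey c
    rw [this]
    exact Set.ncard_image_le ((Set.toFinite O).image _)

/-- Two Sylow subgroups at `a` are conjugate inside the group at `a`. -/
theorem exists_st_conj (P Q : Sylow p G) {a : Ω} (hP : a ∈ fx (P : Subgroup G) Ω)
    (hQ : a ∈ fx (Q : Subgroup G) Ω) : ∃ h ∈ st p G a, h • P = Q := by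
  obtain ⟨h, hh⟩ := MulAction.exists_smul_eq (st p G a) (P.subtype (le_st hP))
    (Q.subtype (le_st hQ))
  refine ⟨h, h.2, ?_⟩
  rw [Sylow.smul_subtype] at hh
  exact Sylow.subtype_injective hh

theorem smul_orbit_of_mem {a b : Ω} {h : G} (hh : h ∈ st p G a) :
    h • orbit (st p G a) b = orbit (st p G a) b := by
  have := smul_orbit (⟨h, hh⟩ : st p G a) b
  exact this

theorem goodAt_indep (P Q : Sylow p G) {a b : Ω} (hP : a ∈ fx (P : Subgroup G) Ω)
    (hQ : a ∈ fx (Q : Subgroup G) Ω) (h : GoodAt p (P : Subgroup G) a (orbit (st p G a) b)) :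
    GoodAt p (Q : Subgroup G) a (orbit (st p G a) b) := by
  obtain ⟨g, hg, rfl⟩ := exists_st_conj P Q hP hQ
  have := goodAt_smul g P a _ h
  rwa [mem_st_iff_stab hg, smul_orbit_of_mem hg] at this

/-- The points in good parts at `a`. -/
def goodPts (p : ℕ) (G : Type u) [Group G] [MulAction G Ω] (a : Ω) : Set Ω :=
  {c | c ≠ a ∧ ∃ Q : Sylow p G, a ∈ fx (Q : Subgroup G) Ω ∧
    GoodAt p (Q : Subgroup G) a (orbit (st p G a) c)}

/-- The `p`-part of the kernel on the good parts at `a`. -/
def NN (p : ℕ) (G : Type u) [Group G] [MulAction G Ω] (a : Ω) : Subgroup G :=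
  pcl p (st p G a ⊓ fixingSubgroup G (goodPts p G a))

theorem mem_goodPts {P : Sylow p G} {a c : Ω} (ha : a ∈ fx (P : Subgroup G) Ω) :
    c ∈ goodPts p G a ↔ c ≠ a ∧ GoodAt p (P : Subgroup G) a (orbit (st p G a) c) :=
  ⟨fun ⟨h, Q, hQ, hg⟩ => ⟨h, goodAt_indep Q P hQ ha hg⟩, fun ⟨h, hg⟩ => ⟨h, P, ha, hg⟩⟩

theorem smul_mem_goodPts {a c : Ω} (g : G) (h : c ∈ goodPts p G a) :
    g • c ∈ goodPts p G (g • a) := by
  obtain ⟨hne, Q, hQ, hg⟩ := h
  refine ⟨fun e => hne (MulAction.injective g e), g • Q, ?_, ?_⟩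
  · rw [fx_smul]; exact Set.smul_mem_smul_set hQ
  · rw [← smul_orbit_st]; exact goodAt_smul g Q a _ hg

theorem NN_le (a : Ω) : NN p G a ≤ st p G a := (pcl_le _).trans inf_le_left

theorem NN_fix {a c : Ω} {g : G} (hg : g ∈ NN p G a) (hc : c ∈ goodPts p G a) : g • c = c :=
  (mem_fixingSubgroup_iff G).1 (pcl_le _ hg).2 c hc

theorem conj_mem_NN {a : Ω} (x : G) {g : G} (hg : g ∈ NN p G a) :
    x * g * x⁻¹ ∈ NN p G (x • a) := by
  induction hg using Subgroup.closure_induction with
  | mem y hy =>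
    refine mem_pcl ⟨smul_mem_st hy.1.1, (mem_fixingSubgroup_iff G).2 fun c hc => ?_⟩ (hy.2.conj x)
    have h1 := smul_mem_goodPts x⁻¹ hc
    rw [inv_smul_smul] at h1
    rw [mul_smul, mul_smul, (mem_fixingSubgroup_iff G).1 hy.1.2 _ h1, smul_inv_smul]
  | one => simp [one_mem]
  | mul a b _ _ ha hb =>
    rw [show x * (a * b) * x⁻¹ = x * a * x⁻¹ * (x * b * x⁻¹) by group]; exact mul_mem ha hb
  | inv a _ ha =>
    rw [show x * a⁻¹ * x⁻¹ = (x * a * x⁻¹)⁻¹ by group]; exact inv_mem ha

theorem NN_normal {a : Ω} {g : G} (hg : g ∈ st p G a) {x : G} (hx : x ∈ NN p G a) :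
    g * x * g⁻¹ ∈ NN p G a := by
  have := conj_mem_NN g hx
  rwa [mem_st_iff_stab hg] at this

theorem NN_pgen (a : Ω) : pcl p (NN p G a) = NN p G a := pcl_idem _

/-- If every part at every fixed point has a fixed point, only the identity fixes all good parts. -/
theorem NN_eq_bot {P : Sylow p G} (C : Crit p Ω P) {a : Ω} (ha : a ∈ fx (P : Subgroup G) Ω)
    (hpos : ∀ b, b ≠ a → 0 < fO (P : Subgroup G) (orbit (st p G a) b)) : NN p G a = ⊥ := by
  classical
  by_contra hne
  haveI := C.prim
  haveI := C.faith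
  set F := fx (P : Subgroup G) Ω with hF
  obtain ⟨b0, hb0a, hb0⟩ := exists_good C ha
  obtain ⟨b, hbF, hbO⟩ := (Set.ncard_pos (Set.toFinite _)).1 hb0.1
  have hba : b ≠ a := fun e => a_notMem (p := p) (G := G) hb0a (e ▸ hbO)
  have hbgood : b ∈ goodPts p G a :=
    (mem_goodPts ha).2 ⟨hba, by rwa [orbit_eq_iff.2 hbO]⟩
  have hNb : NN p G a ≤ st p G b := by
    rw [NN, pcl, Subgroup.closure_le]
    exact fun g hg => mem_pcl (mem_stabilizer_iff.2 (NN_fix (mem_pcl hg.1 hg.2) hbgood)) hg.2
  -- the trace of `P` fixes every good part at `b`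
  have key : ∀ t ∈ (P : Subgroup G) ⊓ NN p G a, ∀ c ∈ goodPts p G b, t • c = c := by
    intro t ht c hc
    by_contra htc
    obtain ⟨hcb, hcgood⟩ := (mem_goodPts hbF).1 hc
    set Λ := orbit (st p G b) c with hΛ
    have hca : c ≠ a := fun e => htc (e ▸ mem_st_iff_stab (NN_le a ht.2))
    set e := orbit (st p G a) c with he
    have hnotgood : ¬ GoodAt p (P : Subgroup G) a e := fun h =>
      htc (NN_fix ht.2 ((mem_goodPts ha).2 ⟨hca, h⟩))
    have htrans : ∀ d ∈ e, orbit (NN p G a) d = e :=
      (trivial_or_transitive C ha hca (NN_le a) (fun g hg x hx => NN_normal hg hx)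
        (NN_pgen a)).resolve_left fun h => htc (h t ht.2 c (mem_orbit_self c))
    have hsub : e ⊆ Λ := by
      rw [← htrans c (mem_orbit_self c)]
      rintro d ⟨g, rfl⟩
      exact ⟨⟨g, hNb g.2⟩, rfl⟩
    -- inside `e` the fixed points of the trace are the fixed points of `P`
    have hfix : ∀ d ∈ e, (∀ s ∈ (P : Subgroup G) ⊓ NN p G a, s • d = d) → d ∈ F := by
      intro d hd hs
      by_contra hdF
      exact good_moves_all C hbF hcb hcgood ht.1 (mem_orbit_self c) htc (hsub hd) hdF (hs t ht)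
    obtain ⟨R, hR⟩ := exists_sylow_inf P (le_st ha) (NN_le a) fun g hg x hx => NN_normal hg hx
    -- equal classes at `b` give equal classes at `a`
    have hcls : ∀ d ∈ e, ∀ d' ∈ e, key (st p G b) F d = key (st p G b) F d' →
        key (st p G a) F d = key (st p G a) F d' := by
      have haux : ∀ d ∈ e, ∀ d' ∈ e, key (st p G b) F d = key (st p G b) F d' →
          ∀ g ∈ st p G a, g • d ∈ F → g • d' ∈ F := by
        intro d hd d' hd' hk g hg hgd
        -- write `g = h n` with `h` normalising the trace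
        let φ : NN p G a →* NN p G a :=
          { toFun := fun x => ⟨g⁻¹ * x * g, by
              have := NN_normal (inv_mem hg) x.2
              rwa [inv_inv] at this⟩
            map_one' := Subtype.ext (by simp)
            map_mul' := fun x y => Subtype.ext (by simp [mul_assoc]) }
        have hφ : Function.Injective φ := fun x y hxy => by
          have := congrArg (Subtype.val (p := fun z => z ∈ NN p G a)) hxy
          exact Subtype.ext (by simpa [φ] using this)
        have hR' : IsPGroup p ((R : Subgroup (NN p G a)).map φ) := R.isPGroup'.map φ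
        obtain ⟨R', hR''⟩ := hR'.exists_le_sylow
        obtain ⟨n, hn⟩ := MulAction.exists_smul_eq (NN p G a) R' R
        have hnorm : ∀ s ∈ (P : Subgroup G) ⊓ NN p G a,
            ((n : G) * g⁻¹) * s * ((n : G) * g⁻¹)⁻¹ ∈ (P : Subgroup G) ⊓ NN p G a := by
          intro s hs
          rw [← hR] at hs
          obtain ⟨r, hr, rfl⟩ := hs
          rw [← hR]
          refine ⟨n * φ r * n⁻¹, ?_, ?_⟩
          · show n * φ r * n⁻¹ ∈ (R : Subgroup (NN p G a))
            rw [← hn, Sylow.coe_subgroup_smul]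
            exact ⟨φ r, hR'' ⟨r, hr, rfl⟩, rfl⟩
          · show (n : G) * (g⁻¹ * (r : G) * g) * (n : G)⁻¹ = _
            simp only [Subgroup.coe_subtype]
            group
        have hgd' : (n : G) • d ∈ F := by
          refine hfix _ (orbit_smul_mem (NN_le a n.2) hd) fun s hs => ?_
          -- `(n g⁻¹) s' (n g⁻¹)⁻¹` runs over the trace
          let θ : ((P : Subgroup G) ⊓ NN p G a : Subgroup G) →
              ((P : Subgroup G) ⊓ NN p G a : Subgroup G) :=
            fun s => ⟨_, hnorm s s.2⟩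
          have hθ : Function.Surjective θ := Finite.injective_iff_surjective.1 fun x y hxy => by
            have := congrArg (Subtype.val
              (p := fun z => z ∈ (P : Subgroup G) ⊓ NN p G a)) hxy
            exact Subtype.ext (by simpa [θ] using this)
          obtain ⟨⟨s', hs'⟩, hse⟩ := hθ ⟨s, hs⟩
          have e1 : ((n : G) * g⁻¹) * s' * ((n : G) * g⁻¹)⁻¹ = s := congrArg Subtype.val hse
          rw [← e1, show (n : G) • d = ((n : G) * g⁻¹) • g • d by
            rw [smul_smul, inv_mul_cancel_right], mul_smul, mul_smul, inv_smul_smul,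
            mem_fx.1 hgd s' hs'.1]
        have hnd' : (n : G) • d' ∈ F := by
          have h1 : (n : G) ∈ key (st p G b) F d := ⟨hNb n.2, hgd'⟩
          rw [hk] at h1
          exact h1.2
        refine hfix _ (orbit_smul_mem hg hd') fun s hs => ?_
        have := mem_fx.1 hnd' _ (hnorm s hs).1
        rw [show (n : G) • d' = ((n : G) * g⁻¹) • g • d' by
          rw [smul_smul, inv_mul_cancel_right], mul_smul, mul_smul, inv_smul_smul] at this
        exact MulAction.injective _ this
      intro d hd d' hd' hk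
      ext g
      exact ⟨fun h => ⟨h.1, haux d hd d' hd' hk g h.1 h.2⟩,
        fun h => ⟨h.1, haux d' hd' d hd hk.symm g h.1 h.2⟩⟩
    refine hnotgood ⟨hpos c hca, lt_of_le_of_lt ?_ hcgood.2⟩
    -- classes of `e` at `a` are images of classes at `b`
    have h1 : (key (st p G a) F '' e).ncard ≤ (key (st p G b) F '' e).ncard := by
      have hex : ∀ K, ∃ d, K ∈ key (st p G b) F '' e → d ∈ e ∧ key (st p G b) F d = K := fun K => by
        by_cases h : K ∈ key (st p G b) F '' e
        · exact ⟨h.choose, fun _ => h.choose_spec⟩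
        · exact ⟨a, fun h' => absurd h' h⟩
      choose σ hσ using hex
      refine le_trans (Set.ncard_le_ncard (t := (fun K => key (st p G a) F (σ K)) ''
        (key (st p G b) F '' e)) ?_ (((Set.toFinite e).image _).image _))
        (Set.ncard_image_le ((Set.toFinite e).image _))
      rintro _ ⟨d, hd, rfl⟩
      obtain ⟨h2, h3⟩ := hσ _ (Set.mem_image_of_mem _ hd)
      exact ⟨_, Set.mem_image_of_mem _ hd, hcls _ h2 d hd h3⟩
    exact h1.trans (Set.ncard_le_ncard (Set.image_mono hsub) ((Set.toFinite Λ).image _))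
  -- so the kernel at `a` lies in the kernel at `b`
  have hle : NN p G a ≤ NN p G b := by
    rw [← NN_pgen a, pcl, Subgroup.closure_le]
    rintro g ⟨hg, hgp⟩
    obtain ⟨t, htN, htP⟩ := exists_conj_mem P (le_st ha) (NN_le a)
      (fun g hg x hx => NN_normal hg hx) hg hgp
    have hmem : t * g * t⁻¹ ∈ (P : Subgroup G) ⊓ NN p G a :=
      ⟨htP, (NN p G a).mul_mem ((NN p G a).mul_mem htN hg) ((NN p G a).inv_mem htN)⟩
    have h1 : t * g * t⁻¹ ∈ NN p G b := mem_pcl
      ⟨le_st hbF htP, (mem_fixingSubgroup_iff G).2 fun c hc => key _ hmem c hc⟩ (hgp.conj t)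
    have := NN_normal (inv_mem (hNb htN)) h1
    rw [show t⁻¹ * (t * g * t⁻¹) * t⁻¹⁻¹ = g by group] at this
    exact this
  -- hence equal
  obtain ⟨k, hk⟩ := MulAction.exists_smul_eq G a b
  have hcard : Nat.card (NN p G b) ≤ Nat.card (NN p G a) := by
    refine le_trans (le_of_eq ?_) (Subgroup.card_le_of_le
      (H := (NN p G b).map (MulAut.conj k⁻¹).toMonoidHom) ?_)
    · exact (Subgroup.card_map_of_injective (MulAut.conj k⁻¹).injective).symm
    · rintro _ ⟨g, hg, rfl⟩
      have := conj_mem_NN k⁻¹ hg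
      rwa [← hk, inv_smul_smul] at this
  have heq : NN p G a = NN p G b := Subgroup.eq_of_le_of_card_ge hle hcard
  -- a block
  set D : Set Ω := {c | NN p G c = NN p G a} with hD
  have hB : IsBlock G D := by
    rw [isBlock_iff_smul_eq_of_nonempty]
    rintro g ⟨z, hz1, hz2⟩
    obtain ⟨z', hz', rfl⟩ := hz1
    have hmap : ∀ c : Ω, (NN p G c).map (MulAut.conj g).toMonoidHom = NN p G (g • c) := by
      intro c
      refine le_antisymm ?_ fun y hy => ?_
      · rintro _ ⟨y, hy, rfl⟩
        exact conj_mem_NN g hy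
      · have := conj_mem_NN g⁻¹ hy
        rw [inv_smul_smul] at this
        exact ⟨_, this, by simp [mul_assoc]⟩
    have e1 : NN p G (g • a) = NN p G a := by
      rw [← hmap a, ← show NN p G z' = NN p G a from hz', hmap z']
      exact hz2.trans hz'.symm
    ext c
    rw [Set.mem_smul_set_iff_inv_smul_mem]
    constructor
    · intro hc
      have : NN p G (g⁻¹ • c) = NN p G a := hc
      show NN p G c = NN p G a
      rw [← smul_inv_smul g c, ← hmap, this, hmap, e1]
    · intro hc
      show NN p G (g⁻¹ • c) = NN p G a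
      refine Subgroup.map_injective (f := (MulAut.conj g).toMonoidHom) (MulAut.conj g).injective ?_
      rw [hmap, hmap, smul_inv_smul, e1]
      exact hc
  rcases IsPreprimitive.isTrivialBlock_of_isBlock hB with h | h
  · exact hba (h (show b ∈ D from heq.symm) (show a ∈ D from rfl))
  · refine hne ((Subgroup.eq_bot_iff_forall _).2 fun g hg => ?_)
    refine FaithfulSMul.eq_of_smul_eq_smul (α := Ω) fun c => ?_
    rw [one_smul]
    have hc : c ∈ D := h ▸ Set.mem_univ c
    have : g ∈ NN p G c := by rw [show NN p G c = NN p G a from hc]; exact hg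
    exact mem_st_iff_stab (NN_le c this)

end Cfsg.Agent.Lead.FixBound
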